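import Cfsg.Agent.OddIndex.Wreath
import Cfsg.Agent.Classical.SL2Sylow

/-!
The case of `GL₂`, and the normalisers of Sylow 2-subgroups of `SL` in dimension `2 ^ w`.
-/

set_option autoImplicit false

namespace Cfsg.Agent.OddIndex

open Matrix

variable {F : Type*} [Field F] [Finite F]

/-- An odd order element normalising a 2-group and centralising a nonscalar element of it is scalar. -/
theorem scalar_of_commute {T : Subgroup (GL (Fin 2) F)} (hT : IsPGroup 2 T) {z : GL (Fin 2) F} (hz : z ∈ T)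
    (hzs : ∀ c : F, (z : Matrix (Fin 2) (Fin 2) F) ≠ c • 1) (hnc : ∃ w ∈ T, w * z ≠ z * w)
    {g : GL (Fin 2) F} (hodd : Odd (orderOf g)) (hg : ∀ t ∈ T, g * t * g⁻¹ ∈ T) (hgz : g * z = z * g) :
    g ∈ (scal F (Fin 2)).range := by
  have := hT.isNilpotent
  set C : Subgroup T := (Subgroup.centralizer ({z} : Set (GL (Fin 2) F))).subgroupOf T with hC
  have hlt : C < ⊤ := by
    rw [lt_top_iff_ne_top]
    intro h
    obtain ⟨w, hw, hwz⟩ := hnc
    apply hwz
    have : (⟨w, hw⟩ : T) ∈ C := h ▸ Subgroup.mem_top _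
    rwa [hC, Subgroup.mem_subgroupOf, Subgroup.mem_centralizer_singleton_iff] at this
  obtain ⟨s, hsN, hsC⟩ := SetLike.exists_of_lt (Group.normalizerCondition_of_isNilpotent _ hlt)
  have hz' : (⟨z, hz⟩ : T) ∈ C := by
    rw [hC, Subgroup.mem_subgroupOf, Subgroup.mem_centralizer_singleton_iff]
  have hsz : ((s : GL (Fin 2) F) * z * (s : GL (Fin 2) F)⁻¹) * z = z * ((s : GL (Fin 2) F) * z * (s : GL (Fin 2) F)⁻¹) := by
    have := ((Subgroup.mem_normalizer_iff.1 hsN) ⟨z, hz⟩).1 hz'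
    rwa [hC, Subgroup.mem_subgroupOf, Subgroup.mem_centralizer_singleton_iff] at this
  have hsz' : (s : GL (Fin 2) F) * z ≠ z * (s : GL (Fin 2) F) := fun h => hsC (by
    rw [hC, Subgroup.mem_subgroupOf, Subgroup.mem_centralizer_singleton_iff]; exact h)
  set z' := (s : GL (Fin 2) F) * z * (s : GL (Fin 2) F)⁻¹ with hz'def
  have hcomm : ∀ (a b c : GL (Fin 2) F), (∀ r : F, (a : Matrix (Fin 2) (Fin 2) F) ≠ r • 1) →
      a * b = b * a → a * c = c * a → b * c = c * b := by
    intro a b c ha hb hc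
    obtain ⟨p, q, e⟩ := Classical.exists_lin_of_commute ha
      (congrArg (fun x : GL (Fin 2) F => (x : Matrix (Fin 2) (Fin 2) F)) hb)
    have hc' : Commute (a : Matrix (Fin 2) (Fin 2) F) (c : Matrix (Fin 2) (Fin 2) F) :=
      congrArg (fun x : GL (Fin 2) F => (x : Matrix (Fin 2) (Fin 2) F)) hc
    ext1
    rw [Units.val_mul, Units.val_mul, e]
    exact ((hc'.smul_left p).add_left ((Commute.one_left _).smul_left q)).eq
  have hgz' : g * z' = z' * g := hcomm z g z' hzs hgz.symm hsz.symm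
  have hz's : ∀ r : F, (z' : Matrix (Fin 2) (Fin 2) F) ≠ r • 1 := by
    intro r e
    apply hzs r
    have : (z : Matrix (Fin 2) (Fin 2) F) =
        ((s : GL (Fin 2) F)⁻¹ : GL (Fin 2) F) * (z' : Matrix (Fin 2) (Fin 2) F) * ((s : GL (Fin 2) F) : Matrix (Fin 2) (Fin 2) F) := by
      rw [← Units.val_mul, ← Units.val_mul, hz'def]
      congr 1
      group
    rw [this, e, Matrix.mul_smul, Matrix.mul_one, Matrix.smul_mul, ← Units.val_mul, inv_mul_cancel, Units.val_one]
  set g' := (s : GL (Fin 2) F) * g * (s : GL (Fin 2) F)⁻¹ with hg'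
  have hg'z' : z' * g' = g' * z' := by
    rw [hz'def, hg']
    calc (s : GL (Fin 2) F) * z * (s : GL (Fin 2) F)⁻¹ * ((s : GL (Fin 2) F) * g * (s : GL (Fin 2) F)⁻¹)
        = (s : GL (Fin 2) F) * (z * g) * (s : GL (Fin 2) F)⁻¹ := by group
      _ = (s : GL (Fin 2) F) * (g * z) * (s : GL (Fin 2) F)⁻¹ := by rw [hgz]
      _ = _ := by group
  have hgg' : g * g' = g' * g := hcomm z' g g' hz's hgz'.symm hg'z'
  have hu : g * g'⁻¹ ∈ T := by
    have h1 := mul_mem (hg _ s.2) (inv_mem s.2)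
    have e : g * g'⁻¹ = g * (s : GL (Fin 2) F) * g⁻¹ * (s : GL (Fin 2) F)⁻¹ := by rw [hg']; group
    rwa [e]
  have hm : (g * g'⁻¹) ^ orderOf g = 1 := by
    rw [(Commute.inv_right hgg').mul_pow, pow_orderOf_eq_one, one_mul, _root_.inv_pow, hg']
    have : ((s : GL (Fin 2) F) * g * (s : GL (Fin 2) F)⁻¹) ^ orderOf g = 1 := by
      rw [conj_pow, pow_orderOf_eq_one, mul_one, mul_inv_cancel]
    rw [this, inv_one]
  obtain ⟨j, hj⟩ := hT ⟨_, hu⟩
  have hgs : g = g' := mul_inv_eq_one.1 (eq_one_of_odd_two hodd hm (congrArg Subtype.val hj))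
  have hgs' : g * (s : GL (Fin 2) F) = (s : GL (Fin 2) F) * g := by
    conv_lhs => rw [hgs, hg']
    group
  by_contra hns
  have hgns : ∀ r : F, (g : Matrix (Fin 2) (Fin 2) F) ≠ r • 1 := by
    intro r e
    have hr : r ≠ 0 := by
      rintro rfl
      rw [zero_smul] at e
      exact g.ne_zero e
    exact hns ⟨Units.mk0 r hr, Units.ext (by rw [coe_scal, e, Units.val_mk0])⟩
  exact hsz' (hcomm g s z hgns hgs' hgz)

theorem exists_two_nonsquare (hF : (2 : F) ≠ 0) :
    ∃ a : Fˣ, (∃ k : ℕ, a ^ 2 ^ k = 1) ∧ ∀ b : Fˣ, b ^ 2 ≠ a := by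
  classical
  haveI := Fintype.ofFinite F
  have hchar : ringChar F ≠ 2 := fun h => hF (by
    have : CharP F 2 := h ▸ ringChar.charP F
    exact CharTwo.two_eq_zero)
  obtain ⟨c, hc⟩ := FiniteField.exists_nonsquare hchar
  have hc0 : c ≠ 0 := fun h => hc ⟨0, by simp [h]⟩
  set u : Fˣ := Units.mk0 c hc0 with hu
  have hus : ∀ b : Fˣ, b ^ 2 ≠ u := fun b hb => hc ⟨b, by
    have := congrArg Units.val hb
    simpa [hu, pow_two] using this.symm⟩
  obtain ⟨k, r, hr, hkr⟩ := Nat.exists_eq_pow_mul_and_not_dvd (orderOf_pos u).ne' 2 (by norm_num)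
  refine ⟨u ^ r, ⟨k, by rw [← pow_mul, mul_comm, ← hkr, pow_orderOf_eq_one]⟩, fun b hb => ?_⟩
  obtain ⟨j, hj⟩ : Odd r := by rw [← Nat.not_even_iff_odd, even_iff_two_dvd]; exact hr
  apply hus (b * (u ^ j)⁻¹)
  rw [mul_pow, hb, hj, pow_succ, _root_.inv_pow, ← pow_mul, mul_comm j 2, mul_comm (u ^ (2 * j)) u,
    mul_inv_cancel_right]

/-- Generators of a Sylow 2-subgroup of SL₂. -/
theorem exists_quaternion_pair [Fintype F] (hF : Odd (Fintype.card F))
    (P : Sylow 2 (SpecialLinearGroup (Fin 2) F)) :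
    ∃ (x y : SpecialLinearGroup (Fin 2) F), x ∈ P ∧ y ∈ P ∧ y * x * y⁻¹ = x⁻¹ ∧ x * y ≠ y * x ∧
      (∀ z ∈ P, (∃ i : ℕ, z = x ^ i) ∨ ∃ i : ℕ, z = y * x ^ i) ∧
      (∀ i : ℕ, orderOf (y * x ^ i) = 4) ∧ (∃ k : ℕ, 1 ≤ k ∧ orderOf x = 2 ^ (k + 1)) := by
  obtain ⟨k, hk, ⟨e⟩⟩ := Classical.sylow_two_sl2 hF P
  have : NeZero (2 ^ k) := ⟨pow_ne_zero _ two_ne_zero⟩
  set X := e.symm (QuaternionGroup.a 1)
  set Y := e.symm (QuaternionGroup.xa 0)
  have hXi : ∀ i : ℕ, X ^ i = e.symm (QuaternionGroup.a (i : ZMod (2 * 2 ^ k))) := fun i => by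
    rw [← map_pow, QuaternionGroup.a_one_pow]
  refine ⟨X.1, Y.1, X.2, Y.2, ?_, ?_, fun z hz => ?_, fun i => ?_, k, hk, ?_⟩
  · have : Y * X * Y⁻¹ = X⁻¹ := by
      rw [mul_inv_eq_iff_eq_mul]
      apply e.injective
      simp [X, Y, map_mul, map_inv, QuaternionGroup.xa_mul_a]
      rw [show (QuaternionGroup.a (1 : ZMod (2 * 2 ^ k)))⁻¹ = QuaternionGroup.a (-1) from rfl,
        QuaternionGroup.a_mul_xa]
      simp
    simpa using congrArg Subtype.val this
  · intro h
    have h' : X * Y = Y * X := Subtype.ext h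
    have h'' := congrArg e h'
    simp only [X, Y, map_mul, MulEquiv.apply_symm_apply, QuaternionGroup.a_mul_xa, QuaternionGroup.xa_mul_a] at h''
    have h3 := QuaternionGroup.xa.inj h''
    have h4 : ((2 : ℕ) : ZMod (2 * 2 ^ k)) = 0 := by push_cast; linear_combination -h3
    rw [ZMod.natCast_eq_zero_iff] at h4
    have := Nat.le_of_dvd (by norm_num) h4
    have : 2 ≤ 2 ^ k := by calc 2 = 2 ^ 1 := rfl
      _ ≤ 2 ^ k := Nat.pow_le_pow_right (by norm_num) hk
    omega
  · rcases hq : e ⟨z, hz⟩ with i | i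
    · refine Or.inl ⟨i.val, ?_⟩
      have : (⟨z, hz⟩ : (P : Subgroup (SpecialLinearGroup (Fin 2) F))) = X ^ i.val := by
        apply e.injective
        rw [hXi, MulEquiv.apply_symm_apply, hq, ZMod.natCast_zmod_val]
      simpa using congrArg Subtype.val this
    · refine Or.inr ⟨i.val, ?_⟩
      have : (⟨z, hz⟩ : (P : Subgroup (SpecialLinearGroup (Fin 2) F))) = Y * X ^ i.val := by
        apply e.injective
        rw [hXi, map_mul, MulEquiv.apply_symm_apply, MulEquiv.apply_symm_apply, hq, ZMod.natCast_zmod_val,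
          QuaternionGroup.xa_mul_a, zero_add]
      simpa using congrArg Subtype.val this
  · have h : orderOf (Y * X ^ i) = 4 := by
      rw [hXi, ← map_mul, MulEquiv.orderOf_eq, QuaternionGroup.xa_mul_a, QuaternionGroup.orderOf_xa]
    rw [← h, ← Subgroup.orderOf_coe]
    simp
  · rw [Subgroup.orderOf_coe, MulEquiv.orderOf_eq, QuaternionGroup.orderOf_a_one, pow_succ']

omit [Finite F] in
theorem nonscalar_of_not_commute {x y : Matrix (Fin 2) (Fin 2) F} (h : x * y ≠ y * x) (c : F) : x ≠ c • 1 := by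
  rintro rfl
  exact h (by simp)

/-- The two-dimensional case, from a pair with full span and an element of nonsquare determinant. -/
theorem good_base {M T : Subgroup (GL (Fin 2) F)} (hle : T ≤ M) (hT2 : IsPGroup 2 T)
    (hmax : ∀ S : Subgroup (GL (Fin 2) F), T ≤ S → S ≤ M → IsPGroup 2 S → S = T)
    (hneg : scal F (Fin 2) (-1) ∈ M)
    (hspan : Submodule.span F
      {N : Matrix (Fin 2) (Fin 2) F | ∃ t ∈ T, Matrix.GeneralLinearGroup.det t = 1 ∧ (t : Matrix (Fin 2) (Fin 2) F) = N}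
        = ⊤)
    {X Y : GL (Fin 2) F} (hXT : X ∈ T) (hYT : Y ∈ T) (dX : Matrix.GeneralLinearGroup.det X = 1)
    (dY : Matrix.GeneralLinearGroup.det Y = 1) (hXY : X * Y ≠ Y * X) {a : Fˣ} {t0 : GL (Fin 2) F} (ht0T : t0 ∈ T)
    (hdett0 : Matrix.GeneralLinearGroup.det t0 = a) (hans : ∀ b : Fˣ, scal F (Fin 2) b ∈ M → b ^ 2 ≠ a) :
    Good M T := by
  refine ⟨hle, hT2, hmax, hneg, fun g hgM hodd hg => ?_, hspan, X, hXT, Y, hYT, dX, dY, hXY⟩
  refine mem_of_primeParts _ (orderOf g) g (pow_orderOf_eq_one g) (fun r k j hr hrd hrk => ?_) (orderOf_pos g).ne'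
  have hgj : ∀ t ∈ T, g ^ j * t * (g ^ j)⁻¹ ∈ T := by
    clear hrk
    induction j with
    | zero => intro t ht; simpa using ht
    | succ j ih =>
      intro t ht
      convert hg _ (ih t ht) using 1
      rw [pow_succ']; group
  have hr2 : r ≠ 2 := fun h => by
    subst h
    exact (Nat.not_even_iff_odd.2 hodd) (even_iff_two_dvd.2 hrd)
  haveI : Fact r.Prime := ⟨hr⟩
  haveI : Fact (Nat.Prime 2) := ⟨Nat.prime_two⟩
  set C := {t : GL (Fin 2) F // t ∈ T ∧ Matrix.GeneralLinearGroup.det t = a}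
  let K : Subgroup (GL (Fin 2) F) := (T : Subgroup (GL (Fin 2) F)) ⊓ (Matrix.GeneralLinearGroup.det : GL (Fin 2) F →* Fˣ).ker
  have hcard : ¬ r ∣ Nat.card C := by
    have e : Nat.card C = Nat.card K := Nat.card_congr
      { toFun := fun t => ⟨t.1 * t0⁻¹, Subgroup.mem_inf.2 ⟨mul_mem (t.2.1 : t.1 ∈ (T : Subgroup (GL (Fin 2) F)))
            (inv_mem (ht0T : t0 ∈ (T : Subgroup (GL (Fin 2) F)))),
          MonoidHom.mem_ker.2 (by rw [map_mul, map_inv, t.2.2, hdett0, mul_inv_cancel])⟩⟩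
        invFun := fun u => ⟨u.1 * t0, mul_mem u.2.1 ht0T, by
          rw [map_mul, hdett0, MonoidHom.mem_ker.1 u.2.2, one_mul]⟩
        left_inv := fun t => by simp
        right_inv := fun u => by simp }
    rw [e]
    obtain ⟨m, hm⟩ := (IsPGroup.iff_card.1 (hT2.to_le (H := K) inf_le_left))
    rw [hm]
    exact fun h => hr2 ((Nat.prime_dvd_prime_iff_eq hr Nat.prime_two).1 (hr.dvd_of_dvd_pow h))
  let f : C → C := fun t => ⟨g ^ j * t.1 * (g ^ j)⁻¹, hgj _ t.2.1, by
    rw [map_mul, map_mul, map_inv, t.2.2, mul_comm (Matrix.GeneralLinearGroup.det (g ^ j)), mul_inv_cancel_right]⟩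
  have hinj : Function.Injective f := fun p q e => by
    have := congrArg Subtype.val e
    simp only [f] at this
    exact Subtype.ext (mul_left_cancel (mul_right_cancel this))
  let σ : Equiv.Perm C := Equiv.ofBijective f hinj.bijective_of_finite
  have hσ : ∀ (n : ℕ) (t : C), ((σ ^ n) t).1 = (g ^ j) ^ n * t.1 * ((g ^ j) ^ n)⁻¹ := by
    intro n
    induction n with
    | zero => intro t; simp
    | succ n ih =>
      intro t
      rw [pow_succ', Equiv.Perm.mul_apply]
      show g ^ j * ((σ ^ n) t).1 * (g ^ j)⁻¹ = _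
      rw [ih, pow_succ' (g ^ j)]
      group
  haveI : Fintype C := Fintype.ofFinite C
  rw [Nat.card_eq_fintype_card] at hcard
  obtain ⟨t, ht⟩ := Equiv.Perm.exists_fixed_point_of_prime (p := r) (n := k) hcard (σ := σ) (by
    ext1 t
    exact Subtype.ext (by rw [hσ, hrk]; simp))
  have hfix : g ^ j * t.1 = t.1 * g ^ j := mul_inv_eq_iff_eq_mul.1 (congrArg Subtype.val ht)
  have hts : ∀ c : F, (t.1 : Matrix (Fin 2) (Fin 2) F) ≠ c • 1 := by
    intro c e
    have hc : c ≠ 0 := fun h => by rw [h, zero_smul] at e; exact t.1.ne_zero e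
    refine hans (Units.mk0 c hc) (by
      rw [show scal F (Fin 2) (Units.mk0 c hc) = t.1 from Units.ext (by rw [coe_scal, e, Units.val_mk0])]
      exact hle t.2.1) ?_
    rw [← t.2.2]
    ext1
    simp [e, pow_two]
  have hodd' : Odd (orderOf (g ^ j)) := hodd.of_dvd_nat (orderOf_dvd_of_mem_zpowers (pow_mem (Subgroup.mem_zpowers g) j))
  refine scalar_of_commute hT2 t.2.1 hts ?_ hodd' hgj hfix
  by_contra hc
  push Not at hc
  obtain ⟨p, q, e⟩ := Classical.exists_lin_of_commute hts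
    (congrArg (fun g : GL (Fin 2) F => (g : Matrix (Fin 2) (Fin 2) F)) (hc X hXT).symm)
  apply hXY
  have hcy : Commute (t.1 : Matrix (Fin 2) (Fin 2) F) (Y : Matrix (Fin 2) (Fin 2) F) :=
    congrArg (fun g : GL (Fin 2) F => (g : Matrix (Fin 2) (Fin 2) F)) (hc Y hYT).symm
  ext1
  rw [Units.val_mul, Units.val_mul, e]
  exact ((hcy.smul_left p).add_left ((Commute.one_left _).smul_left q)).eq

theorem good_two (h2 : (2 : F) ≠ 0) : ∃ T : Subgroup (GL (Fin 2) F), Good ⊤ T := by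
  classical
  haveI := Fintype.ofFinite F
  have hoddF : Odd (Fintype.card F) := by
    rw [← Nat.not_even_iff_odd]
    intro h
    obtain ⟨p, hp⟩ := CharP.exists F
    haveI := Fact.mk (CharP.char_is_prime F p)
    obtain ⟨f, hf1, hf⟩ := Classical.card_field_eq_pow (F := F) p
    rw [hf, Nat.even_pow' (by omega)] at h
    obtain rfl := (Nat.Prime.even_iff Fact.out).1 h
    exact h2 CharTwo.two_eq_zero
  obtain ⟨P0⟩ : Nonempty (Sylow 2 (SpecialLinearGroup (Fin 2) F)) := inferInstance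
  obtain ⟨T, hT⟩ := (P0.2.map (Matrix.SpecialLinearGroup.toGL (n := Fin 2) (R := F))).exists_le_sylow
  obtain ⟨x, y, hx, hy, hxy, hnc, -, -, -⟩ := exists_quaternion_pair hoddF P0
  set X := Matrix.SpecialLinearGroup.toGL x with hX
  set Y := Matrix.SpecialLinearGroup.toGL y with hY
  have hXT : X ∈ T := hT (Subgroup.mem_map_of_mem _ hx)
  have hYT : Y ∈ T := hT (Subgroup.mem_map_of_mem _ hy)
  have hdet : ∀ s : SpecialLinearGroup (Fin 2) F,
      Matrix.GeneralLinearGroup.det (Matrix.SpecialLinearGroup.toGL s) = 1 := fun s => Units.ext (by simp)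
  have hncm : (x : Matrix (Fin 2) (Fin 2) F) * y ≠ y * x := fun h => hnc (Subtype.ext h)
  -- the span
  have hspan : Submodule.span F
      {M : Matrix (Fin 2) (Fin 2) F | ∃ t ∈ T, Matrix.GeneralLinearGroup.det t = 1 ∧ (t : Matrix (Fin 2) (Fin 2) F) = M}
        = ⊤ := by
    set S := {M : Matrix (Fin 2) (Fin 2) F |
      ∃ t ∈ T, Matrix.GeneralLinearGroup.det t = 1 ∧ (t : Matrix (Fin 2) (Fin 2) F) = M}
    set t := (x : Matrix (Fin 2) (Fin 2) F).trace
    set Z : Matrix (Fin 2) (Fin 2) F := (2 : F) • (x : Matrix (Fin 2) (Fin 2) F) - t • 1 with hZ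
    have hsq := Classical.sq_eq_trace_smul x
    have hinv : ((x⁻¹ : SpecialLinearGroup (Fin 2) F) : Matrix (Fin 2) (Fin 2) F) = t • 1 - (x : Matrix (Fin 2) (Fin 2) F) := by
      have h1 : (x : Matrix (Fin 2) (Fin 2) F) * (t • 1 - (x : Matrix (Fin 2) (Fin 2) F)) = 1 := by
        rw [mul_sub, hsq, Matrix.mul_smul, Matrix.mul_one]
        abel
      calc ((x⁻¹ : SpecialLinearGroup (Fin 2) F) : Matrix (Fin 2) (Fin 2) F)
          = ((x⁻¹ : SpecialLinearGroup (Fin 2) F) : Matrix (Fin 2) (Fin 2) F) *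
            ((x : Matrix (Fin 2) (Fin 2) F) * (t • 1 - (x : Matrix (Fin 2) (Fin 2) F))) := by rw [h1, mul_one]
        _ = _ := by rw [← mul_assoc, ← Matrix.SpecialLinearGroup.coe_mul, inv_mul_cancel,
          Matrix.SpecialLinearGroup.coe_one, one_mul]
    have hyx : (y : Matrix (Fin 2) (Fin 2) F) * x = (t • 1 - (x : Matrix (Fin 2) (Fin 2) F)) * y := by
      have := congrArg (fun s : SpecialLinearGroup (Fin 2) F => (s : Matrix (Fin 2) (Fin 2) F)) (mul_inv_eq_iff_eq_mul.1 hxy)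
      simp only [Matrix.SpecialLinearGroup.coe_mul, hinv] at this
      exact this
    have hyZ : (y : Matrix (Fin 2) (Fin 2) F) * Z = -(Z * y) := by
      rw [hZ, mul_sub, Matrix.mul_smul, hyx, Matrix.mul_smul, Matrix.mul_one, sub_mul, sub_mul, Matrix.smul_mul,
        Matrix.smul_mul, Matrix.one_mul, smul_sub, smul_smul]
      module
    have hZ2 : Z * Z = (t * t - 4) • 1 := by
      rw [hZ, sub_mul, mul_sub, mul_sub, Matrix.smul_mul, Matrix.mul_smul, hsq]
      simp only [Matrix.mul_smul, Matrix.mul_one, Matrix.smul_mul, Matrix.one_mul, smul_sub, smul_smul]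
      module
    have hD : t * t - 4 ≠ 0 := by
      intro hD
      rw [hD, zero_smul] at hZ2
      apply hncm
      have e2 : (x : Matrix (Fin 2) (Fin 2) F) = (t / 2) • 1 + (2 : F)⁻¹ • Z := by
        rw [hZ, smul_sub, smul_smul, smul_smul, inv_mul_cancel₀ h2, one_smul, inv_mul_eq_div, add_sub_cancel]
      have hpow : ∀ n : ℕ, (x : Matrix (Fin 2) (Fin 2) F) ^ (n + 1) =
          (t / 2) ^ (n + 1) • 1 + (((n : F) + 1) * (t / 2) ^ n * (2 : F)⁻¹) • Z := by
        intro n
        induction n with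
        | zero => simpa using e2
        | succ n ih =>
          rw [pow_succ, ih, e2]
          simp only [add_mul, mul_add, Matrix.smul_mul, Matrix.mul_smul, Matrix.one_mul, Matrix.mul_one, hZ2,
            smul_zero, add_zero, smul_smul]
          rw [add_assoc, ← add_smul]
          congr 2
          · ring
          · push_cast
            ring
      obtain ⟨j, hj⟩ := P0.2 ⟨x, hx⟩
      have hj' : (x : Matrix (Fin 2) (Fin 2) F) ^ 2 ^ j = 1 := by
        rw [← Matrix.SpecialLinearGroup.coe_pow, show x ^ 2 ^ j = 1 from congrArg Subtype.val hj,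
          Matrix.SpecialLinearGroup.coe_one]
      have h0 := hpow (2 ^ j - 1)
      rw [Nat.sub_add_cancel Nat.one_le_two_pow, hj', Nat.cast_sub Nat.one_le_two_pow] at h0
      push_cast at h0
      rw [sub_add_cancel] at h0
      have ht : t / 2 ≠ 0 := div_ne_zero (fun ht0 => by
        rw [ht0, mul_zero, zero_sub, neg_eq_zero] at hD
        exact h2 (pow_eq_zero_iff (n := 2) two_ne_zero |>.1 (by linear_combination hD))) h2
      have hcoef : (2 : F) ^ j * (t / 2) ^ (2 ^ j - 1) * (2 : F)⁻¹ ≠ 0 :=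
        mul_ne_zero (mul_ne_zero (pow_ne_zero _ h2) (pow_ne_zero _ ht)) (inv_ne_zero h2)
      have hZc : ∃ c : F, Z = c • 1 := by
        refine ⟨((2 : F) ^ j * (t / 2) ^ (2 ^ j - 1) * (2 : F)⁻¹)⁻¹ * (1 - (t / 2) ^ 2 ^ j), ?_⟩
        have h1 : (1 : Matrix (Fin 2) (Fin 2) F) - (t / 2) ^ 2 ^ j • 1 =
            ((2 : F) ^ j * (t / 2) ^ (2 ^ j - 1) * (2 : F)⁻¹) • Z := by
          rw [sub_eq_iff_eq_add, add_comm]; exact h0
        rw [← smul_smul, sub_smul, one_smul, h1, smul_smul, inv_mul_cancel₀ hcoef, one_smul]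
      obtain ⟨c, hc⟩ := hZc
      rw [e2, hc]
      simp [add_mul, mul_add]
    have hZu : Z ≠ 0 := fun h => hD (by
      rw [h, mul_zero] at hZ2
      simpa using (congrFun (congrFun hZ2 0) 0).symm)
    have hli : LinearIndependent F ![(1 : Matrix (Fin 2) (Fin 2) F), Z, (y : Matrix (Fin 2) (Fin 2) F), Z * y] := by
      rw [Fintype.linearIndependent_iff]
      intro c hc
      simp only [Fin.sum_univ_four, Matrix.cons_val_zero, Matrix.cons_val_one, Matrix.cons_val] at hc
      have hA : ∀ a b : F, a • (1 : Matrix (Fin 2) (Fin 2) F) + b • Z = 0 → a = 0 ∧ b = 0 := by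
        intro a b h
        have h' := congrArg (fun M => (y : Matrix (Fin 2) (Fin 2) F) * M) h
        have h'' := congrArg (fun M => M * (y : Matrix (Fin 2) (Fin 2) F)) h
        simp only [mul_add, add_mul, Matrix.mul_smul, Matrix.smul_mul, Matrix.mul_one, Matrix.one_mul, mul_zero,
          zero_mul, hyZ] at h' h''
        have h3 : (2 * a) • (y : Matrix (Fin 2) (Fin 2) F) = 0 := by
          linear_combination (norm := module) h' + h''
        have hy0 : (y : Matrix (Fin 2) (Fin 2) F) ≠ 0 := fun h0 => hncm (by simp [h0])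
        have ha : a = 0 := by simpa [h2] using (smul_eq_zero.1 h3).resolve_right hy0
        subst ha
        rw [zero_smul, zero_add] at h
        exact ⟨rfl, (smul_eq_zero.1 h).resolve_right hZu⟩
      have h' := congrArg (fun M => Z * M * Z) hc
      simp only [mul_add, add_mul, Matrix.mul_smul, Matrix.smul_mul, Matrix.mul_one, mul_assoc, hyZ, mul_zero,
        zero_mul, mul_neg, ← mul_assoc Z Z, hZ2, Matrix.one_mul, smul_smul, Matrix.smul_mul] at h'
      have e1 : (2 : F) • (t * t - 4) • (c 0 • (1 : Matrix (Fin 2) (Fin 2) F) + c 1 • Z) = 0 := by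
        linear_combination (norm := module) (t * t - 4) • hc + h'
      rw [smul_eq_zero, smul_eq_zero] at e1
      obtain ⟨h00, h01⟩ := hA _ _ ((e1.resolve_left h2).resolve_left hD)
      rw [h00, h01, zero_smul, zero_smul, zero_add, zero_add] at hc
      have hc' : (c 2 • (1 : Matrix (Fin 2) (Fin 2) F) + c 3 • Z) * (y : Matrix (Fin 2) (Fin 2) F) = 0 := by
        rw [add_mul, Matrix.smul_mul, Matrix.smul_mul, Matrix.one_mul]; exact hc
      have hc'' := congrArg (fun M => M * ((y⁻¹ : SpecialLinearGroup (Fin 2) F) : Matrix (Fin 2) (Fin 2) F)) hc'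
      simp only [mul_assoc, ← Matrix.SpecialLinearGroup.coe_mul, mul_inv_cancel, Matrix.SpecialLinearGroup.coe_one,
        mul_one, zero_mul] at hc''
      obtain ⟨h02, h03⟩ := hA _ _ hc''
      intro i
      fin_cases i <;> assumption
    have htop := hli.span_eq_top_of_card_eq_finrank (by simp [Module.finrank_matrix])
    rw [eq_top_iff, ← htop, Submodule.span_le]
    have h1 : (1 : Matrix (Fin 2) (Fin 2) F) ∈ Submodule.span F S :=
      Submodule.subset_span ⟨1, one_mem T, map_one _, Units.val_one⟩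
    have hxS : (x : Matrix (Fin 2) (Fin 2) F) ∈ Submodule.span F S :=
      Submodule.subset_span ⟨X, hXT, hdet x, rfl⟩
    have hyS : (y : Matrix (Fin 2) (Fin 2) F) ∈ Submodule.span F S :=
      Submodule.subset_span ⟨Y, hYT, hdet y, rfl⟩
    have hxyS : (x : Matrix (Fin 2) (Fin 2) F) * y ∈ Submodule.span F S :=
      Submodule.subset_span ⟨X * Y, mul_mem hXT hYT, by rw [map_mul, hdet, hdet, one_mul], rfl⟩
    rintro _ ⟨i, rfl⟩
    fin_cases i
    · exact h1
    · exact sub_mem (Submodule.smul_mem _ _ hxS) (Submodule.smul_mem _ _ h1)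
    · exact hyS
    · show Z * (y : Matrix (Fin 2) (Fin 2) F) ∈ Submodule.span F S
      rw [hZ, sub_mul, Matrix.smul_mul, Matrix.smul_mul, Matrix.one_mul]
      exact sub_mem (Submodule.smul_mem _ _ hxyS) (Submodule.smul_mem _ _ hyS)
  -- an element of nonsquare determinant
  obtain ⟨a, ⟨k, hak⟩, hans⟩ := exists_two_nonsquare h2
  let d : GL (Fin 2) F := Classical.diagGL ![a, 1]
  have hd : d ^ 2 ^ k = 1 := by
    rw [← map_pow, show (![a, 1] : Fin 2 → Fˣ) ^ 2 ^ k = 1 by
      ext i; fin_cases i <;> simp [hak], map_one]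
  have hpz : IsPGroup 2 (Subgroup.zpowers d) := by
    intro b
    refine ⟨k, Subtype.ext ?_⟩
    obtain ⟨j, hj⟩ := b.2
    change d ^ j = b.1 at hj
    rw [Subgroup.coe_pow, Subgroup.coe_one, ← hj, ← zpow_natCast, ← _root_.zpow_mul, mul_comm,
      _root_.zpow_mul, zpow_natCast, hd, _root_.one_zpow]
  obtain ⟨T', hT'⟩ := hpz.exists_le_sylow
  obtain ⟨h, rfl⟩ := MulAction.exists_smul_eq (GL (Fin 2) F) T T'
  have hdT := hT' (Subgroup.mem_zpowers d)
  rw [Sylow.coe_subgroup_smul, Subgroup.mem_pointwise_smul_iff_inv_smul_mem] at hdT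
  set t0 : GL (Fin 2) F := h⁻¹ * d * h with ht0
  have ht0T : t0 ∈ T := show t0 ∈ (T : Subgroup (GL (Fin 2) F)) by simpa [MulAut.smul_def, ht0] using hdT
  have hdett0 : Matrix.GeneralLinearGroup.det t0 = a := by
    rw [ht0, map_mul, map_mul, mul_comm, ← mul_assoc, ← map_mul, mul_inv_cancel, map_one, one_mul]
    ext1
    simp [d, Classical.diagGL_coe, Matrix.det_fin_two]
  refine ⟨(T : Subgroup (GL (Fin 2) F)), good_base le_top T.2 (fun _ h _ h' => T.3 h' h) (Subgroup.mem_top _) hspan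
    hXT hYT (hdet x) (hdet y) (fun h => hncm (congrArg (fun g : GL (Fin 2) F => (g : Matrix (Fin 2) (Fin 2) F)) h))
    ht0T hdett0 fun b _ => hans b⟩

variable {ι κ : Type*} [Fintype ι] [DecidableEq ι] [Fintype κ] [DecidableEq κ]

/-- Reindexing. -/
def reGL (e : ι ≃ κ) : GL ι F ≃* GL κ F := Units.mapEquiv (Matrix.reindexAlgEquiv F F e).toMulEquiv

omit [Finite F] in
theorem coe_reGL (e : ι ≃ κ) (g : GL ι F) :
    (reGL e g : Matrix κ κ F) = Matrix.reindexAlgEquiv F F e (g : Matrix ι ι F) := rfl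

omit [Finite F] in
theorem det_reGL (e : ι ≃ κ) (g : GL ι F) :
    Matrix.GeneralLinearGroup.det (reGL e g) = Matrix.GeneralLinearGroup.det g := Units.ext (by
  simp [coe_reGL])

omit [Finite F] in
theorem reGL_scal (e : ι ≃ κ) (c : Fˣ) : reGL e (scal F ι c) = scal F κ c := Units.ext (by
  rw [coe_reGL, coe_scal, coe_scal, map_smul, map_one])

/-- The property which is transported to `SL`. -/
def OddSL (M T : Subgroup (GL ι F)) : Prop :=
  ∀ g ∈ M, Odd (orderOf g) →
    (∀ t ∈ T, Matrix.GeneralLinearGroup.det t = 1 → g * t * g⁻¹ ∈ T) → g ∈ (scal F ι).range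

theorem good_reindex (e : ι ≃ κ) {M T : Subgroup (GL ι F)} (hG : Good M T) (hS : OddSL M T) :
    ∃ T' : Subgroup (GL κ F), Good (M.map (reGL e).toMonoidHom) T' ∧ OddSL (M.map (reGL e).toMonoidHom) T' := by
  refine ⟨T.map (reGL e).toMonoidHom, ⟨Subgroup.map_mono hG.le, hG.two.map _, ?_, ?_, ?_, ?_, ?_⟩, ?_⟩
  · intro S hS1 hS2 hS3
    have h := hG.max (S.comap (reGL e).toMonoidHom)
      (Subgroup.map_le_iff_le_comap.1 hS1)
      (fun x hx => (Subgroup.mem_map_iff_mem (reGL e).injective).1 (hS2 hx))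
      (hS3.comap_of_injective _ (reGL e).injective)
    rw [← h]
    exact (Subgroup.map_comap_eq_self_of_surjective (reGL e).surjective S).symm
  · exact ⟨_, hG.neg, reGL_scal e _⟩
  · rintro _ ⟨g, hgM, rfl⟩ hodd hg
    obtain ⟨c, hc⟩ := hG.odd g hgM (by rwa [MulEquiv.coe_toMonoidHom, MulEquiv.orderOf_eq] at hodd) fun t ht => by
      have := hg _ (Subgroup.mem_map_of_mem _ ht)
      rw [← map_inv, ← map_mul, ← map_mul] at this
      exact (Subgroup.mem_map_iff_mem (reGL e).injective).1 this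
    exact ⟨c, by rw [← hc, MulEquiv.coe_toMonoidHom, reGL_scal]⟩
  · rw [eq_top_iff]
    rintro N -
    obtain ⟨N, rfl⟩ := (Matrix.reindexAlgEquiv F F e).surjective N
    have hN : N ∈ Submodule.span F _ := (hG.span ▸ Submodule.mem_top :)
    induction hN using Submodule.span_induction with
    | mem a ha =>
      obtain ⟨t, ht, dt, rfl⟩ := ha
      exact Submodule.subset_span ⟨reGL e t, Subgroup.mem_map_of_mem _ ht, by rw [det_reGL, dt], rfl⟩
    | zero => simp
    | add a b _ _ ha hb => rw [map_add]; exact add_mem ha hb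
    | smul r a _ ha => rw [map_smul]; exact Submodule.smul_mem _ r ha
  · obtain ⟨t, ht, u, hu, dt, du, htu⟩ := hG.nc
    refine ⟨reGL e t, Subgroup.mem_map_of_mem _ ht, reGL e u, Subgroup.mem_map_of_mem _ hu, by rw [det_reGL, dt],
      by rw [det_reGL, du], fun h => htu ?_⟩
    rw [← map_mul, ← map_mul] at h
    exact (reGL e).injective h
  · rintro _ ⟨g, hgM, rfl⟩ hodd hg
    obtain ⟨c, hc⟩ := hS g hgM (by rwa [MulEquiv.coe_toMonoidHom, MulEquiv.orderOf_eq] at hodd) fun t ht dt => by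
      have := hg _ (Subgroup.mem_map_of_mem _ ht) (by rw [MulEquiv.coe_toMonoidHom, det_reGL, dt])
      rw [← map_inv, ← map_mul, ← map_mul] at this
      exact (Subgroup.mem_map_iff_mem (reGL e).injective).1 this
    exact ⟨c, by rw [← hc, MulEquiv.coe_toMonoidHom, reGL_scal]⟩

theorem good_pow (h2 : (2 : F) ≠ 0) : ∀ w : ℕ,
    ∃ T : Subgroup (GL (Fin (2 ^ (w + 2))) F), Good ⊤ T ∧ OddSL ⊤ T
  | 0 => by
    obtain ⟨T, hT⟩ := good_two (F := F) h2
    obtain ⟨T', h1, h3⟩ := step hT (M' := ⊤) (fun _ _ => by simp) (Subgroup.mem_top _)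
    have := good_reindex (finSumFinEquiv.trans (finCongr (by norm_num : 2 + 2 = 2 ^ (0 + 2)))) h1 h3
    rwa [Subgroup.map_top_of_surjective (reGL _).toMonoidHom (reGL _).surjective] at this
  | w + 1 => by
    obtain ⟨T, hT, -⟩ := good_pow h2 w
    obtain ⟨T', h1, h3⟩ := step hT (M' := ⊤) (fun _ _ => by simp) (Subgroup.mem_top _)
    have := good_reindex (finSumFinEquiv.trans
      (finCongr (by ring : 2 ^ (w + 2) + 2 ^ (w + 2) = 2 ^ (w + 1 + 2)))) h1 h3
    rwa [Subgroup.map_top_of_surjective (reGL _).toMonoidHom (reGL _).surjective] at this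

/-- Odd order elements normalising a Sylow 2-subgroup of `SL` are central. -/
theorem odd_normalizer_sl (h2 : (2 : F) ≠ 0) {w : ℕ} (hw : 2 ≤ w)
    (P : Sylow 2 (SpecialLinearGroup (Fin (2 ^ w)) F)) (g : SpecialLinearGroup (Fin (2 ^ w)) F)
    (hodd : Odd (orderOf g)) (hg : ∀ t ∈ P, g * t * g⁻¹ ∈ P) :
    g ∈ Subgroup.center (SpecialLinearGroup (Fin (2 ^ w)) F) := by
  obtain ⟨v, rfl⟩ := Nat.exists_eq_add_of_le' hw
  obtain ⟨T0, hG, hS⟩ := good_pow (F := F) h2 v
  let T : Sylow 2 (GL (Fin (2 ^ (v + 2))) F) := ⟨T0, hG.two, fun h h' => hG.max _ h' le_top h⟩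
  set toGL := Matrix.SpecialLinearGroup.toGL (n := Fin (2 ^ (v + 2))) (R := F) with htoGL
  have hinj : Function.Injective toGL := fun a b h => Subtype.ext (congrArg Units.val h :)
  obtain ⟨T', hT'⟩ := (P.2.map toGL).exists_le_sylow
  obtain ⟨h, rfl⟩ := MulAction.exists_smul_eq (GL (Fin (2 ^ (v + 2))) F) T T'
  have hcomap : ((h • T : Sylow 2 _) : Subgroup (GL (Fin (2 ^ (v + 2))) F)).comap toGL =
      (P : Subgroup (SpecialLinearGroup (Fin (2 ^ (v + 2))) F)) := by
    refine P.3 ((h • T).2.comap_of_injective toGL hinj) ?_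
    rw [← Subgroup.map_le_iff_le_comap]
    exact hT'
  have hmem : ∀ s, s ∈ P ↔ h⁻¹ * toGL s * h ∈ T := by
    intro s
    show s ∈ (P : Subgroup _) ↔ _
    rw [← hcomap, Subgroup.mem_comap, Sylow.coe_subgroup_smul, Subgroup.mem_pointwise_smul_iff_inv_smul_mem]
    simp [MulAut.smul_def]
    rfl
  obtain ⟨c, hc⟩ := hS (h⁻¹ * toGL g * h) (Subgroup.mem_top _) (by
    have : h⁻¹ * toGL g * h = MulAut.conj h⁻¹ (toGL g) := by simp
    rw [this, MulEquiv.orderOf_eq, orderOf_injective toGL hinj]; exact hodd) fun t ht dt => by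
    obtain ⟨s, hs⟩ : h * t * h⁻¹ ∈ toGL.range := by
      rw [htoGL, Classical.range_toGL_eq_ker_det, MonoidHom.mem_ker, map_mul, map_mul, map_inv, dt, mul_one,
        mul_inv_cancel]
    have hsP : s ∈ P := by rw [hmem, hs]; show _ ∈ T0; simpa [mul_assoc] using ht
    have h' := (hmem _).1 (hg s hsP)
    rw [map_mul, map_mul, map_inv, hs] at h'
    change _ ∈ T0 at h'
    convert h' using 1
    group
  rw [Matrix.SpecialLinearGroup.mem_center_iff]
  have e : toGL g = scal F _ c := by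
    rw [show toGL g = h * (h⁻¹ * toGL g * h) * h⁻¹ by group, ← hc, ← scal_comm, mul_inv_cancel_right]
  have e' : (g : Matrix (Fin (2 ^ (v + 2))) (Fin (2 ^ (v + 2))) F) = (c : F) • 1 := by
    rw [← coe_scal, ← e]; rfl
  refine ⟨c, ?_, ?_⟩
  · have := g.2
    rw [e', Matrix.det_smul, Matrix.det_one, mul_one] at this
    exact this
  · rw [e', Matrix.scalar_apply, Matrix.smul_one_eq_diagonal]

end Cfsg.Agent.OddIndex
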