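import Mathlib
import Cfsg.Prelude.Def_HallClasses

/-!
Pronormality of subgroups containing a Sylow subgroup, tested on the normaliser of that Sylow subgroup.
-/

set_option autoImplicit false

namespace Cfsg.Agent.OddIndex

variable {G : Type*} [Group G]

theorem map_conj_mul (H : Subgroup G) (a b : G) :
    H.map (MulAut.conj (a * b)).toMonoidHom =
      (H.map (MulAut.conj b).toMonoidHom).map (MulAut.conj a).toMonoidHom := by
  rw [Subgroup.map_map]
  congr 1
  ext y
  simp [mul_assoc]

theorem map_conj_eq_self (H : Subgroup G) [Finite G] {g : G} (h : ∀ y ∈ H, g * y * g⁻¹ ∈ H) :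
    H.map (MulAut.conj g).toMonoidHom = H := by
  refine Subgroup.eq_of_le_of_card_ge ?_ (by rw [Subgroup.card_map_of_injective (MulAut.conj g).injective])
  rintro _ ⟨y, hy, rfl⟩
  exact h y hy

theorem exists_conj_sylow [Finite G] {p : ℕ} [Fact p.Prime] (H : Subgroup G)
    (P : Sylow p G) (hP : (P : Subgroup G) ≤ H) (g : G) :
    ∃ x ∈ H ⊔ H.map (MulAut.conj g).toMonoidHom,
      x⁻¹ * g ∈ Subgroup.normalizer ((P : Subgroup G) : Set G) := by
  set J := H ⊔ H.map (MulAut.conj g).toMonoidHom with hJ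
  have h1 : (P : Subgroup G) ≤ J := hP.trans le_sup_left
  have h2 : ((g • P : Sylow p G) : Subgroup G) ≤ J := by
    intro y hy
    refine (le_sup_right : H.map (MulAut.conj g).toMonoidHom ≤ J) ?_
    rw [Sylow.coe_subgroup_smul, Subgroup.mem_pointwise_smul_iff_inv_smul_mem] at hy
    refine ⟨(MulAut.conj g)⁻¹ • y, hP hy, ?_⟩
    simp [MulAut.smul_def, mul_assoc]
  obtain ⟨x, hx⟩ := MulAction.exists_smul_eq J (P.subtype h1) ((g • P).subtype h2)
  refine ⟨x.1, x.2, ?_⟩
  rw [Sylow.smul_subtype h1 x] at hx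
  have h3 : x.1 • P = g • P := Sylow.subtype_injective hx
  exact Sylow.smul_eq_iff_mem_normalizer.1 (by rw [mul_smul, ← h3, inv_smul_smul])

theorem pronormal_of_normalizer [Finite G] {p : ℕ} [Fact p.Prime] (H : Subgroup G) (P : Sylow p G)
    (hP : (P : Subgroup G) ≤ H)
    (h : ∀ g ∈ Subgroup.normalizer ((P : Subgroup G) : Set G), ∃ x ∈ H ⊔ H.map (MulAut.conj g).toMonoidHom,
      H.map (MulAut.conj g).toMonoidHom = H.map (MulAut.conj x).toMonoidHom) :
    Cfsg.IsPronormal H := by
  intro g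
  obtain ⟨x, hx, hn⟩ := exists_conj_sylow H P hP g
  obtain ⟨y, hy, he⟩ := h _ hn
  set J := H ⊔ H.map (MulAut.conj g).toMonoidHom with hJ
  have hsub : H ⊔ H.map (MulAut.conj (x⁻¹ * g)).toMonoidHom ≤ J := by
    refine sup_le le_sup_left ?_
    rw [map_conj_mul]
    rintro _ ⟨z, hz, rfl⟩
    have hz' : z ∈ J := (le_sup_right : H.map (MulAut.conj g).toMonoidHom ≤ J) hz
    simpa using mul_mem (mul_mem (inv_mem hx) hz') hx
  refine ⟨x * y, mul_mem hx (hsub hy), ?_⟩
  rw [map_conj_mul H x y, ← he, ← map_conj_mul, mul_inv_cancel_left]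

theorem pronormal_map {G' : Type*} [Group G'] (f : G →* G') (hf : Function.Surjective f) (H : Subgroup G')
    (h : Cfsg.IsPronormal (H.comap f)) : Cfsg.IsPronormal H := by
  intro g'
  obtain ⟨g, rfl⟩ := hf g'
  obtain ⟨x, hx, he⟩ := h g
  have key : ∀ z : G, ((H.comap f).map (MulAut.conj z).toMonoidHom).map f =
      H.map (MulAut.conj (f z)).toMonoidHom := by
    intro z
    have : f.comp (MulAut.conj z).toMonoidHom = (MulAut.conj (f z)).toMonoidHom.comp f := by
      ext y; simp
    rw [Subgroup.map_map, this, ← Subgroup.map_map, Subgroup.map_comap_eq_self_of_surjective hf]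
  refine ⟨f x, ?_, ?_⟩
  · have := Subgroup.mem_map_of_mem f hx
    rwa [Subgroup.map_sup, Subgroup.map_comap_eq_self_of_surjective hf, key] at this
  · rw [← key, ← key, he]

theorem exists_sylow_le [Finite G] {p : ℕ} [Fact p.Prime] (H : Subgroup G) (hH : ¬ p ∣ H.index) :
    ∃ P : Sylow p G, (P : Subgroup G) ≤ H := by
  obtain ⟨P₀⟩ : Nonempty (Sylow p H) := inferInstance
  obtain ⟨P, hP⟩ := (P₀.2.map H.subtype).exists_le_sylow
  refine ⟨P, ?_⟩
  have h1 : Nat.card ((P₀ : Subgroup H).map H.subtype) = Nat.card (P : Subgroup G) := by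
    rw [Subgroup.card_map_of_injective (Subgroup.subtype_injective _), P₀.card_eq_multiplicity,
      P.card_eq_multiplicity, ← H.index_mul_card,
      Nat.factorization_mul Subgroup.index_ne_zero_of_finite Nat.card_pos.ne', Finsupp.add_apply,
      Nat.factorization_eq_zero_of_not_dvd hH, zero_add]
  rw [← Subgroup.eq_of_le_of_card_ge hP h1.ge]
  exact Subgroup.map_subtype_le _

end Cfsg.Agent.OddIndex
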