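import Cfsg.Agent.OddIndex.UpperOver
import Cfsg.Agent.OddIndex.Pronormal

/-!
Subgroups of odd index of special linear groups in characteristic two.
-/

set_option autoImplicit false

namespace Cfsg.Agent.OddIndex

open Matrix Cfsg.Agent.GLFlags

variable {n : ℕ} {F : Type*} [Field F]

theorem pow_two_pow_uni [CharP F 2] {g : GL (Fin n) F} (hg : g ∈ unitriangularGL n F) : g ^ 2 ^ n = 1 := by
  haveI : Fact (Nat.Prime 2) := ⟨Nat.prime_two⟩
  set M : Matrix (Fin n) (Fin n) F := (g : Matrix (Fin n) (Fin n) F) - 1 with hM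
  have hb : M.IsUpperTriangular := Matrix.BlockTriangular.sub hg.1 Matrix.blockTriangular_one
  have hd : ∀ i, M i i = 0 := fun i => by rw [hM, Matrix.sub_apply, hg.2, Matrix.one_apply_eq, sub_self]
  have hc : M.charpoly = Polynomial.X ^ n := by
    rw [Matrix.charpoly_of_upperTriangular M hb]
    simp [hd]
  have hn : M ^ n = 0 := by
    have h := Matrix.aeval_self_charpoly M
    rwa [hc, map_pow, Polynomial.aeval_X] at h
  apply Units.ext
  rcases Nat.eq_zero_or_pos n with rfl | hn0
  · exact Subsingleton.elim _ _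
  haveI : NeZero n := ⟨hn0.ne'⟩
  haveI : CharP (Matrix (Fin n) (Fin n) F) 2 := inferInstance
  rw [Units.val_pow_eq_pow_val, Units.val_one,
    show (g : Matrix (Fin n) (Fin n) F) = M + 1 by rw [hM, sub_add_cancel],
    add_pow_char_pow_of_commute _ _ (Commute.one_right M), one_pow,
    pow_eq_zero_of_le Nat.lt_two_pow_self.le hn, zero_add]

variable [Finite F]

theorem pronormal_even [CharP F 2] (H : Subgroup (SpecialLinearGroup (Fin n) F)) (hH : ¬ 2 ∣ H.index) :
    Cfsg.IsPronormal H := by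
  haveI : Fact (Nat.Prime 2) := ⟨Nat.prime_two⟩
  set τ := Matrix.SpecialLinearGroup.toGL (n := Fin n) (R := F) with hτ
  have hinj : Function.Injective τ := fun a b h => Subtype.ext (congrArg Units.val h :)
  set U : Subgroup (SpecialLinearGroup (Fin n) F) := (unitriangularGL n F).comap τ with hU
  have hUp : IsPGroup 2 U := fun u =>
    ⟨n, Subtype.ext (hinj (by rw [Subgroup.coe_pow, map_pow, pow_two_pow_uni u.2, Subgroup.coe_one, map_one]))⟩
  obtain ⟨T, hT⟩ := hUp.exists_le_sylow
  have hdetU : ∀ v ∈ unitriangularGL n F, ∃ s ∈ U, τ s = v := by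
    intro v hv
    have hr : v ∈ τ.range := by
      rw [hτ, Classical.range_toGL_eq_ker_det, MonoidHom.mem_ker]
      apply Units.ext
      rw [Matrix.GeneralLinearGroup.val_det_apply, Matrix.det_of_isUpperTriangular hv.1, Units.val_one]
      exact Finset.prod_eq_one fun i _ => hv.2 i
    obtain ⟨s, rfl⟩ := hr
    exact ⟨s, hv, rfl⟩
  have hupper : ∀ g : SpecialLinearGroup (Fin n) F, (∀ u ∈ U, g⁻¹ * u * g ∈ U) → τ g ∈ upperTriangularGL n F := by
    intro g hg
    refine mem_upper_of_normalizes fun v hv => ?_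
    obtain ⟨s, hs, rfl⟩ := hdetU v hv
    have := hg s hs
    rw [hU, Subgroup.mem_comap, map_mul, map_mul, map_inv] at this
    exact this
  have hTU : (T : Subgroup (SpecialLinearGroup (Fin n) F)) = U := by
    by_contra hne
    have hlt : U < T := lt_of_le_of_ne hT (Ne.symm hne)
    have := T.2.isNilpotent
    have hsub : U.subgroupOf T < ⊤ := lt_top_iff_ne_top.2 fun h => hlt.not_ge (Subgroup.subgroupOf_eq_top.1 h)
    obtain ⟨g, hgN, hgU⟩ := SetLike.exists_of_lt (Group.normalizerCondition_of_isNilpotent _ hsub)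
    apply hgU
    rw [Subgroup.mem_subgroupOf]
    have hup := hupper g.1 fun u hu => by
      have := ((Subgroup.mem_normalizer_iff.1 (inv_mem hgN)) ⟨u, hT hu⟩).1 (Subgroup.mem_subgroupOf.2 hu)
      simpa [Subgroup.mem_subgroupOf] using this
    obtain ⟨k, hk⟩ := T.2 g
    refine ⟨hup, fun i => ?_⟩
    have hk' : τ g.1 ^ 2 ^ k = 1 := by
      rw [← map_pow, show g.1 ^ 2 ^ k = 1 from congrArg Subtype.val hk, map_one]
    have hpow : ∀ m : ℕ, (((τ g.1) ^ m : GL (Fin n) F) : Matrix (Fin n) (Fin n) F) i i =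
        (((τ g.1 : GL (Fin n) F) : Matrix (Fin n) (Fin n) F) i i) ^ m := by
      intro m
      induction m with
      | zero => simp
      | succ m ih => rw [pow_succ, Units.val_mul, mul_apply_diag (pow_mem hup m) hup, ih, pow_succ]
    have h := hpow (2 ^ k)
    rw [hk', Units.val_one, Matrix.one_apply_eq] at h
    have h2 : ((((τ g.1 : GL (Fin n) F) : Matrix (Fin n) (Fin n) F) i i) - 1) ^ 2 ^ k = 0 := by
      rw [sub_pow_char_pow, one_pow, ← h, sub_self]
    exact sub_eq_zero.1 ((pow_eq_zero_iff (pow_ne_zero k two_ne_zero)).1 h2)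
  obtain ⟨P, hP⟩ := exists_sylow_le H hH
  obtain ⟨s, rfl⟩ := MulAction.exists_smul_eq (SpecialLinearGroup (Fin n) F) T P
  refine pronormal_of_normalizer H (s • T) hP fun g hg => ⟨1, one_mem _, ?_⟩
  have hmem : ∀ u, u ∈ ((s • T : Sylow 2 _) : Subgroup (SpecialLinearGroup (Fin n) F)) ↔ s⁻¹ * u * s ∈ U := by
    intro u
    rw [Sylow.coe_subgroup_smul, Subgroup.mem_pointwise_smul_iff_inv_smul_mem, ← hTU]
    simp [MulAut.smul_def]
  have hb : τ (s⁻¹ * g * s) ∈ upperTriangularGL n F := by
    refine hupper _ fun u hu => ?_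
    have h1 := ((Subgroup.mem_normalizer_iff.1 (inv_mem hg)) (s * u * s⁻¹)).1
      ((hmem _).2 (by convert hu using 1; group))
    rw [hmem] at h1
    convert h1 using 1
    group
  set K : Subgroup (GL (Fin n) F) := H.map (τ.comp (MulAut.conj s⁻¹).toMonoidHom) with hK
  have hUK : unitriangularGL n F ≤ K := by
    intro v hv
    obtain ⟨u, hu, rfl⟩ := hdetU v hv
    exact ⟨s * u * s⁻¹, hP ((hmem _).2 (by convert hu using 1; group)), by simp [mul_assoc]⟩
  have hfix : H.map (MulAut.conj g).toMonoidHom = H := by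
    refine map_conj_eq_self H fun y hy => ?_
    have h1 := upper_conj_mem K hUK (k := τ (s⁻¹ * y * s)) ⟨y, hy, by simp [mul_assoc]⟩ hb
    rw [← map_inv, ← map_mul, ← map_mul] at h1
    obtain ⟨z, hz, he⟩ := h1
    have := hinj he
    simp only [MulEquiv.coe_toMonoidHom, MulAut.conj_apply, inv_inv] at this
    have e : z = g * y * g⁻¹ := by
      have h2 := congrArg (fun t => s * t * s⁻¹) this
      simpa [mul_assoc] using h2
    exact e ▸ hz
  rw [hfix]
  exact (map_conj_eq_self H fun y hy => by simpa using hy).symm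

end Cfsg.Agent.OddIndex
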