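import Cfsg.Agent.OddIndex.Base
import Cfsg.Agent.OddIndex.Pronormal
import Cfsg.Agent.Classical.SL2Sylow

/-!
Subgroups of odd index in SL₂ over a field of odd order are pronormal.
-/

set_option autoImplicit false

namespace Cfsg.Agent.OddIndex

open Matrix

section General

variable {G : Type*} [Group G] [Finite G]

theorem commute_of_conj_mem_zpowers {z g : G} {m : ℕ} (hz : z ^ 2 ^ m = 1) (hodd : Odd (orderOf g))
    (h : g * z * g⁻¹ ∈ Subgroup.zpowers z) : g * z = z * g := by
  obtain ⟨a, ha⟩ := mem_powers_iff_mem_zpowers.2 h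
  change z ^ a = g * z * g⁻¹ at ha
  obtain ⟨j, -, hj⟩ := (Nat.dvd_prime_pow Nat.prime_two).1 (orderOf_dvd_of_pow_eq_one hz)
  have hn : ∀ n : ℕ, g ^ n * z * (g ^ n)⁻¹ = z ^ a ^ n := by
    intro n
    induction n with
    | zero => simp
    | succ n ih =>
      rw [pow_succ a n, mul_comm, pow_mul, ha, conj_pow, ← ih, pow_succ' g n]
      group
  have h1 := hn (orderOf g)
  rw [pow_orderOf_eq_one, one_mul, inv_one, mul_one] at h1
  nth_rewrite 1 [← pow_one z] at h1
  have hmod := (pow_eq_pow_iff_modEq (x := z)).1 h1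
  rw [← ZMod.natCast_eq_natCast_iff, hj, Nat.cast_pow, Nat.cast_one] at hmod
  have hu : IsUnit (a : ZMod (2 ^ j)) := (isUnit_pow_iff (orderOf_pos g).ne').1 (hmod ▸ isUnit_one)
  obtain ⟨u, hu⟩ := hu
  have hu1 : u = 1 := by
    refine eq_one_of_odd_two (m := orderOf g) (k := j - 1) hodd (Units.ext ?_) ?_
    · rw [Units.val_pow_eq_pow_val, hu, ← hmod, Units.val_one]
    · rcases Nat.eq_zero_or_pos j with rfl | hjp
      · have : Subsingleton (ZMod (2 ^ 0)) := by rw [pow_zero]; infer_instance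
        exact Subsingleton.elim _ _
      · have := ZMod.pow_totient u
        rwa [Nat.totient_prime_pow Nat.prime_two hjp, Nat.add_one_sub_one, mul_one] at this
  have hza : z ^ a = z := by
    nth_rewrite 2 [← pow_one z]
    rw [pow_eq_pow_iff_modEq, ← ZMod.natCast_eq_natCast_iff, hj, ← hu, hu1, Units.val_one, Nat.cast_one]
  rw [hza] at ha
  exact (eq_mul_inv_iff_mul_eq.1 ha).symm

end General

variable {F : Type*} [Field F] [Fintype F]

local notation "SL₂" => SpecialLinearGroup (Fin 2) F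

theorem nonscalar_of_notMem_center {g : SL₂} (hg : g ∉ Subgroup.center SL₂) (c : F) :
    (g : Matrix (Fin 2) (Fin 2) F) ≠ c • 1 := by
  intro e
  apply hg
  rw [Subgroup.mem_center_iff]
  intro h
  apply Subtype.ext
  rw [Matrix.SpecialLinearGroup.coe_mul, Matrix.SpecialLinearGroup.coe_mul, e]
  simp

theorem comm_of_comm {a b c : SL₂} (ha : a ∉ Subgroup.center SL₂) (hb : a * b = b * a) (hc : a * c = c * a) :
    b * c = c * b := by
  have hb' := congrArg (fun s : SL₂ => (s : Matrix (Fin 2) (Fin 2) F)) hb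
  have hc' := congrArg (fun s : SL₂ => (s : Matrix (Fin 2) (Fin 2) F)) hc
  simp only [Matrix.SpecialLinearGroup.coe_mul] at hb' hc'
  obtain ⟨p, q, e⟩ := Classical.exists_lin_of_commute (nonscalar_of_notMem_center ha) hb'
  apply Subtype.ext
  rw [Matrix.SpecialLinearGroup.coe_mul, Matrix.SpecialLinearGroup.coe_mul, e]
  have hc'' : Commute (a : Matrix (Fin 2) (Fin 2) F) c := hc'
  exact ((hc''.smul_left p).add_left
    ((Commute.one_left _).smul_left q)).eq

theorem mem_center_iff_sl2 (h2 : (2 : F) ≠ 0) {g : SL₂} :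
    g ∈ Subgroup.center SL₂ ↔ g ^ 2 = 1 := by
  constructor
  · intro hg
    obtain ⟨r, hr, he⟩ := Matrix.SpecialLinearGroup.mem_center_iff.1 hg
    apply Subtype.ext
    rw [Matrix.SpecialLinearGroup.coe_pow, ← he, ← map_pow, Fintype.card_fin] at *
    rw [hr, map_one, Matrix.SpecialLinearGroup.coe_one]
  · intro hg
    rcases Classical.eq_one_or_neg_one_of_sq h2 hg with rfl | rfl
    · exact one_mem _
    · rw [Subgroup.mem_center_iff]
      intro h
      apply Subtype.ext
      simp

theorem eq_one_of_center_odd (h2 : (2 : F) ≠ 0) {g : SL₂} (hg : g ∈ Subgroup.center SL₂)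
    (hodd : Odd (orderOf g)) : g = 1 :=
  eq_one_of_odd_two (k := 1) hodd (pow_orderOf_eq_one g) ((mem_center_iff_sl2 h2).1 hg)

/-- An odd element which fixes the cyclic group of a noncentral element of `P` is trivial. -/
theorem odd_fix_eq_one (h2 : (2 : F) ≠ 0) (P : Sylow 2 SL₂) {x y : SL₂} (hx : x ∈ P) (hy : y ∈ P)
    (hxy : x * y ≠ y * x) {z : SL₂} (hz : z ∈ P) (hzc : z ∉ Subgroup.center SL₂) {g : SL₂}
    (hodd : Odd (orderOf g)) (hg : ∀ t ∈ P, g * t * g⁻¹ ∈ P) (h : g * z * g⁻¹ ∈ Subgroup.zpowers z) :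
    g = 1 := by
  obtain ⟨m, hm⟩ := P.2 ⟨z, hz⟩
  have hcomm := commute_of_conj_mem_zpowers (congrArg Subtype.val hm) hodd h
  have hinj : Function.Injective (Matrix.SpecialLinearGroup.toGL (n := Fin 2) (R := F)) :=
    fun a b h => Subtype.ext (congrArg Units.val h :)
  set τ := Matrix.SpecialLinearGroup.toGL (n := Fin 2) (R := F)
  obtain ⟨w, hw, hwz⟩ : ∃ w ∈ P, w * z ≠ z * w := by
    by_contra hc
    push Not at hc
    exact hxy (comm_of_comm hzc (hc x hx).symm (hc y hy).symm)
  obtain ⟨c, hc⟩ := scalar_of_commute (P.2.map τ) (Subgroup.mem_map_of_mem τ hz)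
    (nonscalar_of_notMem_center hzc)
    ⟨τ w, Subgroup.mem_map_of_mem τ hw, fun e => hwz (hinj (by rwa [map_mul, map_mul]))⟩
    (g := τ g) (by rwa [orderOf_injective τ hinj])
    (by
      rintro _ ⟨t, ht, rfl⟩
      exact ⟨_, hg t ht, by rw [map_mul, map_mul, map_inv]⟩)
    (by rw [← map_mul, ← map_mul, hcomm])
  refine eq_one_of_center_odd h2 ?_ hodd
  by_contra hgc
  refine nonscalar_of_notMem_center hgc (c : F) ?_
  rw [← coe_scal, hc]
  rfl

/-- If a nonscalar semisimple element is sent to a commuting conjugate, it is fixed or inverted. -/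
theorem conj_eq_or_inv (h2 : (2 : F) ≠ 0) {r j : SL₂} (hr : r ∉ Subgroup.center SL₂)
    (ht : (r : Matrix (Fin 2) (Fin 2) F).trace ^ 2 ≠ 4) (hc : r * (j * r * j⁻¹) = j * r * j⁻¹ * r) :
    j * r * j⁻¹ = r ∨ j * r * j⁻¹ = r⁻¹ := by
  set s := j * r * j⁻¹ with hs
  set t := (r : Matrix (Fin 2) (Fin 2) F).trace with htdef
  have htr : (s : Matrix (Fin 2) (Fin 2) F).trace = t := by
    rw [hs, Matrix.SpecialLinearGroup.coe_mul, Matrix.SpecialLinearGroup.coe_mul, Matrix.trace_mul_comm,
      ← mul_assoc, ← Matrix.SpecialLinearGroup.coe_mul, inv_mul_cancel, Matrix.SpecialLinearGroup.coe_one,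
      one_mul]
  have hc' := congrArg (fun s : SL₂ => (s : Matrix (Fin 2) (Fin 2) F)) hc
  simp only [Matrix.SpecialLinearGroup.coe_mul] at hc'
  obtain ⟨a, b, e⟩ := Classical.exists_lin_of_commute (nonscalar_of_notMem_center hr) hc'
  have h1 : a * t + 2 * b = t := by
    have := congrArg Matrix.trace e
    rw [htr, Matrix.trace_add, Matrix.trace_smul, Matrix.trace_smul, Matrix.trace_one, ← htdef,
      Fintype.card_fin, smul_eq_mul, smul_eq_mul] at this
    push_cast at this
    linear_combination -this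
  have hb : b = (1 - a) * t / 2 := by field_simp; linear_combination h1
  have hsq := Classical.sq_eq_trace_smul s
  have hrq := Classical.sq_eq_trace_smul r
  rw [htr, e] at hsq
  rw [← htdef] at hrq
  simp only [add_mul, mul_add, Matrix.smul_mul, Matrix.mul_smul, Matrix.one_mul, Matrix.mul_one, hrq,
    smul_sub, smul_add, smul_smul] at hsq
  have h0 : (a * a * t + 2 * (a * b) - a * t) • (r : Matrix (Fin 2) (Fin 2) F) +
      (b * b - a * a - b * t + 1) • (1 : Matrix (Fin 2) (Fin 2) F) =
      (0 : F) • (r : Matrix (Fin 2) (Fin 2) F) + (0 : F) • 1 := by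
    linear_combination (norm := module) hsq
  obtain ⟨-, h3⟩ := Classical.lin_unique (nonscalar_of_notMem_center hr) h0
  have h4 : (1 - a) * (1 + a) * (4 - t ^ 2) = 0 := by
    rw [hb] at h3
    field_simp at h3
    linear_combination h3
  have h5 : 4 - t ^ 2 ≠ 0 := fun h => ht (by linear_combination -h)
  rcases mul_eq_zero.1 ((mul_eq_zero.1 h4).resolve_right h5) with h6 | h6
  · left
    apply Subtype.ext
    rw [e, show a = 1 by linear_combination -h6, show b = 0 by rw [hb, h6]; simp]
    simp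
  · right
    have e' : (s : Matrix (Fin 2) (Fin 2) F) = t • 1 - (r : Matrix (Fin 2) (Fin 2) F) := by
      rw [e, show a = -1 by linear_combination h6, show b = t by
        rw [hb, show a = -1 by linear_combination h6]; field_simp; ring]
      module
    apply eq_inv_of_mul_eq_one_right
    apply Subtype.ext
    rw [Matrix.SpecialLinearGroup.coe_mul, e', mul_sub, hrq, Matrix.mul_smul, Matrix.mul_one]
    simp

variable (p : ℕ) [Fact p.Prime] [CharP F p]

theorem sub_one_sq_zero {u : SL₂} {e : ℕ} (hu : u ^ p ^ e = 1) :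
    ((u : Matrix (Fin 2) (Fin 2) F) - 1) * ((u : Matrix (Fin 2) (Fin 2) F) - 1) = 0 := by
  have : CharP (Matrix (Fin 2) (Fin 2) F) p := inferInstance
  set N := (u : Matrix (Fin 2) (Fin 2) F) - 1 with hN
  set t := (u : Matrix (Fin 2) (Fin 2) F).trace
  have hsq : N * N = (t - 2) • (u : Matrix (Fin 2) (Fin 2) F) := by
    rw [hN, sub_mul, mul_sub, Classical.sq_eq_trace_smul, mul_one, one_mul]
    module
  have hnil : IsNilpotent N := ⟨p ^ e, by
    rw [hN, sub_pow_char_pow_of_commute _ _ (Commute.one_right _), one_pow,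
      ← Matrix.SpecialLinearGroup.coe_pow, hu, Matrix.SpecialLinearGroup.coe_one, sub_self]⟩
  by_contra h0
  have ht : t - 2 ≠ 0 := fun h => h0 (by rw [hsq, h, zero_smul])
  have hunit : IsUnit (N * N) := by
    rw [hsq]
    exact ⟨⟨(t - 2) • (u : Matrix (Fin 2) (Fin 2) F), (t - 2)⁻¹ • ((u⁻¹ : SL₂) : Matrix (Fin 2) (Fin 2) F),
      by rw [Matrix.smul_mul, Matrix.mul_smul, smul_smul, ← Matrix.SpecialLinearGroup.coe_mul, mul_inv_cancel,
        mul_inv_cancel₀ ht, one_smul, Matrix.SpecialLinearGroup.coe_one],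
      by rw [Matrix.smul_mul, Matrix.mul_smul, smul_smul, ← Matrix.SpecialLinearGroup.coe_mul, inv_mul_cancel,
        inv_mul_cancel₀ ht, one_smul, Matrix.SpecialLinearGroup.coe_one]⟩, rfl⟩
  obtain ⟨n, hn⟩ := hnil
  have h' := hunit.pow n
  rw [(Commute.refl N).mul_pow, hn, mul_zero] at h'
  exact not_isUnit_zero h'

omit p

/-- The odd case of the main lemma. -/
theorem conj_trick (h2 : (2 : F) ≠ 0) (H : Subgroup SL₂) (P : Sylow 2 SL₂) (hP : (P : Subgroup SL₂) ≤ H)
    (g : SL₂) (hodd : Odd (orderOf g)) (hgP : ∀ t ∈ P, g * t * g⁻¹ ∈ P) :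
    g ∈ H ⊔ H.map (MulAut.conj g).toMonoidHom ∨ H.map (MulAut.conj g).toMonoidHom = H := by
  classical
  rcases eq_or_ne g 1 with rfl | hg1
  · exact Or.inl (one_mem _)
  have hFodd : Odd (Fintype.card F) := by
    rw [← Nat.not_even_iff_odd]
    intro h
    obtain ⟨p, hp⟩ := CharP.exists F
    haveI := Fact.mk (CharP.char_is_prime F p)
    obtain ⟨f, hf1, hf⟩ := Classical.card_field_eq_pow (F := F) p
    rw [hf, Nat.even_pow' (by omega)] at h
    obtain rfl := (Nat.Prime.even_iff Fact.out).1 h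
    exact h2 CharTwo.two_eq_zero
  obtain ⟨x, y, hx, hy, hrel, hnc, hall, hordy, k, hk, hordx⟩ := exists_quaternion_pair hFodd P
  have hxc : x ∉ Subgroup.center SL₂ := fun h => hnc ((Subgroup.mem_center_iff.1 h) y).symm
  have hyc : y ∉ Subgroup.center SL₂ := fun h => hnc ((Subgroup.mem_center_iff.1 h) x)
  have fix : ∀ z ∈ P, z ∉ Subgroup.center SL₂ → ∀ h : SL₂, Odd (orderOf h) →
      (∀ t ∈ P, h * t * h⁻¹ ∈ P) → h * z * h⁻¹ ∈ Subgroup.zpowers z → h = 1 :=
    fun z hz hzc h ho hn hh => odd_fix_eq_one h2 P hx hy hnc hz hzc ho hn hh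
  have hk1 : k = 1 := by
    by_contra hne
    apply hg1
    refine fix x hx hxc g hodd hgP ?_
    rcases hall _ (hgP x hx) with ⟨i, hi⟩ | ⟨i, hi⟩
    · exact hi ▸ pow_mem (Subgroup.mem_zpowers x) i
    · exfalso
      have h := hordy i
      rw [← hi, ← MulAut.conj_apply, MulEquiv.orderOf_eq, hordx] at h
      have h3 : k + 1 = 2 := Nat.pow_right_injective le_rfl (show 2 ^ (k + 1) = 2 ^ 2 by simpa using h)
      omega
  subst hk1
  -- the squares
  have sq4 : ∀ u : SL₂, orderOf u = 4 → u ^ 2 = -1 := by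
    intro u hu
    have h4 : (u ^ 2) ^ 2 = 1 := by rw [← pow_mul, ← orderOf_dvd_iff_pow_eq_one, hu]
    refine (Classical.eq_one_or_neg_one_of_sq h2 h4).resolve_left fun h => ?_
    have := orderOf_dvd_of_pow_eq_one h
    rw [hu] at this
    norm_num at this
  have hx2 : x ^ 2 = -1 := sq4 x hordx
  have hy2 : y ^ 2 = -1 := sq4 y (by simpa using hordy 0)
  have hyx2 : (y * x) ^ 2 = -1 := sq4 _ (by simpa using hordy 1)
  have hm1 : (-1 : SL₂) ∈ Subgroup.center SL₂ := (mem_center_iff_sl2 h2).2 (by simp)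
  have hxyx : y * x ∈ P := mul_mem hy hx
  have hnc1 : x * (y * x) ≠ y * x * x := fun h => hnc (mul_right_cancel (show x * y * x = y * x * x by
    rw [mul_assoc]; exact h))
  have hnc2 : y * (y * x) ≠ y * x * y := fun h => hnc (mul_left_cancel (show y * (x * y) = y * (y * x) by
    rw [h, mul_assoc]))
  have hyxc : y * x ∉ Subgroup.center SL₂ := fun h => hnc1 ((Subgroup.mem_center_iff.1 h) x)
  -- the three classes
  have three : ∀ w ∈ P, w ∈ Subgroup.center SL₂ ∨ ∃ u, (u = x ∨ u = y ∨ u = y * x) ∧ (w = u ∨ w = u⁻¹) := by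
    have hinv : ∀ u : SL₂, u ^ 2 = -1 → u * (-1) = u⁻¹ := fun u hu => by
      rw [← hu]
      apply eq_inv_of_mul_eq_one_right
      rw [← mul_assoc, ← pow_two, hu]
      simp
    have hx4 : x ^ 4 = 1 := by rw [show (4 : ℕ) = 2 * 2 from rfl, pow_mul, hx2]; simp
    have hx3 : x ^ 3 = x * (-1) := by rw [pow_succ', hx2]
    intro w hw
    rcases hall w hw with ⟨i, rfl⟩ | ⟨i, rfl⟩
    · rw [pow_eq_pow_mod i hx4]
      have := Nat.mod_lt i (show 4 > 0 by norm_num)
      interval_cases i % 4
      · left; simp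
      · exact Or.inr ⟨x, Or.inl rfl, Or.inl (pow_one x)⟩
      · left; rw [hx2]; exact hm1
      · exact Or.inr ⟨x, Or.inl rfl, Or.inr (by rw [hx3, hinv x hx2])⟩
    · rw [pow_eq_pow_mod i hx4]
      have := Nat.mod_lt i (show 4 > 0 by norm_num)
      interval_cases i % 4
      · exact Or.inr ⟨y, Or.inr (Or.inl rfl), Or.inl (by simp)⟩
      · exact Or.inr ⟨y * x, Or.inr (Or.inr rfl), Or.inl (by simp)⟩
      · exact Or.inr ⟨y, Or.inr (Or.inl rfl), Or.inr (by rw [hx2, hinv y hy2])⟩
      · exact Or.inr ⟨y * x, Or.inr (Or.inr rfl), Or.inr (by rw [hx3, ← mul_assoc, hinv _ hyx2])⟩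
  have sameZ : ∀ w u : SL₂, (w = u ∨ w = u⁻¹) → Subgroup.zpowers w = Subgroup.zpowers u := by
    rintro w u (rfl | rfl)
    · rfl
    · exact Subgroup.zpowers_inv
  -- image of a class
  have img : ∀ u ∈ P, u ∉ Subgroup.center SL₂ → ∀ h : SL₂, (∀ t ∈ P, h * t * h⁻¹ ∈ P) →
      ∃ v, (v = x ∨ v = y ∨ v = y * x) ∧ Subgroup.zpowers (h * u * h⁻¹) = Subgroup.zpowers v := by
    intro u hu huc h hh
    rcases three _ (hh u hu) with hc | ⟨v, hv, he⟩
    · exfalso
      apply huc
      have h' := (Subgroup.center SL₂).mul_mem (Subgroup.mul_mem _ hc (one_mem _)) (one_mem _)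
      rw [Subgroup.mem_center_iff] at hc ⊢
      intro a
      have := hc (h * a * h⁻¹)
      calc a * u = h⁻¹ * (h * a * h⁻¹ * (h * u * h⁻¹)) * h := by group
        _ = h⁻¹ * (h * u * h⁻¹ * (h * a * h⁻¹)) * h := by rw [this]
        _ = u * a := by group
    · exact ⟨v, hv, sameZ _ _ he⟩
  have mulNorm : ∀ a b : SL₂, (∀ t ∈ P, a * t * a⁻¹ ∈ P) → (∀ t ∈ P, b * t * b⁻¹ ∈ P) →
      ∀ t ∈ P, a * b * t * (a * b)⁻¹ ∈ P := by
    intro a b ha hb t ht
    have := ha _ (hb t ht)
    convert this using 1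
    group
  set J := H ⊔ H.map (MulAut.conj g).toMonoidHom with hJ
  have hPJ : (P : Subgroup SL₂) ≤ J := hP.trans le_sup_left
  by_cases hex : ∃ a ∈ J, Odd (orderOf a) ∧ a ≠ 1 ∧ ∀ t ∈ P, a * t * a⁻¹ ∈ P
  · -- the normaliser in J is big
    left
    obtain ⟨a, haJ, hao, ha1, haP⟩ := hex
    have ha2P := mulNorm a a haP haP
    have ha2o : Odd (orderOf (a * a)) := by
      rw [← pow_two]
      exact hao.of_dvd_nat (orderOf_pow_dvd 2)
    have ha21 : a * a ≠ 1 := fun h => ha1 (eq_one_of_odd_two (k := 1) hao (pow_orderOf_eq_one a)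
      (by rw [pow_one, pow_two]; exact h))
    obtain ⟨v1, hv1, e1⟩ := img x hx hxc a haP
    obtain ⟨v2, hv2, e2⟩ := img x hx hxc (a * a) ha2P
    obtain ⟨v, hv, e⟩ := img x hx hxc g hgP
    have hne1 : v1 ≠ x := fun h => ha1 (fix x hx hxc a hao haP (by rw [h] at e1; rw [← e1]; exact Subgroup.mem_zpowers _))
    have hne2 : v2 ≠ x := fun h => ha21 (fix x hx hxc _ ha2o ha2P (by rw [h] at e2; rw [← e2]; exact Subgroup.mem_zpowers _))
    have hne : v ≠ x := fun h => hg1 (fix x hx hxc g hodd hgP (by rw [h] at e; rw [← e]; exact Subgroup.mem_zpowers _))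
    have hne12 : v1 ≠ v2 := fun h => by
      apply ha1
      refine fix (a * x * a⁻¹) (haP x hx) (fun hc => ?_) a hao haP ?_
      · rcases hv1 with h' | h' | h'
        · exact hne1 h'
        · have : v1 ∈ Subgroup.center SL₂ :=
            (Subgroup.zpowers_le.2 hc) (e1 ▸ Subgroup.mem_zpowers v1)
          exact hyc (h' ▸ this)
        · have : v1 ∈ Subgroup.center SL₂ :=
            (Subgroup.zpowers_le.2 hc) (e1 ▸ Subgroup.mem_zpowers v1)
          exact hyxc (h' ▸ this)
      · rw [e1, h, ← e2, show a * (a * x * a⁻¹) * a⁻¹ = a * a * x * (a * a)⁻¹ by group]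
        exact Subgroup.mem_zpowers _
    have hcases : v = v1 ∨ v = v2 := by
      rcases hv with rfl | rfl | rfl <;> rcases hv1 with rfl | rfl | rfl <;> rcases hv2 with rfl | rfl | rfl <;>
        simp_all
    obtain ⟨b, hbJ, hbP, hb⟩ : ∃ b ∈ J, (∀ t ∈ P, b * t * b⁻¹ ∈ P) ∧
        Subgroup.zpowers (g * x * g⁻¹) = Subgroup.zpowers (b * x * b⁻¹) := by
      rcases hcases with h | h
      · exact ⟨a, haJ, haP, by rw [e, h, e1]⟩
      · exact ⟨a * a, mul_mem haJ haJ, ha2P, by rw [e, h, e2]⟩
    set h := b⁻¹ * g with hh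
    have hbinv : ∀ t ∈ P, b⁻¹ * t * b⁻¹⁻¹ ∈ P := by
      have hbN : b ∈ Subgroup.normalizer ((P : Subgroup SL₂) : Set SL₂) := by
        refine Subgroup.mem_normalizer_fintype fun t ht => hbP t ht
      intro t ht
      exact ((Subgroup.mem_normalizer_iff.1 (inv_mem hbN)) t).1 ht
    obtain ⟨t, ht, z, hz, hzo, hzP, he⟩ := exists_odd_part P (mulNorm b⁻¹ g hbinv hgP)
    have hmem : h * x * h⁻¹ ∈ Subgroup.zpowers x := by
      have h1 : g * x * g⁻¹ ∈ Subgroup.zpowers (b * x * b⁻¹) := hb ▸ Subgroup.mem_zpowers _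
      obtain ⟨i, hi⟩ := h1
      change (b * x * b⁻¹) ^ i = _ at hi
      refine ⟨i, ?_⟩
      show x ^ i = _
      rw [conj_zpow] at hi
      rw [hh, show b⁻¹ * g * x * (b⁻¹ * g)⁻¹ = b⁻¹ * (g * x * g⁻¹) * b by group, ← hi]
      group
    have htx : ∀ s ∈ P, s * x * s⁻¹ ∈ Subgroup.zpowers x := by
      intro s hs
      rcases hall s hs with ⟨i, rfl⟩ | ⟨i, rfl⟩
      · refine ⟨1, ?_⟩
        show x ^ (1 : ℤ) = _
        rw [zpow_one, ← pow_succ, pow_succ', mul_inv_cancel_right]
      · refine ⟨-1, ?_⟩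
        show x ^ (-1 : ℤ) = _
        rw [_root_.zpow_neg_one, ← hrel]
        have hci : x ^ i * x * (x ^ i)⁻¹ = x := by rw [← pow_succ, pow_succ', mul_inv_cancel_right]
        rw [show y * x ^ i * x * (y * x ^ i)⁻¹ = y * (x ^ i * x * (x ^ i)⁻¹) * y⁻¹ by group, hci]
    have hz1 : z = 1 := by
      refine fix x hx hxc z hzo hzP ?_
      obtain ⟨i, hi⟩ := hmem
      change x ^ i = _ at hi
      have h2' : z * x * z⁻¹ = t⁻¹ * (h * x * h⁻¹) * t := by rw [show h = t * z from he]; group
      rw [h2', ← hi]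
      have h3 := htx t⁻¹ (inv_mem ht)
      rw [inv_inv] at h3
      have h4 := zpow_mem h3 i
      have : (t⁻¹ * x * t) ^ i = t⁻¹ * x ^ i * t := by
        have := conj_zpow (a := t⁻¹) (b := x) (i := i)
        rwa [inv_inv] at this
      rwa [this] at h4
    rw [hz1, mul_one] at he
    have : g = b * t := by rw [← he, mul_inv_cancel_left]
    rw [this]
    exact mul_mem hbJ (hPJ ht)
  · -- the normaliser in J is the Sylow subgroup
    push Not at hex
    right
    by_cases hodd' : ∃ a ∈ H, Odd (orderOf a) ∧ a ≠ 1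
    swap
    · push Not at hodd'
      have hH : IsPGroup 2 H := by
        intro a
        obtain ⟨e, r, hr, her⟩ := Nat.exists_eq_pow_mul_and_not_dvd (orderOf_pos a.1).ne' 2 (by norm_num)
        refine ⟨e, Subtype.ext (hodd' _ (pow_mem a.2 _) ?_)⟩
        refine Odd.of_dvd_nat ?_ (orderOf_dvd_of_pow_eq_one
          (show (a.1 ^ 2 ^ e) ^ r = 1 by rw [← pow_mul, ← her, pow_orderOf_eq_one]))
        rw [← Nat.not_even_iff_odd, even_iff_two_dvd]
        exact hr
      have hHP := P.3 hH hP
      exact map_conj_eq_self H (by rw [hHP]; exact hgP)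
    exfalso
    obtain ⟨a, haH, hao, ha1⟩ := hodd'
    haveI : Fact (Nat.Prime 2) := ⟨Nat.prime_two⟩
    -- the quotient by the centre
    set Z : Subgroup J := (Subgroup.center SL₂).subgroupOf J with hZ
    set π : J →* J ⧸ Z := QuotientGroup.mk' Z with hπ
    have hπ1 : ∀ w : J, π w = 1 ↔ (w : SL₂) ∈ Subgroup.center SL₂ := fun w => by
      rw [hπ, QuotientGroup.mk'_apply, QuotientGroup.eq_one_iff, hZ, Subgroup.mem_subgroupOf]
    set PJ : Sylow 2 J := P.subtype hPJ with hPJdef
    set Pb : Sylow 2 (J ⧸ Z) := PJ.mapSurjective (f := π) (QuotientGroup.mk'_surjective Z)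
    have hPb : ∀ b, b ∈ (Pb : Subgroup (J ⧸ Z)) ↔ ∃ w : J, (w : SL₂) ∈ P ∧ π w = b := by
      intro b
      show b ∈ (PJ : Subgroup J).map π ↔ _
      simp only [Subgroup.mem_map, hPJdef, Sylow.coe_subtype, Subgroup.mem_subgroupOf]
      rfl
    have hcP : ∀ c ∈ Subgroup.center SL₂, c ∈ P := by
      intro c hc
      rcases Classical.eq_one_or_neg_one_of_sq h2 ((mem_center_iff_sl2 h2).1 hc) with rfl | rfl
      · exact one_mem _
      · rw [← hx2]; exact pow_mem hx 2
    have hsq : ∀ b ∈ (Pb : Subgroup (J ⧸ Z)), b * b = 1 := by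
      intro b hb
      obtain ⟨w, hw, rfl⟩ := (hPb b).1 hb
      rw [← map_mul, hπ1, Subgroup.coe_mul, mem_center_iff_sl2 h2, ← pow_two, ← pow_mul]
      rcases three _ hw with hc | ⟨u, hu, hwu⟩
      · rw [show 2 * 2 = 4 from rfl, show (4 : ℕ) = 2 * 2 from rfl, pow_mul, (mem_center_iff_sl2 h2).1 hc,
          one_pow]
      · have hu4 : u ^ (2 * 2) = 1 := by
          rcases hu with h | h | h <;> rw [h, pow_mul] <;> simp [hx2, hy2, hyx2]
        rcases hwu with h | h <;> rw [h]
        · exact hu4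
        · rw [_root_.inv_pow, hu4, inv_one]
    have hNC : Subgroup.normalizer ((Pb : Subgroup (J ⧸ Z)) : Set (J ⧸ Z)) ≤
        Subgroup.centralizer ((Pb : Subgroup (J ⧸ Z)) : Set (J ⧸ Z)) := by
      intro b hb
      obtain ⟨w, rfl⟩ := QuotientGroup.mk'_surjective Z b
      have hwP : ∀ t ∈ P, (w : SL₂) * t * (w : SL₂)⁻¹ ∈ P := by
        intro t ht
        have h1 : π w * π ⟨t, hPJ ht⟩ * (π w)⁻¹ ∈ (Pb : Subgroup (J ⧸ Z)) :=
          ((Subgroup.mem_normalizer_iff.1 hb) _).1 ((hPb _).2 ⟨⟨t, hPJ ht⟩, ht, rfl⟩)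
        obtain ⟨s, hs, e⟩ := (hPb _).1 h1
        rw [← map_inv, ← map_mul, ← map_mul] at e
        have h3 : π (s⁻¹ * (w * ⟨t, hPJ ht⟩ * w⁻¹)) = 1 := by rw [map_mul, map_inv, e, inv_mul_cancel]
        rw [hπ1] at h3
        have := mul_mem hs (hcP _ h3)
        simpa using this
      obtain ⟨t, ht, z, hz, hzo, hzP, he⟩ := exists_odd_part P hwP
      have hzJ : z ∈ J := (Subgroup.zpowers_le.2 w.2) hz
      have hz1 : z = 1 := by
        by_contra hz1
        obtain ⟨t', ht', h'⟩ := hex z hzJ hzo hz1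
        exact h' (hzP t' ht')
      rw [hz1, mul_one] at he
      have hbP : π w ∈ (Pb : Subgroup (J ⧸ Z)) := (hPb _).2 ⟨w, by rw [he]; exact ht, rfl⟩
      rw [Subgroup.mem_centralizer_iff]
      intro c hc
      have e1 := hsq _ (mul_mem hc hbP)
      calc c * π w = (c * π w)⁻¹ := (inv_eq_of_mul_eq_one_right e1).symm
        _ = π w * c := by
          rw [_root_.mul_inv_rev, inv_eq_of_mul_eq_one_right (hsq _ hbP), inv_eq_of_mul_eq_one_right (hsq _ hc)]
    set φ := MonoidHom.transferSylow Pb hNC with hφ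
    set f : J →* (Pb : Subgroup (J ⧸ Z)) := φ.comp π with hf
    set L : Subgroup J := f.ker with hL
    have hPL : ∀ w : J, (w : SL₂) ∈ P → f w = 1 → (w : SL₂) ∈ Subgroup.center SL₂ := by
      intro w hw h1
      rw [← hπ1]
      exact Subgroup.disjoint_def.1 (MonoidHom.ker_transferSylow_disjoint Pb hNC _ Pb.2)
        (MonoidHom.mem_ker.2 h1) ((hPb _).2 ⟨w, hw, rfl⟩)
    have hoddL : ∀ w : J, Odd (orderOf w) → w ∈ L := by
      intro w hw
      obtain ⟨e, he⟩ := Pb.2 (f w)
      exact MonoidHom.mem_ker.2 (eq_one_of_odd_two hw (by rw [← map_pow, pow_orderOf_eq_one, map_one]) he)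
    obtain ⟨p, hp⟩ := CharP.exists F
    haveI := Fact.mk (CharP.char_is_prime F p)
    have hp2 : p ≠ 2 := fun h => h2 (by subst h; exact CharTwo.two_eq_zero)
    -- the unipotent elements
    have hpL : ¬ p ∣ Nat.card L := by
      intro hdvd
      obtain ⟨S⟩ : Nonempty (Sylow p L) := inferInstance
      haveI : Nontrivial (S : Subgroup L) := by
        rw [Subgroup.nontrivial_iff_ne_bot]
        exact S.ne_bot_of_dvd_card hdvd
      have := S.2.center_nontrivial
      obtain ⟨u, hu⟩ := exists_ne (1 : Subgroup.center (S : Subgroup L))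
      set us : SL₂ := ((((u.1 : (S : Subgroup L)) : L) : J) : SL₂) with hus
      have hus1 : us ≠ 1 := fun h => hu (by
        apply Subtype.ext; apply Subtype.ext; apply Subtype.ext; apply Subtype.ext
        exact h)
      obtain ⟨e, he⟩ := S.2 (u.1 : (S : Subgroup L))
      have hue : us ^ p ^ e = 1 := by
        rw [hus, ← Subgroup.coe_pow, ← Subgroup.coe_pow, ← Subgroup.coe_pow, he]; rfl
      set N : Matrix (Fin 2) (Fin 2) F := (us : Matrix (Fin 2) (Fin 2) F) - 1 with hN
      have hN2 : N * N = 0 := sub_one_sq_zero p hue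
      have hN0 : N ≠ 0 := fun h => hus1 (Subtype.ext (by rw [sub_eq_zero.1 h]; rfl))
      have hNs : ∀ c : F, N ≠ c • 1 := by
        intro c hc
        apply hN0
        rw [hc] at hN2 ⊢
        rw [Matrix.smul_mul, Matrix.mul_smul, mul_one, smul_smul, smul_eq_zero] at hN2
        rw [mul_self_eq_zero.1 (hN2.resolve_right one_ne_zero), zero_smul]
      set Nn := Subgroup.normalizer (((S : Subgroup L).map L.subtype : Subgroup J) : Set J) with hNn
      have htop : Nn ⊔ L = ⊤ := Sylow.normalizer_sup_eq_top S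
      have hchi : ∀ w : Nn, ∃ c : Fˣ, ((w : J) : Matrix (Fin 2) (Fin 2) F) * N *
          (((w : J) : SL₂)⁻¹ : SL₂) = (c : F) • N := by
        intro w
        have hm : ((u.1 : (S : Subgroup L)) : L).1 ∈ (S : Subgroup L).map L.subtype :=
          Subgroup.mem_map_of_mem L.subtype (u.1 : (S : Subgroup L)).2
        obtain ⟨s, hs, hse⟩ := ((Subgroup.mem_normalizer_iff.1 w.2) _).1 hm
        have hcom := (Subgroup.mem_center_iff.1 u.2) ⟨s, hs⟩
        set w' : SL₂ := ((w : J) : SL₂)
        have hse' : ((s : J) : SL₂) = w' * us * w'⁻¹ := by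
          have := congrArg (fun z : J => (z : SL₂)) hse
          simpa using this
        have hcom' : us * (w' * us * w'⁻¹) = w' * us * w'⁻¹ * us := by
          have h1 := congrArg (fun z : (S : Subgroup L) => (((z : L) : J) : SL₂)) hcom
          simp only [Subgroup.coe_mul] at h1
          rw [hse'] at h1
          exact h1.symm
        set N' := (w' : Matrix (Fin 2) (Fin 2) F) * N * ((w'⁻¹ : SL₂) : Matrix (Fin 2) (Fin 2) F) with hN'
        have hN'e : N' = ((w' * us * w'⁻¹ : SL₂) : Matrix (Fin 2) (Fin 2) F) - 1 := by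
          rw [hN', hN, mul_sub, sub_mul, mul_one, ← Matrix.SpecialLinearGroup.coe_mul,
            ← Matrix.SpecialLinearGroup.coe_mul, ← Matrix.SpecialLinearGroup.coe_mul, mul_inv_cancel,
            Matrix.SpecialLinearGroup.coe_one]
        have hN'2 : N' * N' = 0 := by
          rw [hN'e]
          exact sub_one_sq_zero p (e := e) (by rw [conj_pow, hue, mul_one, mul_inv_cancel])
        have hNN' : N * N' = N' * N := by
          have h1 := congrArg (fun z : SL₂ => (z : Matrix (Fin 2) (Fin 2) F)) hcom'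
          simp only [Matrix.SpecialLinearGroup.coe_mul] at h1
          rw [hN'e, hN, sub_mul, sub_mul, mul_sub, mul_sub, Matrix.SpecialLinearGroup.coe_mul,
            Matrix.SpecialLinearGroup.coe_mul, h1]
          noncomm_ring
        obtain ⟨c, d, hcd⟩ := Classical.exists_lin_of_commute hNs hNN'
        have h0 : (2 * c * d) • N + (d * d) • (1 : Matrix (Fin 2) (Fin 2) F) = (0 : F) • N + (0 : F) • 1 := by
          rw [hcd] at hN'2
          simp only [add_mul, mul_add, Matrix.smul_mul, Matrix.mul_smul, Matrix.one_mul, Matrix.mul_one, hN2,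
            smul_zero, zero_add, smul_smul, smul_add] at hN'2
          linear_combination (norm := module) hN'2
        have hd : d = 0 := mul_self_eq_zero.1 (Classical.lin_unique hNs h0).2
        rw [hd, zero_smul, add_zero] at hcd
        have hc0 : c ≠ 0 := by
          intro h
          rw [h, zero_smul] at hcd
          apply hN0
          have h1 := congrArg (fun M => ((w'⁻¹ : SL₂) : Matrix (Fin 2) (Fin 2) F) * M *
            (w' : Matrix (Fin 2) (Fin 2) F)) (hN' ▸ hcd)
          simp only [mul_zero, zero_mul, ← mul_assoc, ← Matrix.SpecialLinearGroup.coe_mul, inv_mul_cancel,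
            Matrix.SpecialLinearGroup.coe_one, one_mul] at h1
          rw [mul_assoc, ← Matrix.SpecialLinearGroup.coe_mul, inv_mul_cancel,
            Matrix.SpecialLinearGroup.coe_one, mul_one] at h1
          exact h1
        exact ⟨Units.mk0 c hc0, hcd⟩
      choose χ hχ using hchi
      have huniq : ∀ c d : Fˣ, (c : F) • N = (d : F) • N → c = d := fun c d h =>
        Units.ext (smul_left_injective F hN0 h)
      let χ' : Nn →* Fˣ := MonoidHom.mk' χ (by
        intro v w
        apply huniq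
        rw [← hχ, Subgroup.coe_mul, Subgroup.coe_mul, _root_.mul_inv_rev, Matrix.SpecialLinearGroup.coe_mul,
          Matrix.SpecialLinearGroup.coe_mul, Units.val_mul, mul_comm ((χ v : F)), ← smul_smul, ← hχ v,
          ← Matrix.smul_mul, ← Matrix.mul_smul, ← hχ w]
        simp only [mul_assoc])
      set fN : Nn →* (Pb : Subgroup (J ⧸ Z)) := f.comp Nn.subtype with hfN
      have hker : χ'.ker ≤ fN.ker := by
        intro w hw
        rw [MonoidHom.mem_ker] at hw ⊢
        change χ w = 1 at hw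
        have h1 := hχ w
        rw [hw, Units.val_one, one_smul] at h1
        set w' : SL₂ := ((w : J) : SL₂)
        have hcm : N * (w' : Matrix (Fin 2) (Fin 2) F) = (w' : Matrix (Fin 2) (Fin 2) F) * N := by
          conv_lhs => rw [← h1]
          rw [mul_assoc, ← Matrix.SpecialLinearGroup.coe_mul, inv_mul_cancel,
            Matrix.SpecialLinearGroup.coe_one, mul_one]
        obtain ⟨c, d, hcd⟩ := Classical.exists_lin_of_commute hNs hcm
        have hpc : w' ^ p ∈ Subgroup.center SL₂ := by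
          by_contra hc
          refine nonscalar_of_notMem_center hc (d ^ p) ?_
          have : CharP (Matrix (Fin 2) (Fin 2) F) p := inferInstance
          have hNp : N ^ p = 0 := by
            rw [← Nat.add_sub_cancel' (Fact.out : p.Prime).two_le, pow_add, pow_two, hN2, zero_mul]
          rw [Matrix.SpecialLinearGroup.coe_pow, hcd,
            add_pow_char_of_commute p (((Commute.one_right N).smul_right d).smul_left c), smul_pow, smul_pow,
            hNp, smul_zero, zero_add, one_pow]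
        have h4 : fN w ^ p = 1 := by
          have : π ((w : J) ^ p) = 1 := (hπ1 _).2 (by rw [Subgroup.coe_pow]; exact hpc)
          show f (w : J) ^ p = 1
          rw [← map_pow, hf, MonoidHom.comp_apply, this, map_one]
        exact eq_one_of_odd_two (k := 1) ((Fact.out : p.Prime).odd_of_ne_two hp2) h4
          (Subtype.ext (by rw [pow_one, pow_two, Subgroup.coe_mul, hsq _ (fN w).2]; rfl))
      have hsurj : Function.Surjective fN := by
        intro b
        obtain ⟨w0, hw0, hb⟩ := (hPb _).1 b.2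
        have hfw : Function.Bijective (φ.domRestrict (Pb : Subgroup (J ⧸ Z))) :=
          MonoidHom.transferSylow_domRestrict_eq_pow Pb hNC ▸ (Pb.2.powEquiv' Pb.not_dvd_index).bijective
        obtain ⟨b', hb'⟩ := hfw.2 b
        obtain ⟨w1, -, hw1⟩ := (hPb _).1 b'.2
        have hin : w1 ∈ Nn ⊔ L := htop ▸ Subgroup.mem_top _
        obtain ⟨v, hv, l, hl, rfl⟩ := Subgroup.mem_sup_of_normal_right.1 hin
        refine ⟨⟨v, hv⟩, ?_⟩
        show f v = b
        have hl' : f l = 1 := hl
        have : f (v * l) = b := by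
          rw [hf, MonoidHom.comp_apply, hw1]; exact hb'
        rwa [map_mul, hl', mul_one] at this
      haveI : IsCyclic (Nn ⧸ χ'.ker) :=
        isCyclic_of_injective (QuotientGroup.kerLift χ') (QuotientGroup.kerLift_injective χ')
      have hcyc : IsCyclic (Pb : Subgroup (J ⧸ Z)) := by
        refine isCyclic_of_surjective (QuotientGroup.lift χ'.ker fN hker) fun b => ?_
        obtain ⟨w, rfl⟩ := hsurj b
        exact ⟨(w : Nn ⧸ χ'.ker), rfl⟩
      obtain ⟨b0, hb0⟩ := hcyc.exists_zpow_surjective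
      have hb02 : b0 ^ 2 = 1 := Subtype.ext (by rw [pow_two, Subgroup.coe_mul, hsq _ b0.2]; rfl)
      have two : ∀ b : (Pb : Subgroup (J ⧸ Z)), b = 1 ∨ b = b0 := by
        intro b
        obtain ⟨i, rfl⟩ := hb0 b
        rcases Int.even_or_odd i with ⟨j, rfl⟩ | ⟨j, rfl⟩
        · left
          show b0 ^ (j + j) = 1
          rw [← two_mul, _root_.zpow_mul, zpow_two, ← pow_two, hb02, _root_.one_zpow]
        · right
          show b0 ^ (2 * j + 1) = b0
          rw [_root_.zpow_add_one, _root_.zpow_mul, zpow_two, ← pow_two, hb02, _root_.one_zpow, one_mul]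
      have hxn : ∀ s : SL₂, ∀ hs : s ∈ P, s ∉ Subgroup.center SL₂ →
          (⟨π ⟨s, hPJ hs⟩, (hPb _).2 ⟨_, hs, rfl⟩⟩ : (Pb : Subgroup (J ⧸ Z))) = b0 := by
        intro s hs hsc
        refine (two _).resolve_left fun h => hsc ?_
        exact (hπ1 _).1 (congrArg Subtype.val h)
      have heq := congrArg Subtype.val ((hxn x hx hxc).trans (hxn y hy hyc).symm)
      have hxy : π (⟨x, hPJ hx⟩⁻¹ * ⟨y, hPJ hy⟩) = 1 := by
        rw [map_mul, map_inv]
        exact inv_mul_eq_one.2 heq
      rw [hπ1] at hxy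
      have h5 := (Subgroup.mem_center_iff.1 hxy) x
      simp only [Subgroup.coe_mul, Subgroup.coe_inv] at h5
      exact hnc (by
        have h6 := congrArg (fun z => x * z) h5
        simpa [← mul_assoc] using h6)
    -- L is a Z-group
    haveI hZL : IsZGroup L := by
      refine ⟨fun r hr S => ?_⟩
      haveI := Fact.mk hr
      set ι := (J.subtype).comp L.subtype with hι
      have hιinj : Function.Injective ι := J.subtype_injective.comp L.subtype_injective
      set W : Subgroup SL₂ := (S : Subgroup L).map ι with hW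
      suffices hWc : IsCyclic W from
        ((S : Subgroup L).equivMapOfInjective ι hιinj).isCyclic.2 hWc
      rcases eq_or_ne r p with rfl | hrp
      · have hcard : Nat.card (S : Subgroup L) = 1 := by
          rw [S.card_eq_multiplicity, Nat.factorization_eq_zero_of_not_dvd hpL, pow_zero]
        have : Subsingleton W := by
          rw [← Finite.card_le_one_iff_subsingleton, hW, Subgroup.card_map_of_injective hιinj, hcard]
        exact isCyclic_of_subsingleton
      rcases eq_or_ne r 2 with rfl | hr2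
      · have hle : W ≤ Subgroup.zpowers (-1 : SL₂) := by
          rintro _ ⟨s, hs, rfl⟩
          obtain ⟨e, he⟩ := S.2 ⟨s, hs⟩
          have hs2 : (π (s : J)) ^ 2 ^ e = 1 := by
            have h1 : (s : J) ^ 2 ^ e = 1 := by
              have := congrArg (fun z : (S : Subgroup L) => (((z : L) : J))) he
              simpa using this
            rw [← map_pow, h1, map_one]
          have hpz : IsPGroup 2 (Subgroup.zpowers (π (s : J))) := by
            intro b
            refine ⟨e, Subtype.ext ?_⟩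
            obtain ⟨i, hi⟩ := b.2
            change _ ^ i = b.1 at hi
            rw [Subgroup.coe_pow, Subgroup.coe_one, ← hi, ← zpow_natCast, ← _root_.zpow_mul, mul_comm,
              _root_.zpow_mul, zpow_natCast, hs2, _root_.one_zpow]
          have h1 : π (s : J) = 1 :=
            Subgroup.disjoint_def.1 (MonoidHom.ker_transferSylow_disjoint Pb hNC _ hpz)
              (MonoidHom.mem_ker.2 (MonoidHom.mem_ker.1 s.2 : f (s : J) = 1)) (Subgroup.mem_zpowers _)
          rcases Classical.eq_one_or_neg_one_of_sq h2 ((mem_center_iff_sl2 h2).1 ((hπ1 _).1 h1)) with h | h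
          · show ((s : J) : SL₂) ∈ _
            rw [h]; exact one_mem _
          · show ((s : J) : SL₂) ∈ _
            rw [h]; exact Subgroup.mem_zpowers _
        exact isCyclic_of_injective (Subgroup.inclusion hle) (Subgroup.inclusion_injective hle)
      · obtain ⟨R, hR⟩ := (S.2.map ι).exists_le_sylow
        haveI := Classical.isCyclic_sylow_sl2 p hr2 hrp R
        exact isCyclic_of_injective (Subgroup.inclusion hR) (Subgroup.inclusion_injective hR)
    have haJ : a ∈ J := le_sup_left (a := H) haH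
    have haL : (⟨a, haJ⟩ : J) ∈ L := hoddL _ (by rwa [← Subgroup.orderOf_coe])
    have hac : a ∉ Subgroup.center SL₂ := fun h => ha1 (eq_one_of_center_odd h2 h hao)
    obtain ⟨C, hCn, hCc, hCL, hCnot⟩ : ∃ C : Subgroup J, C.Normal ∧ IsCyclic C ∧ C ≤ L ∧
        ¬ C ≤ (Subgroup.center SL₂).subgroupOf J := by
      by_cases hcyc : IsCyclic L
      · exact ⟨L, inferInstance, hcyc, le_rfl, fun h => hac (Subgroup.mem_subgroupOf.1 (h haL))⟩
      · refine ⟨(commutator L).map L.subtype, inferInstance,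
          (Subgroup.equivMapOfInjective _ _ L.subtype_injective).isCyclic.1 (IsZGroup.isCyclic_commutator _),
          Subgroup.map_subtype_le _, fun h => hcyc ?_⟩
        have hle : (Abelianization.of (G := L)).ker ≤ Subgroup.center L := by
          rw [Abelianization.ker_of]
          intro c hc
          have h1 := Subgroup.mem_subgroupOf.1 (h (Subgroup.mem_map_of_mem L.subtype hc))
          rw [Subgroup.mem_center_iff] at h1 ⊢
          intro b
          exact Subtype.ext (Subtype.ext (h1 ((b : J) : SL₂)))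
        haveI : Group.IsNilpotent L := Subgroup.isNilpotent_of_ker_le_center _ hle
        infer_instance
    haveI := hCn
    obtain ⟨⟨c, hcC⟩, hgen⟩ := hCc.exists_generator
    have hgen' : ∀ z ∈ C, z ∈ Subgroup.zpowers c := by
      intro z hz
      obtain ⟨i, hi⟩ := hgen ⟨z, hz⟩
      exact ⟨i, by simpa using congrArg Subtype.val hi⟩
    set r : SL₂ := (c : SL₂) with hr
    have hrc : r ∉ Subgroup.center SL₂ := fun h => hCnot fun z hz => by
      rw [Subgroup.mem_subgroupOf]
      obtain ⟨i, rfl⟩ := hgen' z hz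
      exact zpow_mem h i
    have hcop : Nat.Coprime (orderOf r) p := by
      rw [Nat.coprime_comm, (Fact.out : p.Prime).coprime_iff_not_dvd]
      intro h
      apply hpL
      refine h.trans ?_
      have : orderOf (⟨c, hCL hcC⟩ : L) ∣ Nat.card L := orderOf_dvd_natCard _
      rwa [← Subgroup.orderOf_coe, ← Subgroup.orderOf_coe] at this
    have hrt : (r : Matrix (Fin 2) (Fin 2) F).trace ^ 2 ≠ 4 := fun h =>
      hrc ((mem_center_iff_sl2 h2).2 (Classical.sq_eq_one_of_trace p hcop h))
    have hdich : ∀ j ∈ J, j * r * j⁻¹ = r ∨ j * r * j⁻¹ = r⁻¹ := by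
      intro j hj
      refine conj_eq_or_inv h2 hrc hrt ?_
      obtain ⟨i, hi⟩ := hgen' _ (hCn.conj_mem c hcC ⟨j, hj⟩)
      change c ^ i = _ at hi
      have hi' : r ^ i = j * r * j⁻¹ := by
        have := congrArg (fun z : J => (z : SL₂)) hi
        simpa using this
      rw [← hi']
      exact (Commute.self_zpow r i).eq
    have hoddc : ∀ j ∈ J, Odd (orderOf j) → r * j = j * r := by
      intro j hj ho
      rcases hdich j hj with h | h
      · exact (mul_inv_eq_iff_eq_mul.1 h).symm
      · exfalso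
        have hn : ∀ n : ℕ, j ^ n * r * (j ^ n)⁻¹ = if Even n then r else r⁻¹ := by
          intro n
          induction n with
          | zero => simp
          | succ n ih =>
            rw [pow_succ' j n, show j * j ^ n * r * (j * j ^ n)⁻¹ = j * (j ^ n * r * (j ^ n)⁻¹) * j⁻¹ by group, ih]
            by_cases hev : Even n
            · rw [if_pos hev, h, if_neg (by simp [Nat.even_add_one, hev])]
            · rw [if_neg hev, if_pos (by simp [Nat.even_add_one, hev]),
                show j * r⁻¹ * j⁻¹ = (j * r * j⁻¹)⁻¹ by group, h, inv_inv]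
        have h1 := hn (orderOf j)
        rw [pow_orderOf_eq_one, if_neg (Nat.not_even_iff_odd.2 ho), one_mul, inv_one, mul_one] at h1
        exact hrc ((mem_center_iff_sl2 h2).2 (by rw [pow_two]; nth_rewrite 1 [h1]; exact inv_mul_cancel r))
    obtain ⟨t, ht, htr⟩ : ∃ t, (t = x ∨ t = y ∨ t = y * x) ∧ r * t = t * r := by
      rcases hdich x (hPJ hx) with h | h
      · exact ⟨x, Or.inl rfl, (mul_inv_eq_iff_eq_mul.1 h).symm⟩
      rcases hdich y (hPJ hy) with h' | h'
      · exact ⟨y, Or.inr (Or.inl rfl), (mul_inv_eq_iff_eq_mul.1 h').symm⟩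
      refine ⟨y * x, Or.inr (Or.inr rfl), (mul_inv_eq_iff_eq_mul.1 ?_).symm⟩
      rw [show y * x * r * (y * x)⁻¹ = y * (x * r * x⁻¹) * y⁻¹ by group, h,
        show y * r⁻¹ * y⁻¹ = (y * r * y⁻¹)⁻¹ by group, h', inv_inv]
    have htP : t ∈ P := by rcases ht with rfl | rfl | rfl <;> assumption
    have htc : t ∉ Subgroup.center SL₂ := by rcases ht with rfl | rfl | rfl <;> assumption
    have hga : g * a * g⁻¹ ∈ J :=
      le_sup_right (b := H.map (MulAut.conj g).toMonoidHom) ⟨a, haH, rfl⟩
    have hgao : Odd (orderOf (g * a * g⁻¹)) := by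
      rw [← MulAut.conj_apply, MulEquiv.orderOf_eq]; exact hao
    have c1 : a * t = t * a := comm_of_comm hrc (hoddc a haJ hao) htr
    have c2 : g * a * g⁻¹ * t = t * (g * a * g⁻¹) := comm_of_comm hrc (hoddc _ hga hgao) htr
    have c3 : a * (g⁻¹ * t * g) = g⁻¹ * t * g * a := by
      calc a * (g⁻¹ * t * g) = g⁻¹ * (g * a * g⁻¹ * t) * g := by group
        _ = g⁻¹ * (t * (g * a * g⁻¹)) * g := by rw [c2]
        _ = _ := by group
    have hgN : g ∈ Subgroup.normalizer ((P : Subgroup SL₂) : Set SL₂) :=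
      Subgroup.mem_normalizer_fintype fun s hs => hgP s hs
    have hginv : ∀ s ∈ P, g⁻¹ * s * g⁻¹⁻¹ ∈ P := fun s hs =>
      ((Subgroup.mem_normalizer_iff.1 (inv_mem hgN)) s).1 hs
    have hcomm := comm_of_comm hac c1 c3
    obtain ⟨v, hv, hve⟩ := img t htP htc g⁻¹ hginv
    rw [inv_inv] at hve
    have hvt : v * t = t * v := by
      obtain ⟨i, hi⟩ : v ∈ Subgroup.zpowers (g⁻¹ * t * g) := hve ▸ Subgroup.mem_zpowers v
      change (g⁻¹ * t * g) ^ i = v at hi
      rw [← hi]
      exact ((Commute.zpow_right (show Commute t (g⁻¹ * t * g) from hcomm) i).eq).symm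
    have hvv : v = t := by
      by_contra hne
      rcases hv with rfl | rfl | rfl <;> rcases ht with rfl | rfl | rfl <;>
        first
        | exact hne rfl
        | exact hnc hvt
        | exact hnc hvt.symm
        | exact hnc1 hvt
        | exact hnc1 hvt.symm
        | exact hnc2 hvt
        | exact hnc2 hvt.symm
    apply hg1
    have := fix t htP htc g⁻¹ (by rwa [orderOf_inv]) hginv (by
      rw [inv_inv, ← hvv]
      rw [hvv] at hve ⊢
      rw [← hve]
      exact Subgroup.mem_zpowers _)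
    exact inv_eq_one.1 this

/-- Subgroups of odd index in SL₂, odd characteristic. -/
theorem pronormal_sl2 (h2 : (2 : F) ≠ 0) (H : Subgroup SL₂) (hH : ¬ 2 ∣ H.index) : Cfsg.IsPronormal H := by
  haveI : Fact (Nat.Prime 2) := ⟨Nat.prime_two⟩
  obtain ⟨P, hP⟩ := exists_sylow_le H hH
  refine pronormal_of_normalizer H P hP fun g hg => ?_
  obtain ⟨t, ht, z, -, hzo, hzP, rfl⟩ := exists_odd_part P (g := g)
    fun s hs => ((Subgroup.mem_normalizer_iff.1 hg) s).1 hs
  have htH : t ∈ H := hP ht
  have htf : H.map (MulAut.conj t).toMonoidHom = H :=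
    map_conj_eq_self H fun y hy => mul_mem (mul_mem htH hy) (inv_mem htH)
  rcases conj_trick h2 H P hP z hzo hzP with h | h
  · refine ⟨t * z, mul_mem (Subgroup.mem_sup_left htH) ?_, rfl⟩
    have hJ : H ⊔ H.map (MulAut.conj z).toMonoidHom ≤ H ⊔ H.map (MulAut.conj (t * z)).toMonoidHom := by
      refine sup_le le_sup_left ?_
      rintro _ ⟨y, hy, rfl⟩
      have h1 : MulAut.conj (t * z) y ∈ H ⊔ H.map (MulAut.conj (t * z)).toMonoidHom :=
        Subgroup.mem_sup_right ⟨y, hy, rfl⟩
      have h2 := mul_mem (mul_mem (Subgroup.mem_sup_left (T := H.map (MulAut.conj (t * z)).toMonoidHom)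
        (inv_mem htH)) h1) (Subgroup.mem_sup_left (T := H.map (MulAut.conj (t * z)).toMonoidHom) htH)
      simpa [mul_assoc] using h2
    exact hJ h
  · refine ⟨1, one_mem _, ?_⟩
    rw [map_conj_mul, h, htf]
    exact (map_conj_eq_self H fun y hy => by simpa using hy).symm

end Cfsg.Agent.OddIndex
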