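import Cfsg.Agent.OddIndex.UpperOver

/-!
The automorphism of GL cutting out a unitary group with an antidiagonal Gram matrix, and its action on the
Bruhat normal form.
-/

set_option autoImplicit false

namespace Cfsg.Agent.OddIndex

open Matrix Cfsg.Agent.GLFlags Cfsg.Agent.Classical

variable {n : ℕ} {F : Type*} [Field F]

local notation "GLn" => GL (Fin n) F

variable (σ : F →+* F)

/-- The conjugate transpose inverse. -/
def ctrG : GLn →* GLn where
  toFun g := ⟨(((g⁻¹ : GLn) : Matrix (Fin n) (Fin n) F).map σ)ᵀ, ((g : Matrix (Fin n) (Fin n) F).map σ)ᵀ,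
    by rw [← Matrix.transpose_mul, ← Matrix.map_mul, ← Units.val_mul, mul_inv_cancel, Units.val_one,
      Matrix.map_one σ (map_zero σ) (map_one σ), Matrix.transpose_one],
    by rw [← Matrix.transpose_mul, ← Matrix.map_mul, ← Units.val_mul, inv_mul_cancel, Units.val_one,
      Matrix.map_one σ (map_zero σ) (map_one σ), Matrix.transpose_one]⟩
  map_one' := Units.ext (by
    show (((1⁻¹ : GLn) : Matrix (Fin n) (Fin n) F).map σ)ᵀ = 1
    rw [inv_one, Units.val_one, Matrix.map_one σ (map_zero σ) (map_one σ), Matrix.transpose_one])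
  map_mul' g h := Units.ext (by
    show ((((g * h)⁻¹ : GLn) : Matrix (Fin n) (Fin n) F).map σ)ᵀ = _
    rw [_root_.mul_inv_rev, Units.val_mul, Matrix.map_mul, Matrix.transpose_mul]
    rfl)

theorem revPerm_mul_self : (Fin.revPerm * Fin.revPerm : Equiv.Perm (Fin n)) = 1 :=
  Equiv.ext fun i => by simp

/-- The automorphism with fixed points the unitary group of the antidiagonal form. -/
def theta : GLn →* GLn :=
  (MulAut.conj (permGL n F Fin.revPerm)).toMonoidHom.comp (ctrG σ)

theorem theta_eq (g : GLn) :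
    theta σ g = permGL n F Fin.revPerm * ctrG σ g * permGL n F Fin.revPerm := by
  have : (permGL n F Fin.revPerm : GLn)⁻¹ = permGL n F Fin.revPerm :=
    inv_eq_of_mul_eq_one_right (by rw [← map_mul, revPerm_mul_self, map_one])
  simp [theta, this]

theorem theta_apply (g : GLn) (i j : Fin n) :
    (theta σ g : Matrix (Fin n) (Fin n) F) i j = σ (((g⁻¹ : GLn) : Matrix (Fin n) (Fin n) F) j.rev i.rev) := by
  rw [theta_eq, Units.val_mul, mul_permGL_apply, Units.val_mul, permGL_mul_apply]
  simp [ctrG]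

/-- The fixed points of `theta`. -/
def thetaFix : Subgroup GLn := MonoidHom.eqLocus (theta σ) (MonoidHom.id GLn)

theorem mem_thetaFix {g : GLn} : g ∈ thetaFix σ ↔ theta σ g = g := Iff.rfl

theorem theta_upper {g : GLn} (hg : g ∈ upperTriangularGL n F) : theta σ g ∈ upperTriangularGL n F := by
  intro i j (hij : j < i)
  rw [theta_apply, show ((g⁻¹ : GLn) : Matrix (Fin n) (Fin n) F) j.rev i.rev = 0 from
    (inv_mem hg) (show id i.rev < id j.rev from Fin.rev_lt_rev.2 hij), map_zero]

theorem theta_uni {g : GLn} (hg : g ∈ unitriangularGL n F) : theta σ g ∈ unitriangularGL n F :=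
  ⟨theta_upper σ hg.1, fun i => by rw [theta_apply, (inv_mem hg).2, map_one]⟩

theorem theta_perm (π : Equiv.Perm (Fin n)) :
    theta σ (permGL n F π) = permGL n F (Fin.revPerm * π * Fin.revPerm) := by
  ext i j
  rw [theta_apply, ← map_inv, permGL_apply, permGL_apply, apply_ite σ, map_one, map_zero]
  refine if_congr ?_ rfl rfl
  simp only [Equiv.Perm.mul_apply, Fin.revPerm_apply, Equiv.Perm.inv_def]
  rw [Equiv.eq_symm_apply, ← Fin.rev_inj, Fin.rev_rev]
  exact eq_comm

theorem theta_diag (d : Fin n → Fˣ) :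
    theta σ (diagGL d) = diagGL fun i => (Units.map σ.toMonoidHom (d i.rev))⁻¹ := by
  ext i j
  rw [theta_apply, ← map_inv, diagGL_coe, diagGL_coe, Matrix.diagonal_apply, Matrix.diagonal_apply,
    apply_ite σ, map_zero]
  by_cases h : i = j
  · subst h
    simp
  · rw [if_neg h, if_neg fun e => h (Fin.rev_inj.1 e).symm]

theorem tvG_mul {a b : Fin n} (h : a ≠ b) (c c' : F) : tvG h c * tvG h c' = tvG h (c + c') := by
  ext1
  show Matrix.transvection a b c * Matrix.transvection a b c' = Matrix.transvection a b (c + c')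
  exact Matrix.transvection_mul_transvection_same _ _ h c c'

theorem tvG_inv {a b : Fin n} (h : a ≠ b) (c : F) : (tvG h c)⁻¹ = tvG h (-c) := by
  apply inv_eq_of_mul_eq_one_right
  rw [tvG_mul, add_neg_cancel]
  ext1
  simp [tvG]

theorem theta_tvG {a b : Fin n} (h : a ≠ b) (c : F) :
    theta σ (tvG h c) = tvG (show b.rev ≠ a.rev from fun e => h (Fin.rev_inj.1 e).symm) (-σ c) := by
  ext i j
  rw [theta_apply, tvG_inv, tvG_apply, tvG_apply, map_add, apply_ite σ, apply_ite σ, map_one, map_zero, map_neg]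
  congr 1
  · exact if_congr (by rw [Fin.rev_inj, eq_comm]) rfl rfl
  · exact if_congr (by rw [Fin.rev_eq_iff, Fin.rev_eq_iff]; exact and_comm) rfl rfl

theorem tvG_comm {a b a' b' : Fin n} (h : a ≠ b) (h' : a' ≠ b') (c c' : F) (h1 : b ≠ a') (h2 : b' ≠ a) :
    tvG h c * tvG h' c' = tvG h' c' * tvG h c := by
  ext1
  simp [tvG, Matrix.SpecialLinearGroup.transvection_coe, Matrix.transvection, mul_add, add_mul,
    Matrix.single_mul_single_of_ne _ _ _ _ h1, Matrix.single_mul_single_of_ne _ _ _ _ h2, add_comm,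
    add_left_comm]

theorem perm_conj_tvG' (π : Equiv.Perm (Fin n)) {a b : Fin n} (h : a ≠ b) (c : F) :
    permGL n F π * tvG h c * (permGL n F π)⁻¹ = tvG (π.injective.ne h) c := by
  rw [mul_inv_eq_iff_eq_mul]
  have e := perm_conj_tvG π (π.injective.ne h) c
  simp only [Equiv.symm_apply_apply] at e
  rw [← e]
  group

/-- A monomial conjugate of a transvection. -/
theorem monomial_conj_mem_uni (π : Equiv.Perm (Fin n)) (d : Fin n → Fˣ) {a b : Fin n} (h : a ≠ b) (c : F)
    (hlt : π a < π b) :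
    permGL n F π * diagGL d * tvG h c * (permGL n F π * diagGL d)⁻¹ ∈ unitriangularGL n F := by
  have e : permGL n F π * diagGL d * tvG h c * (permGL n F π * diagGL d)⁻¹ =
      permGL n F π * (diagGL d * tvG h c * (diagGL d)⁻¹) * (permGL n F π)⁻¹ := by group
  rw [e, diag_conj_tvG, perm_conj_tvG']
  exact tvG_mem_uni hlt _

/-! ### The normal form -/

/-- The unitriangular matrices which stay triangular after conjugation by a permutation. -/
def uPart (τ : Equiv.Perm (Fin n)) : Subgroup GLn :=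
  unitriangularGL n F ⊓ (upperTriangularGL n F).comap (MulAut.conj (permGL n F τ)⁻¹).toMonoidHom

theorem mem_uPart {τ : Equiv.Perm (Fin n)} {u : GLn} :
    u ∈ uPart τ ↔ u ∈ unitriangularGL n F ∧ (permGL n F τ)⁻¹ * u * permGL n F τ ∈ upperTriangularGL n F := by
  simp [uPart, Subgroup.mem_inf]

theorem mem_uPart' {τ : Equiv.Perm (Fin n)} {u : GLn} :
    u ∈ uPart τ ↔ u ∈ unitriangularGL n F ∧
      ∀ a b : Fin n, a < b → (u : Matrix (Fin n) (Fin n) F) (τ b) (τ a) = 0 := by
  rw [mem_uPart]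
  refine and_congr_right fun _ => ⟨fun h a b hab => ?_, fun h a b hab => ?_⟩
  · rw [← permGL_conj_apply]; exact h (show id a < id b from hab)
  · rw [permGL_conj_apply]; exact h b a hab

theorem eq_one_of_both {π : Equiv.Perm (Fin n)} {v : GLn} (h1 : v ∈ uPart (π * Fin.revPerm))
    (h2 : v ∈ uPart π) : v = 1 := by
  rw [mem_uPart'] at h1 h2
  ext i j
  obtain ⟨a, rfl⟩ := π.surjective i
  obtain ⟨b, rfl⟩ := π.surjective j
  rcases lt_trichotomy a b with h | h | h
  · have := h1.2 b.rev a.rev (Fin.rev_lt_rev.2 h)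
    simp only [Equiv.Perm.mul_apply, Fin.revPerm_apply, Fin.rev_rev] at this
    rw [this, Units.val_one, Matrix.one_apply_ne (π.injective.ne h.ne)]
  · rw [h, h1.1.2, Units.val_one, Matrix.one_apply_eq]
  · rw [h2.2 b a h, Units.val_one, Matrix.one_apply_ne (π.injective.ne h.ne')]

theorem exists_uPart_mul [Finite F] (π : Equiv.Perm (Fin n)) {u : GLn} (hu : u ∈ unitriangularGL n F) :
    ∃ v ∈ uPart (π * Fin.revPerm), ∃ w ∈ uPart π, u = v * w := by
  classical
  let f : ↥(uPart (F := F) (π * Fin.revPerm)) × ↥(uPart (F := F) π) → ↥(unitriangularGL n F) :=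
    fun p => ⟨p.1.1 * p.2.1, mul_mem (mem_uPart.1 p.1.2).1 (mem_uPart.1 p.2.2).1⟩
  have hf : Function.Injective f := by
    rintro ⟨v, w⟩ ⟨v', w'⟩ h
    have h' : v.1 * w.1 = v'.1 * w'.1 := congrArg Subtype.val h
    have h3 : v'.1⁻¹ * v.1 = w'.1 * w.1⁻¹ := by
      rw [eq_mul_inv_iff_mul_eq, mul_assoc, h', inv_mul_cancel_left]
    have h4 := eq_one_of_both (mul_mem (inv_mem v'.2) v.2) (h3 ▸ mul_mem w'.2 (inv_mem w.2))
    have h5 : v = v' := Subtype.ext (inv_mul_eq_one.1 h4).symm
    subst h5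
    exact Prod.ext rfl (Subtype.ext (mul_left_cancel h'))
  -- split the entries
  let msk : (Fin n → Fin n → Prop) → ↥(unitriangularGL n F) → GLn := fun R u =>
    Matrix.GeneralLinearGroup.mk''
      (Matrix.of fun a b => if a = b then (1 : F) else if R a b then (u.1 : Matrix (Fin n) (Fin n) F) a b else 0) (by
      rw [Matrix.det_of_isUpperTriangular]
      · rw [Finset.prod_eq_one fun i _ => by rw [Matrix.of_apply, if_pos rfl]]
        exact isUnit_one
      · intro a b (hab : b < a)
        simp only [Matrix.of_apply, if_neg hab.ne']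
        split_ifs with h
        · exact u.2.1 hab
        · rfl)
  have hmsk : ∀ (R : Fin n → Fin n → Prop) u a b, (msk R u : Matrix (Fin n) (Fin n) F) a b =
      if a = b then (1 : F) else if R a b then (u.1 : Matrix (Fin n) (Fin n) F) a b else 0 := fun R u a b => rfl
  have huni : ∀ R u, msk R u ∈ unitriangularGL n F := by
    intro R u
    refine ⟨fun a b (hab : b < a) => ?_, fun a => by rw [hmsk, if_pos rfl]⟩
    rw [hmsk, if_neg hab.ne']
    split_ifs with h
    · exact u.2.1 hab
    · rfl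
  let Rm : Fin n → Fin n → Prop := fun a b => π.symm b < π.symm a
  let g : ↥(unitriangularGL n F) → ↥(uPart (F := F) (π * Fin.revPerm)) × ↥(uPart (F := F) π) := fun u =>
    (⟨msk Rm u, mem_uPart'.2 ⟨huni _ _, fun a b hab => by
      rw [hmsk, if_neg ((π * Fin.revPerm).injective.ne hab.ne')]
      exact if_neg (by simp [Rm, hab.le])⟩⟩,
     ⟨msk (fun a b => ¬ Rm a b) u, mem_uPart'.2 ⟨huni _ _, fun a b hab => by
      rw [hmsk, if_neg (π.injective.ne hab.ne')]
      exact if_neg (by simp [Rm, hab])⟩⟩)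
  have hg : Function.Injective g := by
    intro x y h
    refine Subtype.ext (Units.ext (Matrix.ext fun a b => ?_))
    by_cases hab : a = b
    · subst hab; rw [x.2.2, y.2.2]
    have h1 := congrArg (fun p => ((p.1 : GLn) : Matrix (Fin n) (Fin n) F) a b) h
    have h2 := congrArg (fun p => ((p.2 : GLn) : Matrix (Fin n) (Fin n) F) a b) h
    simp only [g, hmsk, if_neg hab] at h1 h2
    by_cases hR : Rm a b
    · rwa [if_pos hR, if_pos hR] at h1
    · rwa [if_pos hR, if_pos hR] at h2
  have hbij : Function.Bijective f := (Nat.bijective_iff_injective_and_card f).2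
    ⟨hf, le_antisymm (Nat.card_le_card_of_injective f hf) (Nat.card_le_card_of_injective g hg)⟩
  obtain ⟨⟨v, w⟩, h⟩ := hbij.2 ⟨u, hu⟩
  exact ⟨v, v.2, w, w.2, (congrArg Subtype.val h).symm⟩

theorem exists_normal_form [Finite F] (g : GLn) :
    ∃ (π : Equiv.Perm (Fin n)) (v b : GLn), v ∈ uPart (π * Fin.revPerm) ∧ b ∈ upperTriangularGL n F ∧
      g = v * permGL n F π * b := by
  obtain ⟨u, hu, π, b, hb, rfl⟩ := exists_bruhat g
  obtain ⟨v, hv, w, hw, rfl⟩ := exists_uPart_mul π hu
  refine ⟨π, v, (permGL n F π)⁻¹ * w * permGL n F π * b, hv, mul_mem (mem_uPart.1 hw).2 hb, ?_⟩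
  group

theorem normal_form_unique {π π' : Equiv.Perm (Fin n)} {v v' b b' : GLn}
    (hv : v ∈ uPart (π * Fin.revPerm)) (hv' : v' ∈ uPart (π' * Fin.revPerm)) (hb : b ∈ upperTriangularGL n F)
    (hb' : b' ∈ upperTriangularGL n F) (h : v * permGL n F π * b = v' * permGL n F π' * b') :
    π = π' ∧ v = v' ∧ b = b' := by
  set u := v'⁻¹ * v with hu
  have huu : u ∈ unitriangularGL n F := mul_mem (inv_mem (mem_uPart.1 hv').1) (mem_uPart.1 hv).1
  have hkey : (permGL n F π')⁻¹ * u * permGL n F π = b' * b⁻¹ := by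
    rw [hu]
    calc (permGL n F π')⁻¹ * (v'⁻¹ * v) * permGL n F π
        = (permGL n F π')⁻¹ * v'⁻¹ * (v * permGL n F π * b) * b⁻¹ := by group
      _ = _ := by rw [h]; group
  have hentry : ∀ a c, (((permGL n F π')⁻¹ * u * permGL n F π : GLn) : Matrix (Fin n) (Fin n) F) a c =
      (u : Matrix (Fin n) (Fin n) F) (π' a) (π c) := by
    intro a c
    rw [Units.val_mul, mul_permGL_apply, ← map_inv, Units.val_mul, permGL_mul_apply]
    simp [Equiv.Perm.inv_def]
  have hτ : ∀ a, a ≤ π.symm (π' a) := by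
    intro a
    by_contra hlt
    push Not at hlt
    have h1 : (((permGL n F π')⁻¹ * u * permGL n F π : GLn) : Matrix (Fin n) (Fin n) F) a (π.symm (π' a)) = 0 := by
      rw [hkey]; exact (mul_mem hb' (inv_mem hb)) hlt
    rw [hentry, Equiv.apply_symm_apply, huu.2] at h1
    exact one_ne_zero h1
  have hππ : π = π' := by
    have hsum : ∑ a, ((π.symm (π' a) : Fin n) : ℕ) = ∑ a : Fin n, (a : ℕ) :=
      Equiv.sum_comp (π'.trans π.symm) (fun a : Fin n => (a : ℕ))
    have heq := (Finset.sum_eq_sum_iff_of_le fun a _ => Fin.le_def.1 (hτ a)).1 hsum.symm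
    refine Equiv.ext fun a => ?_
    have h2 : π.symm (π' a) = a := (Fin.ext (heq a (Finset.mem_univ a))).symm
    conv_lhs => rw [← h2, Equiv.apply_symm_apply]
  subst hππ
  have h1 : u ∈ uPart π := mem_uPart.2 ⟨huu, by rw [hkey]; exact mul_mem hb' (inv_mem hb)⟩
  have h2 := eq_one_of_both (mul_mem (inv_mem hv') hv) h1
  rw [inv_mul_eq_one] at h2
  subst h2
  exact ⟨rfl, rfl, mul_left_cancel h⟩

theorem theta_uPart {τ : Equiv.Perm (Fin n)} {u : GLn} (hu : u ∈ uPart τ) :
    theta σ u ∈ uPart (Fin.revPerm * τ * Fin.revPerm) := by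
  rw [mem_uPart] at hu ⊢
  refine ⟨theta_uni σ hu.1, ?_⟩
  have := theta_upper σ hu.2
  rwa [map_mul, map_mul, map_inv, theta_perm] at this

/-- The normal form of a fixed element consists of fixed elements. -/
theorem fixed_normal_form [Finite F] {g : GLn} (hg : g ∈ thetaFix σ) :
    ∃ (π : Equiv.Perm (Fin n)) (v : GLn) (d : Fin n → Fˣ) (w : GLn),
      v ∈ unitriangularGL n F ⊓ thetaFix σ ∧ w ∈ unitriangularGL n F ⊓ thetaFix σ ∧
      diagGL d ∈ thetaFix σ ∧ permGL n F π ∈ thetaFix σ ∧ g = v * (permGL n F π * diagGL d) * w := by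
  obtain ⟨π, v, b, hv, hb, rfl⟩ := exists_normal_form g
  have hg' : theta σ v * permGL n F (Fin.revPerm * π * Fin.revPerm) * theta σ b = v * permGL n F π * b := by
    rw [← theta_perm σ π, ← map_mul, ← map_mul]
    exact hg
  have hv' : theta σ v ∈ uPart (Fin.revPerm * π * Fin.revPerm * Fin.revPerm) := by
    have := theta_uPart σ hv
    rwa [← mul_assoc] at this
  obtain ⟨hπ, hvf, hbf⟩ := normal_form_unique hv' hv (theta_upper σ hb) hb hg'
  obtain ⟨d, w, hw, rfl⟩ := exists_diag_mul b hb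
  have hd : theta σ (diagGL d) = diagGL d := by
    have h1 : diagGL (fun i => (Units.map σ.toMonoidHom (d i.rev))⁻¹) * theta σ w = diagGL d * w := by
      rw [← theta_diag, ← map_mul, hbf]
    rw [theta_diag]
    congr 1
    funext i
    have h2 := congrArg (fun x : GLn => (x : Matrix (Fin n) (Fin n) F) i i) h1
    simp only [Units.val_mul, diagGL_coe, Matrix.diagonal_mul, (theta_uni σ hw).2, hw.2, mul_one] at h2
    exact Units.ext h2
  refine ⟨π, v, d, w, ⟨(mem_uPart.1 hv).1, hvf⟩, ⟨hw, ?_⟩, hd, ?_, by group⟩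
  · show theta σ w = w
    rw [map_mul, hd] at hbf
    exact mul_left_cancel hbf
  · show theta σ _ = permGL n F π
    rw [theta_perm, hπ]

theorem monomial_fixed {π : Equiv.Perm (Fin n)} {d : Fin n → Fˣ}
    (h : permGL n F π * diagGL d ∈ thetaFix σ) : ∀ i, π i.rev = (π i).rev := by
  have hd : ∀ e : Fin n → Fˣ, diagGL e ∈ upperTriangularGL n F := fun e i j hij => by
    rw [diagGL_coe]; exact Matrix.diagonal_apply_ne _ (ne_of_gt hij)
  have h' : theta σ (permGL n F π * diagGL d) = permGL n F π * diagGL d := h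
  rw [map_mul, theta_perm, theta_diag] at h'
  have h'' : (1 : GLn) * permGL n F (Fin.revPerm * π * Fin.revPerm) *
      diagGL (fun i => (Units.map σ.toMonoidHom (d i.rev))⁻¹) = 1 * permGL n F π * diagGL d := by
    rw [one_mul, one_mul]; exact h'
  obtain ⟨hπ, -, -⟩ := normal_form_unique (one_mem (uPart _)) (one_mem (uPart _)) (hd _) (hd _) h''
  intro i
  have := congrArg (fun e : Equiv.Perm (Fin n) => e i) hπ
  simp only [Equiv.Perm.mul_apply, Fin.revPerm_apply] at this
  rw [← this, Fin.rev_rev]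

end Cfsg.Agent.OddIndex
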