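import Cfsg.Agent.OddIndex.Theta
import Cfsg.Agent.OddIndex.Pronormal
import Cfsg.Agent.OddIndex.EvenField
import Cfsg.Agent.Classical.UnitarySmall

/-!
Subgroups of odd index of special unitary groups of even dimension in characteristic two.
-/

set_option autoImplicit false

namespace Cfsg.Agent.OddIndex

open Matrix Cfsg.Agent.GLFlags Cfsg.Agent.Classical

variable {n : ℕ} {F : Type*} [Field F] [CharP F 2]

local notation "GLn" => GL (Fin n) F

variable (σ : F →+* F)

theorem diag_sign (i : Fin n) : diagGL (Function.update (1 : Fin n → Fˣ) i (-1)) = (1 : GLn) := by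
  have : (-1 : Fˣ) = 1 := Units.ext (by simp [CharTwo.neg_eq])
  rw [this, show Function.update (1 : Fin n → Fˣ) i 1 = 1 from Function.update_eq_self _ _, map_one]

theorem theta_tvG_two {a b a' b' : Fin n} (h : a ≠ b) (h' : a' ≠ b') (c : F) (ha : b.rev = a') (hb : a.rev = b') :
    theta σ (tvG h c) = tvG h' (σ c) := by
  subst ha
  subst hb
  rw [theta_tvG, CharTwo.neg_eq]

theorem swap_weight (π : Equiv.Perm (Fin n)) {i j : Fin n} (hij : (j : ℕ) = i + 1) (hdesc : π j < π i) :
    (∑ a : Fin n, (a : ℕ) * (π a : ℕ)) < ∑ a : Fin n, (a : ℕ) * ((π * Equiv.swap i j) a : ℕ) := by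
  have hne : j ≠ i := fun h => by rw [h] at hij; omega
  have h1 := Finset.sum_eq_sum_sdiff_singleton_add (Finset.mem_univ i) fun a => (a : ℕ) * ((π * Equiv.swap i j) a : ℕ)
  have h1' := Finset.sum_eq_sum_sdiff_singleton_add (Finset.mem_univ i) fun a => (a : ℕ) * (π a : ℕ)
  have hj' : j ∈ Finset.univ \ {i} := by simp [hne]
  have h2 := Finset.sum_eq_sum_sdiff_singleton_add hj' fun a => (a : ℕ) * ((π * Equiv.swap i j) a : ℕ)
  have h2' := Finset.sum_eq_sum_sdiff_singleton_add hj' fun a => (a : ℕ) * (π a : ℕ)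
  have h3 : ∑ a ∈ (Finset.univ \ {i}) \ {j}, (a : ℕ) * ((π * Equiv.swap i j) a : ℕ) =
      ∑ a ∈ (Finset.univ \ {i}) \ {j}, (a : ℕ) * (π a : ℕ) := by
    refine Finset.sum_congr rfl fun a ha => ?_
    simp only [Finset.mem_sdiff, Finset.mem_singleton] at ha
    simp [Equiv.swap_apply_of_ne_of_ne ha.1.2 ha.2]
  have s1 : (π * Equiv.swap i j) i = π j := by simp
  have s2 : (π * Equiv.swap i j) j = π i := by simp
  simp only [s1, s2] at h1 h2
  simp only [hij, Nat.succ_mul] at h2 h2'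
  have e3 : (π j : ℕ) < (π i : ℕ) := hdesc
  omega

variable [Finite F] {m : ℕ}

section Overgroup

variable (K : Subgroup (GL (Fin n) F)) (hU : unitriangularGL n F ⊓ thetaFix σ ≤ K)
include hU

theorem lower_mem_fix {π : Equiv.Perm (Fin n)} {d : Fin n → Fˣ}
    (hn : permGL n F π * diagGL d ∈ thetaFix σ)
    (hK : ∀ u ∈ unitriangularGL n F ⊓ thetaFix σ,
      (permGL n F π * diagGL d)⁻¹ * u * (permGL n F π * diagGL d) ∈ K)
    {a b a' b' : Fin n} (h : a ≠ b) (h' : a' ≠ b') (hlt : π a < π b) (hlt' : π a' < π b') (c c' : F)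
    (hx : tvG h c * tvG h' c' ∈ thetaFix σ) : tvG h c * tvG h' c' ∈ K := by
  set N := permGL n F π * diagGL d with hN
  have hX : N * (tvG h c * tvG h' c') * N⁻¹ ∈ unitriangularGL n F ⊓ thetaFix σ := by
    refine Subgroup.mem_inf.2 ⟨?_, mul_mem (mul_mem hn hx) (inv_mem hn)⟩
    rw [show N * (tvG h c * tvG h' c') * N⁻¹ = (N * tvG h c * N⁻¹) * (N * tvG h' c' * N⁻¹) by group]
    exact mul_mem (monomial_conj_mem_uni π d h c hlt) (monomial_conj_mem_uni π d h' c' hlt')
  have := hK _ hX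
  rwa [show N⁻¹ * (N * (tvG h c * tvG h' c') * N⁻¹) * N = tvG h c * tvG h' c' by group] at this

variable (hn2 : n = 2 * m) (hKF : K ≤ thetaFix σ)
include hn2 hKF

/-- The reflection of an orbit of simple roots at a descent. -/
theorem exists_reflection {π : Equiv.Perm (Fin n)} {d : Fin n → Fˣ}
    (hn : permGL n F π * diagGL d ∈ thetaFix σ)
    (hK : ∀ u ∈ unitriangularGL n F ⊓ thetaFix σ,
      (permGL n F π * diagGL d)⁻¹ * u * (permGL n F π * diagGL d) ∈ K)
    {e : Fin n → Fˣ} (he : diagGL e ∈ thetaFix σ) (hπ : π ≠ 1) :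
    ∃ τ : Equiv.Perm (Fin n), permGL n F τ ∈ K ∧ diagGL e * permGL n F τ * (diagGL e)⁻¹ ∈ K ∧
      (∑ a : Fin n, (a : ℕ) * (π a : ℕ)) < ∑ a : Fin n, (a : ℕ) * ((π * τ) a : ℕ) := by
  obtain ⟨k, hk, hdesc⟩ := exists_descent hπ
  set i : Fin n := ⟨k, by omega⟩ with hi
  set j : Fin n := ⟨k + 1, hk⟩ with hj
  have hcomm := monomial_fixed σ hn
  have hij : i < j := Fin.lt_def.2 (by simp [hi, hj])
  have hdesc' : π i.rev < π j.rev := by rw [hcomm, hcomm]; exact Fin.rev_lt_rev.2 hdesc
  have hrev : j.rev < i.rev := Fin.rev_lt_rev.2 hij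
  have hEfix : ∀ {x : GLn}, x ∈ thetaFix σ → diagGL e * x * (diagGL e)⁻¹ ∈ thetaFix σ :=
    fun hx => mul_mem (mul_mem he hx) (inv_mem he)
  by_cases hmid : k + 1 = m
  · have hjr : j.rev = i := Fin.ext (by simp [hi, hj, Fin.val_rev]; omega)
    have hir : i.rev = j := by rw [← hjr, Fin.rev_rev]
    have hA : tvG hij.ne (1 : F) ∈ thetaFix σ := by
      show theta σ (tvG hij.ne (1 : F)) = tvG hij.ne 1
      rw [theta_tvG_two σ _ hij.ne _ hjr hir, map_one]
    have hB : tvG hij.ne' (1 : F) ∈ thetaFix σ := by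
      show theta σ (tvG hij.ne' (1 : F)) = tvG hij.ne' 1
      rw [theta_tvG_two σ _ hij.ne' _ hir hjr, map_one]
    have h0 : tvG hij.ne' (0 : F) = (1 : GLn) := by ext1; simp [tvG]
    have low1 : ∀ c : F, tvG hij.ne' c ∈ thetaFix σ → tvG hij.ne' c ∈ K := fun c hc => by
      have := lower_mem_fix σ K hU hn hK hij.ne' hij.ne' hdesc hdesc c 0 (by rwa [h0, mul_one])
      rwa [h0, mul_one] at this
    have hAK : tvG hij.ne (1 : F) ∈ K := hU ⟨tvG_mem_uni hij _, hA⟩
    have hBK := low1 1 hB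
    have hw : tvG hij.ne (1 : F) * tvG hij.ne' 1 * tvG hij.ne 1 = permGL n F (Equiv.swap i j) := by
      have := simple_reflection (F := F) hij.ne
      rwa [diag_sign, mul_one, CharTwo.neg_eq] at this
    refine ⟨Equiv.swap i j, hw ▸ mul_mem (mul_mem hAK hBK) hAK, ?_, swap_weight π (by simp [hi, hj]) hdesc⟩
    rw [← hw, show ∀ E A B : GLn, E * (A * B * A) * E⁻¹ = (E * A * E⁻¹) * (E * B * E⁻¹) * (E * A * E⁻¹) from
      fun E A B => by group, diag_conj_tvG, diag_conj_tvG]
    have hA' := hEfix hA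
    have hB' := hEfix hB
    rw [diag_conj_tvG] at hA' hB'
    exact mul_mem (mul_mem (hU ⟨tvG_mem_uni hij _, hA'⟩) (low1 _ hB')) (hU ⟨tvG_mem_uni hij _, hA'⟩)
  · set i' := j.rev with hi'
    set j' := i.rev with hj'
    have hv : (i' : ℕ) = n - (k + 2) ∧ (j' : ℕ) = n - (k + 1) := by simp [hi', hj', hi, hj, Fin.val_rev]
    have n1 : j ≠ i' := fun h => by have := congrArg Fin.val h; simp [hj] at this; omega
    have n2 : j' ≠ i := fun h => by have := congrArg Fin.val h; simp [hi] at this; omega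
    have n3 : i ≠ i' := fun h => by have := congrArg Fin.val h; simp [hi] at this; omega
    have n4 : j ≠ j' := fun h => by have := congrArg Fin.val h; simp [hj] at this; omega
    set A := tvG hij.ne (1 : F) * tvG hrev.ne 1 with hAdef
    set B := tvG hij.ne' (1 : F) * tvG hrev.ne' 1 with hBdef
    have hA : A ∈ thetaFix σ := by
      show theta σ A = A
      rw [hAdef, map_mul, theta_tvG_two σ _ hrev.ne _ rfl rfl,
        theta_tvG_two σ _ hij.ne _ (Fin.rev_rev i) (Fin.rev_rev j), map_one]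
      exact tvG_comm _ _ _ _ n2 n1
    have hB : B ∈ thetaFix σ := by
      show theta σ B = B
      rw [hBdef, map_mul, theta_tvG_two σ _ hrev.ne' _ rfl rfl,
        theta_tvG_two σ _ hij.ne' _ (Fin.rev_rev j) (Fin.rev_rev i), map_one]
      exact tvG_comm _ _ _ _ n1.symm n2.symm
    have hAK : A ∈ K := hU ⟨mul_mem (tvG_mem_uni hij _) (tvG_mem_uni hrev _), hA⟩
    have hBK : B ∈ K := lower_mem_fix σ K hU hn hK hij.ne' hrev.ne' hdesc hdesc' _ _ hB
    have hw : A * B * A = permGL n F (Equiv.swap i j) * permGL n F (Equiv.swap i' j') := by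
      have h1 := simple_reflection (F := F) hij.ne
      have h2 := simple_reflection (F := F) hrev.ne
      rw [diag_sign, mul_one, CharTwo.neg_eq] at h1 h2
      rw [← h1, ← h2, hAdef, hBdef]
      have c1 : Commute (tvG hrev.ne (1 : F)) (tvG hij.ne' 1) := tvG_comm _ _ _ _ n4.symm n3
      have c2 : Commute (tvG hrev.ne (1 : F)) (tvG hij.ne 1) := tvG_comm _ _ _ _ n2 n1
      have c3 : Commute (tvG hrev.ne' (1 : F)) (tvG hij.ne 1) := tvG_comm _ _ _ _ n3.symm n4
      calc tvG hij.ne (1 : F) * tvG hrev.ne 1 * (tvG hij.ne' 1 * tvG hrev.ne' 1) *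
            (tvG hij.ne 1 * tvG hrev.ne 1)
          = tvG hij.ne 1 * (tvG hrev.ne (1 : F) * tvG hij.ne' 1) * (tvG hrev.ne' 1 * tvG hij.ne 1) *
              tvG hrev.ne 1 := by simp only [mul_assoc]
        _ = tvG hij.ne 1 * (tvG hij.ne' (1 : F) * tvG hrev.ne 1) * (tvG hij.ne 1 * tvG hrev.ne' 1) *
              tvG hrev.ne 1 := by rw [c1.eq, c3.eq]
        _ = tvG hij.ne 1 * tvG hij.ne' (1 : F) * (tvG hrev.ne 1 * tvG hij.ne 1) * (tvG hrev.ne' 1 *
              tvG hrev.ne 1) := by simp only [mul_assoc]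
        _ = _ := by rw [c2.eq]; simp only [mul_assoc]
    rw [← map_mul] at hw
    refine ⟨Equiv.swap i j * Equiv.swap i' j', hw ▸ mul_mem (mul_mem hAK hBK) hAK, ?_, ?_⟩
    · rw [← hw, show ∀ E A B : GLn, E * (A * B * A) * E⁻¹ = (E * A * E⁻¹) * (E * B * E⁻¹) * (E * A * E⁻¹) from
        fun E A B => by group]
      have hA' := hEfix hA
      have hB' := hEfix hB
      have eA : diagGL e * A * (diagGL e)⁻¹ =
          (diagGL e * tvG hij.ne (1 : F) * (diagGL e)⁻¹) * (diagGL e * tvG hrev.ne (1 : F) * (diagGL e)⁻¹) := by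
        rw [hAdef]; group
      have eB : diagGL e * B * (diagGL e)⁻¹ =
          (diagGL e * tvG hij.ne' (1 : F) * (diagGL e)⁻¹) * (diagGL e * tvG hrev.ne' (1 : F) * (diagGL e)⁻¹) := by
        rw [hBdef]; group
      rw [diag_conj_tvG, diag_conj_tvG] at eA eB
      rw [eA] at hA' ⊢
      rw [eB] at hB' ⊢
      have hAK' := hU ⟨mul_mem (tvG_mem_uni hij _) (tvG_mem_uni hrev _), hA'⟩
      exact mul_mem (mul_mem hAK' (lower_mem_fix σ K hU hn hK hij.ne' hrev.ne' hdesc hdesc' _ _ hB')) hAK'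
    · rw [← mul_assoc]
      refine lt_trans (swap_weight π (by simp [hi, hj]) hdesc) (swap_weight _ (by omega) ?_)
      show (π * Equiv.swap i j) j' < (π * Equiv.swap i j) i'
      rw [Equiv.Perm.mul_apply, Equiv.Perm.mul_apply, Equiv.swap_apply_of_ne_of_ne n2 n4.symm,
        Equiv.swap_apply_of_ne_of_ne n3.symm n1.symm]
      exact hdesc'

/-- Fixed triangular matrices normalise every group of fixed elements containing the fixed unitriangular group. -/
theorem fix_conj_mem {k b : GLn} (hk : k ∈ K) (hb : b ∈ upperTriangularGL n F) (hbf : b ∈ thetaFix σ) :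
    b * k * b⁻¹ ∈ K := by
  obtain ⟨e, u, hu, rfl⟩ := exists_diag_mul b hb
  have hef : theta σ (diagGL e) = diagGL e ∧ theta σ u = u := by
    have h1 : diagGL (fun i => (Units.map σ.toMonoidHom (e i.rev))⁻¹) * theta σ u = diagGL e * u := by
      rw [← theta_diag, ← map_mul]; exact hbf
    have he : theta σ (diagGL e) = diagGL e := by
      rw [theta_diag]
      congr 1
      funext i
      have h2 := congrArg (fun x : GLn => (x : Matrix (Fin n) (Fin n) F) i i) h1
      simp only [Units.val_mul, diagGL_coe, Matrix.diagonal_mul, (theta_uni σ hu).2, hu.2, mul_one] at h2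
      exact Units.ext h2
    exact ⟨he, by rw [← theta_diag, he] at h1; exact mul_left_cancel h1⟩
  have huK : u ∈ K := hU ⟨hu, hef.2⟩
  have key : ∀ M : ℕ, ∀ (π : Equiv.Perm (Fin n)) (d : Fin n → Fˣ),
      n * (n * n) ≤ (∑ a : Fin n, (a : ℕ) * (π a : ℕ)) + M →
      permGL n F π * diagGL d ∈ K → diagGL e * (permGL n F π * diagGL d) * (diagGL e)⁻¹ ∈ K := by
    intro M
    induction M using Nat.strong_induction_on with
    | _ M ih =>
      intro π d hle hn
      by_cases hπ : π = 1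
      · subst hπ
        rw [map_one, one_mul] at hn ⊢
        rwa [← map_mul, ← map_inv, ← map_mul, mul_comm e d, mul_inv_cancel_right]
      obtain ⟨τ, hτ, hτ', hlt⟩ := exists_reflection σ K hU hn2 hKF (hKF hn)
        (fun v hv => mul_mem (mul_mem (inv_mem hn) (hU hv)) hn) (e := e) hef.1 hπ
      have hprod : permGL n F π * diagGL d * permGL n F τ = permGL n F (π * τ) * diagGL (d ∘ τ) := by
        rw [mul_assoc, diag_mul_perm, ← mul_assoc, ← map_mul]
      have hmax : (∑ a : Fin n, (a : ℕ) * ((π * τ) a : ℕ)) ≤ n * (n * n) :=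
        calc _ ≤ ∑ _a : Fin n, n * n := Finset.sum_le_sum fun a _ => Nat.mul_le_mul a.2.le ((π * τ) a).2.le
          _ = n * (n * n) := by simp
      have h' := ih (n * (n * n) - ∑ a : Fin n, (a : ℕ) * ((π * τ) a : ℕ)) (by omega) (π * τ) (d ∘ τ) (by omega)
        (hprod ▸ mul_mem hn hτ)
      rw [← hprod] at h'
      have h2 := mul_mem h' (inv_mem hτ')
      convert h2 using 1
      group
  obtain ⟨π, v, d, w, hv, hw, hd, hp, rfl⟩ := fixed_normal_form σ (hKF hk)
  have hn : permGL n F π * diagGL d ∈ K := by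
    have := mul_mem (mul_mem (inv_mem (hU hv)) hk) (inv_mem (hU hw))
    convert this using 1
    group
  have hE : ∀ x ∈ unitriangularGL n F ⊓ thetaFix σ, diagGL e * x * (diagGL e)⁻¹ ∈ K := fun x hx =>
    hU (Subgroup.mem_inf.2 ⟨upper_conj_uni (fun a c hac => by rw [diagGL_coe]; exact Matrix.diagonal_apply_ne _ (ne_of_gt hac)) hx.1,
      mul_mem (mul_mem (show diagGL e ∈ thetaFix σ from hef.1) hx.2) (inv_mem (show diagGL e ∈ thetaFix σ from hef.1))⟩)
  have e2 : diagGL e * u * (v * (permGL n F π * diagGL d) * w) * (diagGL e * u)⁻¹ =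
      (diagGL e * u * (diagGL e)⁻¹) * ((diagGL e * v * (diagGL e)⁻¹) *
        (diagGL e * (permGL n F π * diagGL d) * (diagGL e)⁻¹) * (diagGL e * w * (diagGL e)⁻¹)) *
        (diagGL e * u * (diagGL e)⁻¹)⁻¹ := by group
  rw [e2]
  have huE := hE u ⟨hu, hef.2⟩
  exact mul_mem (mul_mem huE (mul_mem (mul_mem (hE v hv) (key _ π d (Nat.le_add_left _ _) hn)) (hE w hw)))
    (inv_mem huE)

end Overgroup

/-- A fixed element normalising the fixed unitriangular group is triangular. -/
theorem fix_upper_of_normalizes (hn2 : n = 2 * m) {g : GLn} (hgf : g ∈ thetaFix σ)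
    (hg : ∀ u ∈ unitriangularGL n F ⊓ thetaFix σ, g⁻¹ * u * g ∈ unitriangularGL n F ⊓ thetaFix σ) :
    g ∈ upperTriangularGL n F := by
  obtain ⟨π, v, d, w, hv, hw, hd, hp, rfl⟩ := fixed_normal_form σ hgf
  by_cases hπ : π = 1
  · subst hπ
    rw [map_one, one_mul]
    refine mul_mem (mul_mem hv.1.1 ?_) hw.1.1
    exact fun a c hac => by rw [diagGL_coe]; exact Matrix.diagonal_apply_ne _ (ne_of_gt hac)
  exfalso
  have hK : ∀ x ∈ unitriangularGL n F ⊓ thetaFix σ,
      (permGL n F π * diagGL d)⁻¹ * x * (permGL n F π * diagGL d) ∈ unitriangularGL n F ⊓ thetaFix σ := by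
    intro x hx
    have h1 := mul_mem (mul_mem hw (hg _ (mul_mem (mul_mem hv hx) (inv_mem hv)))) (inv_mem hw)
    convert h1 using 1
    group
  obtain ⟨τ, hτ, -, hlt⟩ := exists_reflection σ _ le_rfl hn2 inf_le_right (mul_mem hp hd) hK
    (e := 1) (by rw [map_one]; exact one_mem _) hπ
  have hτ1 : τ = 1 := by
    refine Equiv.ext fun a => ?_
    by_contra h
    have h2 := hτ.1.2 a
    rw [permGL_apply, if_neg (fun e => h e.symm)] at h2
    exact zero_ne_one h2
  rw [hτ1, mul_one] at hlt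
  exact lt_irrefl _ hlt

end Cfsg.Agent.OddIndex

namespace Cfsg.Agent.OddIndex

open Matrix Cfsg.Agent.GLFlags Cfsg.Agent.Classical Herm

variable {n m q : ℕ} {F : Type*} [Field F]

theorem ctrG_eq_iff {σ : F →+* F} (g : GL (Fin n) F) :
    ctrG σ g = g ↔ ((g : Matrix (Fin n) (Fin n) F).map σ)ᵀ * (g : Matrix (Fin n) (Fin n) F) = 1 := by
  constructor
  · intro h
    have h1 : (((ctrG σ g)⁻¹ * ctrG σ g : GL (Fin n) F) : Matrix (Fin n) (Fin n) F) = 1 := by
      rw [inv_mul_cancel, Units.val_one]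
    rw [Units.val_mul, h] at h1
    conv_rhs => rw [← h1]
    congr 1
    exact (congrArg (fun x : GL (Fin n) F => ((x⁻¹ : GL (Fin n) F) : Matrix (Fin n) (Fin n) F)) h)
  · intro h
    apply inv_mul_eq_one.1
    ext1
    rw [Units.val_mul, Units.val_one]
    exact h

/-- Subgroups of odd index of `SU` in even dimension, characteristic two. -/
theorem pronormal_su_even [Finite F] [CharP F 2] {σ : F →+* F} (hσ : IsInvol σ) (hσq : ∀ x, σ x = x ^ q)
    (hn2 : n = 2 * m) (H : Subgroup (Cfsg.SU n F q)) (hH : ¬ 2 ∣ H.index) : Cfsg.IsPronormal H := by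
  classical
  haveI : Fact (Nat.Prime 2) := ⟨Nat.prime_two⟩
  obtain ⟨cc, hcc⟩ := exists_trace hσ (map_one σ)
  -- the change of basis
  let α : Fin n → F := fun c => if (c : ℕ) < m then 1 else 1 + cc
  let β : Fin n → F := fun c => if (c : ℕ) < m then 1 else cc
  let P : Matrix (Fin n) (Fin n) F :=
    Matrix.of fun r c => (if r = c then α c else 0) + (if r = c.rev then β c else 0)
  set J : GL (Fin n) F := permGL n F Fin.revPerm with hJdef
  have hP : (P.map σ)ᵀ * P = (J : Matrix (Fin n) (Fin n) F) := by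
    ext x y
    have hxr : x.rev ≠ x := fun h => by have := congrArg Fin.val h; simp [Fin.val_rev] at this; omega
    rw [hJdef, permGL_apply, Matrix.mul_apply]
    simp only [Matrix.transpose_apply, Matrix.map_apply, P, Matrix.of_apply, map_add, apply_ite σ, map_zero,
      add_mul, mul_add, ite_mul, mul_ite, zero_mul, mul_zero, Finset.sum_add_distrib, Finset.sum_ite_eq',
      Finset.mem_univ, if_true, Fin.revPerm_apply]
    rcases eq_or_ne x y with rfl | hxy
    · rw [if_pos rfl, if_neg hxr.symm, if_neg hxr, if_neg hxr.symm, if_pos rfl]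
      by_cases hx : (x : ℕ) < m
      · simp [α, β, hx, CharTwo.add_self_eq_zero]
      · simp only [α, β, if_neg hx, map_add, map_one]
        linear_combination hcc + (cc * σ cc + 1) * (CharTwo.two_eq_zero (R := F))
    · rw [if_neg hxy.symm, if_neg (fun e => hxy (Fin.rev_inj.1 e).symm)]
      by_cases hxy' : x = y.rev
      · subst hxy'
        have hy : y.rev.rev = y := Fin.rev_rev y
        rw [if_pos hy.symm, if_pos rfl, if_pos rfl]
        by_cases hx : (y : ℕ) < m
        · have : ¬ ((y.rev : Fin n) : ℕ) < m := by simp [Fin.val_rev]; omega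
          simp only [α, β, if_pos hx, if_neg this, map_add, map_one]
          linear_combination σ cc * (CharTwo.two_eq_zero (R := F))
        · have : ((y.rev : Fin n) : ℕ) < m := by simp [Fin.val_rev]; omega
          simp only [α, β, if_neg hx, if_pos this, map_one]
          linear_combination cc * (CharTwo.two_eq_zero (R := F))
      · have hyx : y ≠ x.rev := fun e => hxy' (by rw [e, Fin.rev_rev])
        rw [if_neg hyx, if_neg (Ne.symm hxy'), if_neg hxy']
        simp
  have hPdet : IsUnit P.det := by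
    have h := congrArg Matrix.det hP
    rw [Matrix.det_mul] at h
    exact isUnit_of_mul_isUnit_right (h ▸ (Matrix.isUnit_iff_isUnit_det _).1 J.isUnit)
  set Pg : GL (Fin n) F := Matrix.GeneralLinearGroup.mk'' P hPdet with hPg
  have hctP : ctrG σ Pg = Pg * J := by
    have hJ2 : J * J = 1 := by rw [hJdef, ← map_mul, revPerm_mul_self, map_one]
    have h1 : (ctrG σ Pg)⁻¹ * Pg = J := Units.ext hP
    calc ctrG σ Pg = Pg * ((ctrG σ Pg)⁻¹ * Pg)⁻¹ := by group
      _ = Pg * J := by rw [h1, inv_eq_of_mul_eq_one_right hJ2]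
  have hθ : ∀ g : GL (Fin n) F, theta σ (Pg⁻¹ * g * Pg) = Pg⁻¹ * ctrG σ g * Pg := by
    intro g
    have hJ2 : J * J = 1 := by rw [hJdef, ← map_mul, revPerm_mul_self, map_one]
    have hJi : J⁻¹ = J := inv_eq_of_mul_eq_one_right hJ2
    rw [theta_eq, map_mul, map_mul, map_inv, hctP, ← hJdef, _root_.mul_inv_rev, hJi]
    calc J * (J * Pg⁻¹ * ctrG σ g * (Pg * J)) * J = (J * J) * Pg⁻¹ * ctrG σ g * Pg * (J * J) := by group
      _ = _ := by rw [hJ2, one_mul, mul_one]
  set τ := Matrix.SpecialLinearGroup.toGL (n := Fin n) (R := F) with hτ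
  have hτinj : Function.Injective τ := fun a b h => Subtype.ext (congrArg Units.val h :)
  set φ : Cfsg.SU n F q →* GL (Fin n) F :=
    ((MulAut.conj Pg⁻¹).toMonoidHom.comp τ).comp (Cfsg.SU n F q).subtype with hφ
  have hφa : ∀ A, φ A = Pg⁻¹ * τ A.1 * Pg := fun A => by simp [hφ]
  have hinj : Function.Injective φ := by
    intro a b h
    rw [hφa, hφa] at h
    exact Subtype.ext (hτinj (mul_left_cancel (mul_right_cancel h)))
  have hfix : ∀ A, φ A ∈ thetaFix σ := fun A => by
    show theta σ (φ A) = φ A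
    rw [hφa, hθ, (ctrG_eq_iff (τ A.1)).2 ((preserves_iff_mul A.1.1).1 ((mem_SU_iff hσq _).1 A.2))]
  have hsurj : ∀ v ∈ unitriangularGL n F ⊓ thetaFix σ, ∃ A, φ A = v := by
    intro v hv
    have hr : Pg * v * Pg⁻¹ ∈ τ.range := by
      rw [hτ, Classical.range_toGL_eq_ker_det, MonoidHom.mem_ker, map_mul, map_mul, map_inv,
        mul_inv_cancel_comm]
      apply Units.ext
      rw [Matrix.GeneralLinearGroup.val_det_apply, Matrix.det_of_isUpperTriangular hv.1.1, Units.val_one]
      exact Finset.prod_eq_one fun i _ => hv.1.2 i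
    obtain ⟨A, hA⟩ := hr
    have hv' : v = Pg⁻¹ * τ A * Pg := by rw [hA]; group
    have hAm : A ∈ Cfsg.SU n F q := by
      refine (mem_SU_iff hσq _).2 ((preserves_iff_mul A.1).2 ((ctrG_eq_iff (τ A)).1 ?_))
      have h2 : theta σ v = v := hv.2
      rw [hv', hθ] at h2
      exact mul_left_cancel (mul_right_cancel h2)
    exact ⟨⟨A, hAm⟩, by rw [hφa]; exact hv'.symm⟩
  set U : Subgroup (Cfsg.SU n F q) := (unitriangularGL n F).comap φ with hU
  have hUp : IsPGroup 2 U := fun u =>
    ⟨n, Subtype.ext (hinj (by rw [Subgroup.coe_pow, map_pow, pow_two_pow_uni u.2, Subgroup.coe_one, map_one]))⟩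
  obtain ⟨T, hT⟩ := hUp.exists_le_sylow
  have hupper : ∀ g : Cfsg.SU n F q, (∀ u ∈ U, g⁻¹ * u * g ∈ U) → φ g ∈ upperTriangularGL n F := by
    intro g hg
    refine fix_upper_of_normalizes σ hn2 (hfix g) fun v hv => ?_
    obtain ⟨A, rfl⟩ := hsurj v hv
    have h1 := hg A hv.1
    rw [hU, Subgroup.mem_comap, map_mul, map_mul, map_inv] at h1
    exact Subgroup.mem_inf.2 ⟨h1, mul_mem (mul_mem (inv_mem (hfix g)) hv.2) (hfix g)⟩
  have hTU : (T : Subgroup (Cfsg.SU n F q)) = U := by
    by_contra hne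
    have hlt : U < T := lt_of_le_of_ne hT (Ne.symm hne)
    have := T.2.isNilpotent
    have hsub : U.subgroupOf T < ⊤ := lt_top_iff_ne_top.2 fun h => hlt.not_ge (Subgroup.subgroupOf_eq_top.1 h)
    obtain ⟨g, hgN, hgU⟩ := SetLike.exists_of_lt (Group.normalizerCondition_of_isNilpotent _ hsub)
    apply hgU
    rw [Subgroup.mem_subgroupOf]
    have hup := hupper g.1 fun u hu => by
      have := ((Subgroup.mem_normalizer_iff.1 (inv_mem hgN)) ⟨u, hT hu⟩).1 (Subgroup.mem_subgroupOf.2 hu)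
      simpa [Subgroup.mem_subgroupOf] using this
    obtain ⟨k, hk⟩ := T.2 g
    refine ⟨hup, fun i => ?_⟩
    have hk' : φ g.1 ^ 2 ^ k = 1 := by
      rw [← map_pow, show g.1 ^ 2 ^ k = 1 from congrArg Subtype.val hk, map_one]
    have hpow : ∀ e : ℕ, (((φ g.1) ^ e : GL (Fin n) F) : Matrix (Fin n) (Fin n) F) i i =
        (((φ g.1 : GL (Fin n) F) : Matrix (Fin n) (Fin n) F) i i) ^ e := by
      intro e
      induction e with
      | zero => simp
      | succ e ih => rw [pow_succ, Units.val_mul, mul_apply_diag (pow_mem hup e) hup, ih, pow_succ]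
    have h := hpow (2 ^ k)
    rw [hk', Units.val_one, Matrix.one_apply_eq] at h
    have h2 : ((((φ g.1 : GL (Fin n) F) : Matrix (Fin n) (Fin n) F) i i) - 1) ^ 2 ^ k = 0 := by
      rw [sub_pow_char_pow, one_pow, ← h, sub_self]
    exact sub_eq_zero.1 ((pow_eq_zero_iff (pow_ne_zero k two_ne_zero)).1 h2)
  obtain ⟨Q, hQ⟩ := exists_sylow_le H hH
  obtain ⟨s, rfl⟩ := MulAction.exists_smul_eq (Cfsg.SU n F q) T Q
  refine pronormal_of_normalizer H (s • T) hQ fun g hg => ⟨1, one_mem _, ?_⟩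
  have hmem : ∀ u, u ∈ ((s • T : Sylow 2 _) : Subgroup (Cfsg.SU n F q)) ↔ s⁻¹ * u * s ∈ U := by
    intro u
    rw [Sylow.coe_subgroup_smul, Subgroup.mem_pointwise_smul_iff_inv_smul_mem, ← hTU]
    simp [MulAut.smul_def]
  have hb : φ (s⁻¹ * g * s) ∈ upperTriangularGL n F := by
    refine hupper _ fun u hu => ?_
    have h1 := ((Subgroup.mem_normalizer_iff.1 (inv_mem hg)) (s * u * s⁻¹)).1
      ((hmem _).2 (by convert hu using 1; group))
    rw [hmem] at h1
    convert h1 using 1
    group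
  set K : Subgroup (GL (Fin n) F) := H.map (φ.comp (MulAut.conj s⁻¹).toMonoidHom) with hK
  have hUK : unitriangularGL n F ⊓ thetaFix σ ≤ K := by
    intro v hv
    obtain ⟨u, rfl⟩ := hsurj v hv
    exact ⟨s * u * s⁻¹, hQ ((hmem _).2 (by
      rw [show s⁻¹ * (s * u * s⁻¹) * s = u by group]; exact hv.1)), by simp [mul_assoc]⟩
  have hKF : K ≤ thetaFix σ := by
    rintro _ ⟨y, -, rfl⟩
    exact hfix _
  have hfixH : H.map (MulAut.conj g).toMonoidHom = H := by
    refine map_conj_eq_self H fun y hy => ?_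
    have h1 := fix_conj_mem σ K hUK hn2 hKF (k := φ (s⁻¹ * y * s)) ⟨y, hy, by simp [mul_assoc]⟩ hb (hfix _)
    rw [← map_inv, ← map_mul, ← map_mul] at h1
    obtain ⟨z, hz, he⟩ := h1
    have h3 := hinj he
    simp only [MulEquiv.coe_toMonoidHom, MulAut.conj_apply, inv_inv] at h3
    have e : z = g * y * g⁻¹ := by
      have h2 := congrArg (fun t => s * t * s⁻¹) h3
      simpa [mul_assoc] using h2
    exact e ▸ hz
  rw [hfixH]
  exact (map_conj_eq_self H fun y hy => by simpa using hy).symm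

end Cfsg.Agent.OddIndex
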