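import Cfsg.Agent.OddIndex.Base
import Cfsg.Agent.Classical.UnitarySmall

/-!
Normalisers of Sylow 2-subgroups of special unitary groups in dimension `2 ^ w`, odd characteristic.
-/

set_option autoImplicit false

namespace Cfsg.Agent.OddIndex

open Matrix Cfsg.Agent.Classical Herm

variable {F : Type*} [Field F] (σ : F →+* F) {ι κ : Type*} [Fintype ι] [DecidableEq ι] [Fintype κ] [DecidableEq κ]

variable (ι) in
/-- The unitary group of the identity Gram matrix, on any index type. -/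
def UG : Subgroup (GL ι F) where
  carrier := {g | ((g : Matrix ι ι F).map σ)ᵀ * (g : Matrix ι ι F) = 1}
  one_mem' := by simp
  mul_mem' := by
    intro g h hg hh
    show (((g * h : GL ι F) : Matrix ι ι F).map σ)ᵀ * ((g * h : GL ι F) : Matrix ι ι F) = 1
    rw [Units.val_mul, Matrix.map_mul, Matrix.transpose_mul]
    calc ((h : Matrix ι ι F).map σ)ᵀ * ((g : Matrix ι ι F).map σ)ᵀ * ((g : Matrix ι ι F) * (h : Matrix ι ι F))
        = ((h : Matrix ι ι F).map σ)ᵀ * (((g : Matrix ι ι F).map σ)ᵀ * (g : Matrix ι ι F)) * (h : Matrix ι ι F) := by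
          simp only [Matrix.mul_assoc]
      _ = 1 := by rw [hg, Matrix.mul_one]; exact hh
  inv_mem' := by
    intro g hg
    show (((g⁻¹ : GL ι F) : Matrix ι ι F).map σ)ᵀ * ((g⁻¹ : GL ι F) : Matrix ι ι F) = 1
    have h1 : ((g : Matrix ι ι F).map σ)ᵀ = ((g⁻¹ : GL ι F) : Matrix ι ι F) := by
      calc ((g : Matrix ι ι F).map σ)ᵀ
          = ((g : Matrix ι ι F).map σ)ᵀ * ((g : Matrix ι ι F) * ((g⁻¹ : GL ι F) : Matrix ι ι F)) := by
            rw [← Units.val_mul, mul_inv_cancel, Units.val_one, Matrix.mul_one]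
        _ = _ := by rw [← Matrix.mul_assoc, hg, Matrix.one_mul]
    calc (((g⁻¹ : GL ι F) : Matrix ι ι F).map σ)ᵀ * ((g⁻¹ : GL ι F) : Matrix ι ι F)
        = (((g⁻¹ : GL ι F) : Matrix ι ι F).map σ)ᵀ * ((g : Matrix ι ι F).map σ)ᵀ := by rw [h1]
      _ = 1 := by
        rw [← Matrix.transpose_mul, ← Matrix.map_mul, ← Units.val_mul, mul_inv_cancel, Units.val_one,
          Matrix.map_one σ (map_zero σ) (map_one σ), Matrix.transpose_one]

theorem mem_UG {g : GL ι F} :
    g ∈ UG σ ι ↔ ((g : Matrix ι ι F).map σ)ᵀ * (g : Matrix ι ι F) = 1 := Iff.rfl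

theorem map_UG (e : ι ≃ κ) : (UG σ ι).map (reGL e).toMonoidHom = UG σ κ := by
  have key : ∀ g : GL ι F, (((reGL e g : GL κ F) : Matrix κ κ F).map σ)ᵀ * ((reGL e g : GL κ F) : Matrix κ κ F) =
      Matrix.reindexAlgEquiv F F e (((g : Matrix ι ι F).map σ)ᵀ * (g : Matrix ι ι F)) := by
    intro g
    rw [coe_reGL, map_mul]
    congr 1
  ext x
  obtain ⟨g, rfl⟩ := (reGL e).surjective x
  refine (Subgroup.mem_map_iff_mem (f := (reGL e).toMonoidHom) (reGL e).injective).trans ?_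
  rw [mem_UG, mem_UG, key, map_eq_one_iff _ (Matrix.reindexAlgEquiv F F e).injective]

theorem dg_mem_UG (a b : GL ι F) : dg (a, b) ∈ UG σ (ι ⊕ ι) ↔ a ∈ UG σ ι ∧ b ∈ UG σ ι := by
  rw [mem_UG, mem_UG, mem_UG, coe_dg, Matrix.fromBlocks_map, Matrix.map_zero _ (map_zero σ),
    Matrix.fromBlocks_transpose, Matrix.fromBlocks_multiply, ← Matrix.fromBlocks_one, Matrix.fromBlocks_inj]
  simp

theorem wsw_mem_UG : (wsw : GL (ι ⊕ ι) F) ∈ UG σ (ι ⊕ ι) := by
  rw [mem_UG, coe_wsw, Matrix.fromBlocks_map, Matrix.map_zero _ (map_zero σ),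
    Matrix.map_one _ (map_zero σ) (map_one σ), Matrix.fromBlocks_transpose, Matrix.fromBlocks_multiply,
    ← Matrix.fromBlocks_one]
  congr 1 <;> simp [Matrix.map_neg, ← Matrix.ext_iff, Matrix.one_apply, apply_ite σ]

theorem scal_mem_UG {c : Fˣ} (hc : σ (c : F) * (c : F) = 1) : scal F ι c ∈ UG σ ι := by
  rw [mem_UG, coe_scal]
  ext i j
  rcases eq_or_ne i j with rfl | h <;> simp [Matrix.one_apply, Matrix.mul_apply, apply_ite σ, hc, *, Ne.symm]

theorem norm_of_scal_mem [Nonempty ι] {c : Fˣ} (h : scal F ι c ∈ UG σ ι) : σ (c : F) * (c : F) = 1 := by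
  obtain ⟨i⟩ := ‹Nonempty ι›
  rw [mem_UG, coe_scal] at h
  have := congrFun (congrFun h i) i
  simpa [Matrix.one_apply, Matrix.mul_apply, apply_ite σ] using this

theorem exists_two_nonsquare' {A : Type*} [CommGroup A] [Finite A] {z : A} (hz : z ≠ 1) (hz2 : z ^ 2 = 1) :
    ∃ a : A, (∃ k : ℕ, a ^ 2 ^ k = 1) ∧ ∀ b : A, b ^ 2 ≠ a := by
  obtain ⟨u, hu⟩ : ∃ u : A, ∀ b : A, b ^ 2 ≠ u := by
    by_contra hc
    push Not at hc
    have hinj := (Finite.injective_iff_surjective (f := fun b : A => b ^ 2)).2 hc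
    exact hz (hinj (by simpa using hz2))
  obtain ⟨k, r, hr, hkr⟩ := Nat.exists_eq_pow_mul_and_not_dvd (orderOf_pos u).ne' 2 (by norm_num)
  refine ⟨u ^ r, ⟨k, by rw [← pow_mul, mul_comm, ← hkr, pow_orderOf_eq_one]⟩, fun b hb => ?_⟩
  obtain ⟨j, hj⟩ : Odd r := by rw [← Nat.not_even_iff_odd, even_iff_two_dvd]; exact hr
  apply hu (b * (u ^ j)⁻¹)
  rw [mul_pow, hb, hj, pow_succ, _root_.inv_pow, ← pow_mul, mul_comm j 2, mul_comm (u ^ (2 * j)) u,
    mul_inv_cancel_right]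

theorem isPGroup_zpowers_two {G : Type*} [Group G] {d : G} {k : ℕ} (hd : d ^ 2 ^ k = 1) :
    IsPGroup 2 (Subgroup.zpowers d) := by
  intro b
  refine ⟨k, Subtype.ext ?_⟩
  obtain ⟨j, hj⟩ := b.2
  change d ^ j = b.1 at hj
  rw [Subgroup.coe_pow, Subgroup.coe_one, ← hj, ← zpow_natCast, ← _root_.zpow_mul, mul_comm,
    _root_.zpow_mul, zpow_natCast, hd, _root_.one_zpow]

variable [Finite F]

theorem good_two_unitary (h2 : (2 : F) ≠ 0) (hσ : IsInvol σ) :
    ∃ T : Subgroup (GL (Fin 2) F), Good (UG σ (Fin 2)) T := by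
  classical
  haveI := Fintype.ofFinite F
  obtain ⟨k, hk0, hk⟩ := exists_skew hσ
  -- a sum of two squares in the fixed field
  obtain ⟨α, β, hα, hβ, hab⟩ : ∃ α β : F, σ α = α ∧ σ β = β ∧ α ^ 2 + β ^ 2 = -(k ^ 2)⁻¹ := by
    have : Fintype (fixField σ) := Fintype.ofFinite _
    have hkk : σ (k ^ 2) = k ^ 2 := by rw [map_pow, hk, neg_sq]
    set c : fixField σ := ⟨-(k ^ 2)⁻¹, by rw [mem_fixField, map_neg, map_inv₀, hkk]⟩ with hc
    have hodd : Fintype.card (fixField σ) % 2 = 1 := FiniteField.odd_card_of_char_ne_two fun h => h2 (by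
      have : CharP (fixField σ) 2 := h ▸ ringChar.charP _
      have := congrArg (fun z : fixField σ => (z : F)) (CharTwo.two_eq_zero (R := fixField σ))
      exact this)
    obtain ⟨a, b, h⟩ := FiniteField.exists_root_sum_quadratic
      (f := Polynomial.X ^ 2) (g := Polynomial.X ^ 2 - Polynomial.C c) (Polynomial.degree_X_pow 2)
      (Polynomial.degree_X_pow_sub_C (by norm_num) c) hodd
    refine ⟨a, b, a.2, b.2, ?_⟩
    have h' := congrArg (fun z : fixField σ => (z : F)) h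
    simp [hc] at h'
    linear_combination h'
  set a := k * α with ha
  set b := k * β with hb
  have hsa : σ a = -a := by rw [ha, map_mul, hk, hα, neg_mul]
  have hsb : σ b = -b := by rw [hb, map_mul, hk, hβ, neg_mul]
  have hN : a * a + b * b = -1 := by
    have : k ^ 2 * (α ^ 2 + β ^ 2) = -1 := by rw [hab, mul_neg, mul_inv_cancel₀ (pow_ne_zero _ hk0)]
    rw [ha, hb]
    linear_combination this
  clear_value a b
  let X : GL (Fin 2) F := Matrix.GeneralLinearGroup.mk'' !![0, 1; -1, 0] (by simp [Matrix.det_fin_two])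
  let Y : GL (Fin 2) F := Matrix.GeneralLinearGroup.mk'' !![a, b; b, -a] (by
    rw [Matrix.det_fin_two]
    simp only [Matrix.of_apply, Matrix.cons_val', Matrix.cons_val_zero, Matrix.cons_val_one,
      Matrix.cons_val_fin_one]
    exact isUnit_iff_ne_zero.2 (by rw [show a * -a - b * b = -(a * a + b * b) by ring, hN]; simp))
  have hX : (X : Matrix (Fin 2) (Fin 2) F) = !![0, 1; -1, 0] := rfl
  have hY : (Y : Matrix (Fin 2) (Fin 2) F) = !![a, b; b, -a] := rfl
  have dX : Matrix.GeneralLinearGroup.det X = 1 := Units.ext (by simp [hX, Matrix.det_fin_two])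
  have dY : Matrix.GeneralLinearGroup.det Y = 1 := Units.ext (by
    rw [Matrix.GeneralLinearGroup.val_det_apply, hY, Matrix.det_fin_two, Units.val_one]
    simp only [Matrix.of_apply, Matrix.cons_val', Matrix.cons_val_zero, Matrix.cons_val_one,
      Matrix.cons_val_fin_one]
    linear_combination -hN)
  have hXU : X ∈ UG σ (Fin 2) := by
    rw [mem_UG, hX]
    ext i j
    fin_cases i <;> fin_cases j <;> simp [Matrix.mul_apply, Fin.sum_univ_two]
  have hYU : Y ∈ UG σ (Fin 2) := by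
    rw [mem_UG, hY]
    ext i j
    fin_cases i <;> fin_cases j <;> simp [Matrix.mul_apply, Fin.sum_univ_two, hsa, hsb] <;>
      first
      | linear_combination -hN
      | linear_combination hN
      | ring
  set m : GL (Fin 2) F := scal F (Fin 2) (-1)
  have hX2 : X * X = m := by
    ext i j
    rw [Units.val_mul, hX, coe_scal]
    fin_cases i <;> fin_cases j <;> simp [Matrix.mul_apply, Fin.sum_univ_two]
  have hY2 : Y * Y = m := by
    ext i j
    rw [Units.val_mul, hY, coe_scal]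
    fin_cases i <;> fin_cases j <;> simp [Matrix.mul_apply, Fin.sum_univ_two] <;>
      first
      | linear_combination hN
      | ring
  have hm2 : m * m = 1 := by rw [← map_mul, neg_mul_neg, one_mul, map_one]
  have hYX : Y * X * Y⁻¹ = X⁻¹ := by
    have hXi : X⁻¹ = m * X := inv_eq_of_mul_eq_one_right (by
      rw [← mul_assoc, ← scal_comm, mul_assoc, hX2, hm2])
    rw [hXi, mul_inv_eq_iff_eq_mul]
    ext i j
    rw [Units.val_mul, Units.val_mul, Units.val_mul, hX, hY, coe_scal]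
    fin_cases i <;> fin_cases j <;> simp [Matrix.mul_apply, Fin.sum_univ_two]
  have h4 : ∀ Z : GL (Fin 2) F, Z * Z = m → Z ^ 2 ^ 2 = 1 := fun Z hZ => by
    rw [show (2 : ℕ) ^ 2 = 2 * 2 from rfl, pow_mul, pow_two Z, hZ, pow_two, hm2]
  have hncXY : X * Y ≠ Y * X := by
    intro h
    have e := congrArg (fun g : GL (Fin 2) F => (g : Matrix (Fin 2) (Fin 2) F)) h
    simp only [Units.val_mul, hX, hY] at e
    have e0 := congrFun (congrFun e 0) 0
    have e1 := congrFun (congrFun e 0) 1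
    simp [Matrix.mul_apply, Fin.sum_univ_two] at e0 e1
    have hb0 : b = 0 := (mul_eq_zero.1 (show (2 : F) * b = 0 by linear_combination e0)).resolve_left h2
    have ha0 : a = 0 := (mul_eq_zero.1 (show (2 : F) * a = 0 by linear_combination -e1)).resolve_left h2
    rw [ha0, hb0] at hN
    simp at hN
  have hsup : IsPGroup 2 ↥(Subgroup.zpowers Y ⊔ Subgroup.zpowers X) := by
    refine IsPGroup.to_sup_of_normal_right' (isPGroup_zpowers_two (k := 2) (h4 Y hY2))
      (isPGroup_zpowers_two (k := 2) (h4 X hX2)) (Subgroup.zpowers_le.2 ?_)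
    refine Subgroup.mem_normalizer_fintype fun x hx => ?_
    obtain ⟨i, rfl⟩ := hx
    refine ⟨-i, ?_⟩
    show X ^ (-i) = Y * X ^ i * Y⁻¹
    rw [← conj_zpow, hYX, _root_.inv_zpow, _root_.zpow_neg]
  obtain ⟨P, hP⟩ := (hsup.comap_of_injective (UG σ (Fin 2)).subtype (Subgroup.subtype_injective _)).exists_le_sylow
  have hXP : (⟨X, hXU⟩ : UG σ (Fin 2)) ∈ P := hP (Subgroup.mem_sup_right (Subgroup.mem_zpowers X))
  have hYP : (⟨Y, hYU⟩ : UG σ (Fin 2)) ∈ P := hP (Subgroup.mem_sup_left (Subgroup.mem_zpowers Y))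
  -- a nonsquare norm one 2-element
  obtain ⟨a0, ⟨e, hae⟩, hans⟩ := exists_two_nonsquare' (A := (normHom σ).ker)
    (z := ⟨-1, MonoidHom.mem_ker.2 (Units.ext (by rw [normHom_coe]; simp))⟩)
    (fun h => h2 (by
      have := congrArg (fun u : (normHom σ).ker => ((u : Fˣ) : F)) h
      simp at this
      linear_combination -this))
    (Subtype.ext (by simp))
  have ha0 : σ ((a0 : Fˣ) : F) * ((a0 : Fˣ) : F) = 1 := by
    rw [mul_comm, ← normHom_coe, MonoidHom.mem_ker.1 a0.2, Units.val_one]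
  let d : GL (Fin 2) F := Classical.diagGL ![(a0 : Fˣ), 1]
  have hdU : d ∈ UG σ (Fin 2) := by
    rw [mem_UG]
    ext i j
    fin_cases i <;> fin_cases j <;> simp [d, Classical.diagGL_coe, Matrix.mul_apply, Fin.sum_univ_two, ha0]
  have hd : d ^ 2 ^ e = 1 := by
    rw [← map_pow, show (![(a0 : Fˣ), 1] : Fin 2 → Fˣ) ^ 2 ^ e = 1 by
      ext i
      fin_cases i
      · simpa using congrArg (fun u : (normHom σ).ker => ((u : Fˣ) : F)) hae
      · simp, map_one]
  obtain ⟨P', hP'⟩ := (isPGroup_zpowers_two (d := (⟨d, hdU⟩ : UG σ (Fin 2))) (k := e)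
    (Subtype.ext (by simpa using hd))).exists_le_sylow
  obtain ⟨h, rfl⟩ := MulAction.exists_smul_eq (UG σ (Fin 2)) P P'
  have hdP := hP' (Subgroup.mem_zpowers _)
  rw [Sylow.coe_subgroup_smul, Subgroup.mem_pointwise_smul_iff_inv_smul_mem] at hdP
  have ht0 : h⁻¹ * ⟨d, hdU⟩ * h ∈ (P : Subgroup (UG σ (Fin 2))) := by simpa [MulAut.smul_def] using hdP
  set T : Subgroup (GL (Fin 2) F) := (P : Subgroup (UG σ (Fin 2))).map (UG σ (Fin 2)).subtype with hT
  have hXT : X ∈ T := ⟨_, hXP, rfl⟩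
  have hYT : Y ∈ T := ⟨_, hYP, rfl⟩
  refine ⟨T, good_base (Subgroup.map_subtype_le _) (P.2.map _) (fun S hS1 hS2 hS3 => ?_)
    (scal_mem_UG σ (by simp)) ?_ hXT hYT dX dY hncXY
    (t0 := ((h⁻¹ * ⟨d, hdU⟩ * h : UG σ (Fin 2)) : GL (Fin 2) F)) (a := (a0 : Fˣ)) ⟨_, ht0, rfl⟩ ?_ ?_⟩
  · have := P.3 (hS3.comap_of_injective (UG σ (Fin 2)).subtype (Subgroup.subtype_injective _))
      (Subgroup.map_le_iff_le_comap.1 hS1)
    rw [hT, ← this, Subgroup.map_comap_eq, Subgroup.range_subtype, inf_eq_right.2 hS2]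
  · set S := {N : Matrix (Fin 2) (Fin 2) F |
      ∃ t ∈ T, Matrix.GeneralLinearGroup.det t = 1 ∧ (t : Matrix (Fin 2) (Fin 2) F) = N}
    rw [eq_top_iff]
    rintro N -
    have s1 : (1 : Matrix (Fin 2) (Fin 2) F) ∈ Submodule.span F S :=
      Submodule.subset_span ⟨1, one_mem T, map_one _, Units.val_one⟩
    have sX : (X : Matrix (Fin 2) (Fin 2) F) ∈ Submodule.span F S :=
      Submodule.subset_span ⟨X, hXT, dX, rfl⟩
    have sY : (Y : Matrix (Fin 2) (Fin 2) F) ∈ Submodule.span F S :=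
      Submodule.subset_span ⟨Y, hYT, dY, rfl⟩
    have sXY : (X : Matrix (Fin 2) (Fin 2) F) * Y ∈ Submodule.span F S :=
      Submodule.subset_span ⟨X * Y, mul_mem hXT hYT, by rw [map_mul, dX, dY, one_mul], rfl⟩
    -- the coordinates
    set u := (N 0 0 - N 1 1) / 2 with hu
    set v := (N 0 1 + N 1 0) / 2 with hv
    have e : N = ((N 0 0 + N 1 1) / 2) • (1 : Matrix (Fin 2) (Fin 2) F) + ((N 0 1 - N 1 0) / 2) • (X : Matrix (Fin 2) (Fin 2) F)
        + (-(u * a + v * b)) • (Y : Matrix (Fin 2) (Fin 2) F) +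
        (-(u * b - v * a)) • ((X : Matrix (Fin 2) (Fin 2) F) * Y) := by
      ext i j
      fin_cases i <;> fin_cases j <;> simp [hX, hY, Matrix.mul_apply, Fin.sum_univ_two, hu, hv] <;> field_simp
      · linear_combination (N 0 0 - N 1 1) * hN
      · linear_combination (N 0 1 + N 1 0) * hN
      · linear_combination (N 0 1 + N 1 0) * hN
      · linear_combination -(N 0 0 - N 1 1) * hN
    rw [e]
    exact add_mem (add_mem (add_mem (Submodule.smul_mem _ _ s1) (Submodule.smul_mem _ _ sX))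
      (Submodule.smul_mem _ _ sY)) (Submodule.smul_mem _ _ sXY)
  · rw [Subgroup.coe_mul, Subgroup.coe_mul, Subgroup.coe_inv, map_mul, map_mul, mul_comm, ← mul_assoc, ← map_mul,
      mul_inv_cancel, map_one, one_mul]
    ext1
    simp [d, Classical.diagGL_coe, Matrix.det_fin_two]
  · intro c hc hca
    have hcn : c ∈ (normHom σ).ker := MonoidHom.mem_ker.2 (Units.ext (by
      rw [normHom_coe, mul_comm, norm_of_scal_mem σ hc, Units.val_one]))
    exact hans ⟨c, hcn⟩ (Subtype.ext hca)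

theorem good_pow_unitary (h2 : (2 : F) ≠ 0) (hσ : IsInvol σ) : ∀ w : ℕ,
    ∃ T : Subgroup (GL (Fin (2 ^ (w + 2))) F),
      Good (UG σ (Fin (2 ^ (w + 2)))) T ∧ OddSL (UG σ (Fin (2 ^ (w + 2)))) T
  | 0 => by
    obtain ⟨T, hT⟩ := good_two_unitary σ h2 hσ
    obtain ⟨T', h1, h3⟩ := step hT (dg_mem_UG σ) (wsw_mem_UG σ)
    have := good_reindex (finSumFinEquiv.trans (finCongr (by norm_num : 2 + 2 = 2 ^ (0 + 2)))) h1 h3
    rwa [map_UG] at this
  | w + 1 => by
    obtain ⟨T, hT, -⟩ := good_pow_unitary h2 hσ w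
    obtain ⟨T', h1, h3⟩ := step hT (dg_mem_UG σ) (wsw_mem_UG σ)
    have := good_reindex (finSumFinEquiv.trans
      (finCongr (by ring : 2 ^ (w + 2) + 2 ^ (w + 2) = 2 ^ (w + 1 + 2)))) h1 h3
    rwa [map_UG] at this

/-- Odd order elements normalising a Sylow 2-subgroup of `SU` are central. -/
theorem odd_normalizer_su {q : ℕ} (h2 : (2 : F) ≠ 0) (hσ : IsInvol σ) (hσq : ∀ x, σ x = x ^ q) {w : ℕ}
    (hw : 2 ≤ w) (P : Sylow 2 (Cfsg.SU (2 ^ w) F q)) (g : Cfsg.SU (2 ^ w) F q)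
    (hodd : Odd (orderOf g)) (hg : ∀ t ∈ P, g * t * g⁻¹ ∈ P) :
    g ∈ Subgroup.center (Cfsg.SU (2 ^ w) F q) := by
  haveI : Fact (Nat.Prime 2) := ⟨Nat.prime_two⟩
  obtain ⟨v, rfl⟩ := Nat.exists_eq_add_of_le' hw
  obtain ⟨T0, hG, hS⟩ := good_pow_unitary σ h2 hσ v
  set G := UG σ (Fin (2 ^ (v + 2))) with hGdef
  set ψ : Cfsg.SU (2 ^ (v + 2)) F q →* G :=
    (Matrix.SpecialLinearGroup.toGL.comp (Cfsg.SU (2 ^ (v + 2)) F q).subtype).codRestrict G
      (fun A => (preserves_iff_mul A.1.1).1 ((mem_SU_iff hσq _).1 A.2)) with hψ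
  have hψv : ∀ A, ((ψ A : G) : GL (Fin (2 ^ (v + 2))) F) = Matrix.SpecialLinearGroup.toGL A.1 := fun A => rfl
  have hinj : Function.Injective ψ := fun A B h => Subtype.ext (Subtype.ext
    (congrArg (fun x : G => (x : GL (Fin (2 ^ (v + 2))) F).val) h :))
  let T : Sylow 2 G := ⟨T0.subgroupOf G, hG.two.comap_of_injective G.subtype (Subgroup.subtype_injective _),
    fun {Q} hQ hle => by
      have h1 := hG.max (Q.map G.subtype) (fun x hx => ⟨⟨x, hG.le hx⟩, hle (Subgroup.mem_subgroupOf.2 hx), rfl⟩)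
        (Subgroup.map_subtype_le Q) (hQ.map _)
      ext x
      rw [Subgroup.mem_subgroupOf, ← h1]
      exact ⟨fun hx => ⟨x, hx, rfl⟩, by rintro ⟨y, hy, e⟩; exact (Subtype.ext e : y = x) ▸ hy⟩⟩
  have hT : ∀ x : G, x ∈ T ↔ (x : GL (Fin (2 ^ (v + 2))) F) ∈ T0 := fun x => Subgroup.mem_subgroupOf
  obtain ⟨T', hT'⟩ := (P.2.map ψ).exists_le_sylow
  obtain ⟨h, rfl⟩ := MulAction.exists_smul_eq G T T'
  have hcomap : ((h • T : Sylow 2 _) : Subgroup G).comap ψ = (P : Subgroup (Cfsg.SU (2 ^ (v + 2)) F q)) := by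
    refine P.3 ((h • T).2.comap_of_injective ψ hinj) ?_
    rw [← Subgroup.map_le_iff_le_comap]
    exact hT'
  have hmem : ∀ s, s ∈ P ↔ ((h⁻¹ * ψ s * h : G) : GL (Fin (2 ^ (v + 2))) F) ∈ T0 := by
    intro s
    rw [← hT]
    show s ∈ (P : Subgroup _) ↔ _
    rw [← hcomap, Subgroup.mem_comap, Sylow.coe_subgroup_smul, Subgroup.mem_pointwise_smul_iff_inv_smul_mem]
    simp [MulAut.smul_def]
    rfl
  obtain ⟨c, hc⟩ := hS ((h⁻¹ * ψ g * h : G) : GL (Fin (2 ^ (v + 2))) F) (Subtype.coe_prop _) (by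
    rw [Subgroup.orderOf_coe, show h⁻¹ * ψ g * h = MulAut.conj h⁻¹ (ψ g) by simp, MulEquiv.orderOf_eq,
      orderOf_injective ψ hinj]
    exact hodd) fun t ht dt => by
    obtain ⟨s, hs⟩ : ∃ s, ψ s = h * ⟨t, hG.le ht⟩ * h⁻¹ := by
      have hd1 : Matrix.GeneralLinearGroup.det ((h * ⟨t, hG.le ht⟩ * h⁻¹ : G) : GL (Fin (2 ^ (v + 2))) F) = 1 := by
        rw [Subgroup.coe_mul, Subgroup.coe_mul, Subgroup.coe_inv, map_mul, map_mul, map_inv, dt, mul_one,
          mul_inv_cancel]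
      obtain ⟨A, hA⟩ : ((h * ⟨t, hG.le ht⟩ * h⁻¹ : G) : GL (Fin (2 ^ (v + 2))) F) ∈
          (Matrix.SpecialLinearGroup.toGL : Matrix.SpecialLinearGroup _ F →* _).range := by
        rw [Classical.range_toGL_eq_ker_det]; exact MonoidHom.mem_ker.2 hd1
      refine ⟨⟨A, (mem_SU_iff hσq _).2 ((preserves_iff_mul A.1).2 ?_)⟩, Subtype.ext hA⟩
      have h0 := (h * ⟨t, hG.le ht⟩ * h⁻¹ : G).2
      rw [← hA] at h0
      exact h0
    have hsP : s ∈ P := by
      rw [hmem, hs]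
      simpa [mul_assoc] using ht
    have h' := (hmem _).1 (hg s hsP)
    rw [map_mul, map_mul, map_inv, hs] at h'
    convert h' using 1
    simp only [Subgroup.coe_mul, Subgroup.coe_inv]
    group
  rw [Subgroup.mem_center_iff]
  intro A
  apply hinj
  apply Subtype.ext
  have e : ((ψ g : G) : GL (Fin (2 ^ (v + 2))) F) = scal F _ c := by
    rw [show ψ g = h * (h⁻¹ * ψ g * h) * h⁻¹ by group, Subgroup.coe_mul, Subgroup.coe_mul, ← hc, ← scal_comm,
      Subgroup.coe_inv, mul_inv_cancel_right]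
  rw [map_mul, map_mul, Subgroup.coe_mul, Subgroup.coe_mul, e, scal_comm]

end Cfsg.Agent.OddIndex
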