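import Cfsg.Agent.GLFlags.Bruhat
import Cfsg.Agent.GLFlags.Unipotent
import Cfsg.Agent.Classical.LinearBasic

/-!
Subgroups of GL containing the upper unitriangular group are normalised by the diagonal group; the normaliser
of the upper unitriangular group is the triangular group.
-/

set_option autoImplicit false

namespace Cfsg.Agent.OddIndex

open Matrix Cfsg.Agent.GLFlags Cfsg.Agent.Classical

variable {n : ℕ} {F : Type*} [Field F]

local notation "GLn" => GL (Fin n) F

/-- The transvection in GL. -/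
def tvG {i j : Fin n} (h : i ≠ j) (c : F) : GLn :=
  Matrix.SpecialLinearGroup.toGL (Matrix.SpecialLinearGroup.transvection h c)

theorem tvG_apply {i j : Fin n} (h : i ≠ j) (c : F) (a b : Fin n) :
    (tvG h c : Matrix (Fin n) (Fin n) F) a b = (if a = b then 1 else 0) + (if a = i ∧ b = j then c else 0) := by
  simp [tvG, Matrix.SpecialLinearGroup.transvection_coe, Matrix.transvection, Matrix.single_apply,
    Matrix.one_apply, eq_comm]

theorem tvG_mem_uni {i j : Fin n} (h : i < j) (c : F) : tvG h.ne c ∈ unitriangularGL n F := by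
  refine ⟨fun a b (hab : b < a) => ?_, fun a => ?_⟩
  · rw [tvG_apply, if_neg hab.ne', if_neg, add_zero]
    rintro ⟨rfl, rfl⟩
    exact (hab.trans h).false
  · rw [tvG_apply, if_pos rfl, if_neg, add_zero]
    rintro ⟨rfl, h'⟩
    exact h.ne h'

theorem perm_conj_tvG (σ : Equiv.Perm (Fin n)) {a b : Fin n} (h : a ≠ b) (c : F) :
    (permGL n F σ)⁻¹ * tvG h c * permGL n F σ = tvG (σ.symm.injective.ne h) c := by
  ext x y
  rw [permGL_conj_apply, tvG_apply, tvG_apply]
  simp [Equiv.eq_symm_apply]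

theorem diag_conj_tvG (d : Fin n → Fˣ) {a b : Fin n} (h : a ≠ b) (c : F) :
    diagGL d * tvG h c * (diagGL d)⁻¹ = tvG h ((d a : F) * c * ((d b)⁻¹ : Fˣ)) := by
  rw [mul_inv_eq_iff_eq_mul]
  exact diagGL_mul_tv h d c

theorem diag_mul_perm (d : Fin n → Fˣ) (τ : Equiv.Perm (Fin n)) :
    diagGL d * permGL n F τ = permGL n F τ * diagGL (d ∘ τ) := by
  ext i j
  rw [Units.val_mul, mul_permGL_apply, Units.val_mul, permGL_mul_apply, diagGL_coe, diagGL_coe]
  by_cases hij : i = τ j
  · subst hij; simp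
  · have : τ.symm i ≠ j := fun he => hij (by rw [← he, Equiv.apply_symm_apply])
    rw [Matrix.diagonal_apply_ne _ hij, Matrix.diagonal_apply_ne _ this]

theorem exists_diag_mul (b : GLn) (hb : b ∈ upperTriangularGL n F) :
    ∃ (d : Fin n → Fˣ) (u : GLn), u ∈ unitriangularGL n F ∧ b = diagGL d * u := by
  have hdiag : ∀ i, (b : Matrix (Fin n) (Fin n) F) i i ≠ 0 := by
    intro i
    have h1 : (b : Matrix (Fin n) (Fin n) F).det ≠ 0 := ((Matrix.isUnit_iff_isUnit_det _).1 b.isUnit).ne_zero
    rw [Matrix.det_of_isUpperTriangular hb, Finset.prod_ne_zero_iff] at h1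
    exact h1 i (Finset.mem_univ _)
  let d : Fin n → Fˣ := fun i => Units.mk0 _ (hdiag i)
  refine ⟨d, (diagGL d)⁻¹ * b, ?_, by rw [mul_inv_cancel_left]⟩
  rw [← map_inv]
  refine ⟨fun i j hij => ?_, fun i => ?_⟩
  · rw [Units.val_mul, diagGL_coe, Matrix.diagonal_mul, hb hij, mul_zero]
  · rw [Units.val_mul, diagGL_coe, Matrix.diagonal_mul]
    simp [d, inv_mul_cancel₀ (hdiag i)]

theorem upper_conj_uni {b u : GLn} (hb : b ∈ upperTriangularGL n F) (hu : u ∈ unitriangularGL n F) :
    b * u * b⁻¹ ∈ unitriangularGL n F := by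
  refine ⟨mul_mem (mul_mem hb hu.1) (inv_mem hb), fun i => ?_⟩
  rw [Units.val_mul, Units.val_mul, mul_apply_diag (hb.mul hu.1) (inv_mem hb), mul_apply_diag hb hu.1, hu.2,
    mul_one, ← mul_apply_diag hb (inv_mem hb), ← Units.val_mul, mul_inv_cancel, Units.val_one, Matrix.one_apply_eq]

/-- The monomial `w` for the simple reflection, as a product of transvections. -/
theorem simple_reflection {i j : Fin n} (h : i ≠ j) :
    tvG h (1 : F) * tvG h.symm (-1) * tvG h 1 =
      permGL n F (Equiv.swap i j) * diagGL (Function.update (1 : Fin n → Fˣ) i (-1)) := by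
  refine gl_ext_mulVec fun v => ?_
  have hp : ∀ w : Fin n → F, (permGL n F (Equiv.swap i j) : Matrix (Fin n) (Fin n) F) *ᵥ w = w ∘ Equiv.swap i j := by
    intro w
    ext a
    have hsw : ∀ b, a = Equiv.swap i j b ↔ b = Equiv.swap i j a := fun b =>
      ⟨fun h => by simp [h], fun h => by simp [h]⟩
    simp [Matrix.mulVec, dotProduct, permGL_apply, hsw]
  simp only [Units.val_mul, ← Matrix.mulVec_mulVec, diagGL_coe, hp]
  simp only [tvG, Matrix.SpecialLinearGroup.coe_GL_coe_matrix, Matrix.SpecialLinearGroup.transvection_coe,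
    tv_mulVec]
  ext a
  simp only [Pi.add_apply, Pi.single_apply, Function.comp_apply, Matrix.mulVec_diagonal, Function.update_apply,
    Pi.one_apply]
  rcases eq_or_ne a i with rfl | hai
  · simp [h, h.symm]
  rcases eq_or_ne a j with rfl | haj
  · simp [h, h.symm]
  · simp [hai, haj, Equiv.swap_apply_of_ne_of_ne hai haj]

theorem exists_descent {σ : Equiv.Perm (Fin n)} (hσ : σ ≠ 1) :
    ∃ (k : ℕ) (hk : k + 1 < n), σ ⟨k + 1, hk⟩ < σ ⟨k, by omega⟩ := by
  by_contra hc
  push Not at hc
  refine hσ (GLFlags.eq_one_of_strictMono σ ?_)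
  rcases n with - | m
  · exact fun a => a.elim0
  refine Fin.strictMono_iff_lt_succ.2 fun i => ?_
  refine lt_of_le_of_ne (hc i.val (by omega)) fun he => ?_
  have := congrArg Fin.val (σ.injective he)
  simp at this

theorem lower_mem (K : Subgroup GLn) (hU : unitriangularGL n F ≤ K) {σ : Equiv.Perm (Fin n)} {d : Fin n → Fˣ}
    (hn : ∀ u ∈ unitriangularGL n F, (permGL n F σ * diagGL d)⁻¹ * u * (permGL n F σ * diagGL d) ∈ K)
    {i j : Fin n} (hij : i < j) (hdesc : σ j < σ i) (c : F) : tvG hij.ne' c ∈ K := by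
  have h := hn _ (tvG_mem_uni hdesc ((d j : F) * c * ((d i)⁻¹ : Fˣ)))
  have e : (permGL n F σ * diagGL d)⁻¹ * tvG hdesc.ne ((d j : F) * c * ((d i)⁻¹ : Fˣ)) *
      (permGL n F σ * diagGL d) = tvG hij.ne' c := by
    have e1 : tvG hdesc.ne ((d j : F) * c * ((d i)⁻¹ : Fˣ)) =
        permGL n F σ * tvG hij.ne' ((d j : F) * c * ((d i)⁻¹ : Fˣ)) * (permGL n F σ)⁻¹ := by
      rw [eq_mul_inv_iff_mul_eq, ← inv_mul_eq_iff_eq_mul, ← mul_assoc, perm_conj_tvG]
      congr 1 <;> simp
    rw [e1, ← diag_conj_tvG d hij.ne' c]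
    group
  rwa [e] at h

/-- Diagonal matrices normalise every subgroup containing the upper unitriangular group. -/
theorem diag_conj_mem (K : Subgroup GLn) (hU : unitriangularGL n F ≤ K) {k : GLn} (hk : k ∈ K)
    (e : Fin n → Fˣ) : diagGL e * k * (diagGL e)⁻¹ ∈ K := by
  have hb : diagGL e ∈ upperTriangularGL n F := fun i j hij => by
    rw [diagGL_coe]; exact Matrix.diagonal_apply_ne _ (ne_of_gt hij)
  let M : Equiv.Perm (Fin n) → ℕ := fun σ => ∑ i : Fin n, (i : ℕ) * (σ i : ℕ)
  have hM : ∀ σ, M σ ≤ n * (n * n) := by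
    intro σ
    calc M σ ≤ ∑ _i : Fin n, n * n := Finset.sum_le_sum fun i _ => Nat.mul_le_mul i.2.le (σ i).2.le
      _ = n * (n * n) := by simp
  have key : ∀ m : ℕ, ∀ (σ : Equiv.Perm (Fin n)) (d : Fin n → Fˣ), n * (n * n) ≤ M σ + m →
      permGL n F σ * diagGL d ∈ K → diagGL e * (permGL n F σ * diagGL d) * (diagGL e)⁻¹ ∈ K := by
    intro m
    induction m using Nat.strong_induction_on with
    | _ m ih =>
      intro σ d hle hn
      by_cases hσ : σ = 1
      · subst hσ
        rw [map_one, one_mul] at hn ⊢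
        rwa [← map_mul, ← map_inv, ← map_mul, mul_comm e d, mul_inv_cancel_right]
      obtain ⟨k, hk, hdesc⟩ := exists_descent hσ
      set i : Fin n := ⟨k, by omega⟩ with hi
      set j : Fin n := ⟨k + 1, hk⟩ with hj
      have hij : i < j := Fin.lt_def.2 (by simp [hi, hj])
      have hlow : ∀ c : F, tvG hij.ne' c ∈ K := lower_mem K hU (fun u hu =>
        mul_mem (mul_mem (inv_mem hn) (hU hu)) hn) hij hdesc
      have hup : ∀ c : F, tvG hij.ne c ∈ K := fun c => hU (tvG_mem_uni hij c)
      have hw : permGL n F (Equiv.swap i j) * diagGL (Function.update (1 : Fin n → Fˣ) i (-1)) ∈ K := by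
        rw [← simple_reflection hij.ne]
        exact mul_mem (mul_mem (hup _) (hlow _)) (hup _)
      have hw' : diagGL e * (permGL n F (Equiv.swap i j) * diagGL (Function.update (1 : Fin n → Fˣ) i (-1))) * (diagGL e)⁻¹ ∈ K := by
        rw [← simple_reflection hij.ne]
        have : diagGL e * (tvG hij.ne (1 : F) * tvG hij.ne' (-1) * tvG hij.ne 1) * (diagGL e)⁻¹ =
            (diagGL e * tvG hij.ne (1 : F) * (diagGL e)⁻¹) * (diagGL e * tvG hij.ne' (-1) * (diagGL e)⁻¹) *
              (diagGL e * tvG hij.ne 1 * (diagGL e)⁻¹) := by group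
        rw [this, diag_conj_tvG, diag_conj_tvG]
        exact mul_mem (mul_mem (hup _) (hlow _)) (hup _)
      set σ' := σ * Equiv.swap i j with hσ'
      set d' := (d ∘ Equiv.swap i j) * Function.update (1 : Fin n → Fˣ) i (-1) with hd'
      have hprod : permGL n F σ * diagGL d * (permGL n F (Equiv.swap i j) * diagGL (Function.update (1 : Fin n → Fˣ) i (-1))) =
          permGL n F σ' * diagGL d' := by
        rw [hσ', hd', map_mul, map_mul, mul_assoc, ← mul_assoc (diagGL d), diag_mul_perm]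
        simp only [mul_assoc]
      have hlt : M σ < M σ' := by
        have e1 : M σ' + (i : ℕ) * (σ i : ℕ) + (j : ℕ) * (σ j : ℕ) =
            M σ + (i : ℕ) * (σ j : ℕ) + (j : ℕ) * (σ i : ℕ) := by
          have h1 := Finset.sum_eq_sum_sdiff_singleton_add (Finset.mem_univ i) fun a => (a : ℕ) * (σ' a : ℕ)
          have h1' := Finset.sum_eq_sum_sdiff_singleton_add (Finset.mem_univ i) fun a => (a : ℕ) * (σ a : ℕ)
          have hj' : j ∈ Finset.univ \ {i} := by simp [hij.ne']
          have h2 := Finset.sum_eq_sum_sdiff_singleton_add hj' fun a => (a : ℕ) * (σ' a : ℕ)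
          have h2' := Finset.sum_eq_sum_sdiff_singleton_add hj' fun a => (a : ℕ) * (σ a : ℕ)
          have h3 : ∑ a ∈ (Finset.univ \ {i}) \ {j}, (a : ℕ) * (σ' a : ℕ) =
              ∑ a ∈ (Finset.univ \ {i}) \ {j}, (a : ℕ) * (σ a : ℕ) := by
            refine Finset.sum_congr rfl fun a ha => ?_
            simp only [Finset.mem_sdiff, Finset.mem_singleton] at ha
            simp [hσ', Equiv.swap_apply_of_ne_of_ne ha.1.2 ha.2]
          have s1 : σ' i = σ j := by simp [hσ']
          have s2 : σ' j = σ i := by simp [hσ']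
          simp only [s1, s2] at h1 h2
          simp only [M]
          omega
        have e2 : (j : ℕ) = i + 1 := by simp [hi, hj]
        rw [e2, Nat.succ_mul, Nat.succ_mul] at e1
        have e3 : (σ j : ℕ) < (σ i : ℕ) := hdesc
        omega
      have h' := ih (m - (M σ' - M σ)) (by
        have := hM σ'
        omega) σ' d' (by omega) (hprod ▸ mul_mem hn hw)
      rw [← hprod] at h'
      have : diagGL e * (permGL n F σ * diagGL d) * (diagGL e)⁻¹ =
          diagGL e * (permGL n F σ * diagGL d * (permGL n F (Equiv.swap i j) * diagGL (Function.update (1 : Fin n → Fˣ) i (-1)))) *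
            (diagGL e)⁻¹ * (diagGL e * (permGL n F (Equiv.swap i j) * diagGL (Function.update (1 : Fin n → Fˣ) i (-1))) *
              (diagGL e)⁻¹)⁻¹ := by group
      rw [this]
      exact mul_mem h' (inv_mem hw')
  obtain ⟨u, hu, σ, b, hbu, rfl⟩ := exists_bruhat k
  obtain ⟨d, u', hu', rfl⟩ := exists_diag_mul b hbu
  have hn : permGL n F σ * diagGL d ∈ K := by
    have h1 := mul_mem (mul_mem (inv_mem (hU hu)) hk) (inv_mem (hU hu'))
    convert h1 using 1
    group
  have hsplit : diagGL e * (u * permGL n F σ * (diagGL d * u')) * (diagGL e)⁻¹ =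
      (diagGL e * u * (diagGL e)⁻¹) * (diagGL e * (permGL n F σ * diagGL d) * (diagGL e)⁻¹) *
        (diagGL e * u' * (diagGL e)⁻¹) := by group
  rw [hsplit]
  exact mul_mem (mul_mem (hU (upper_conj_uni hb hu)) (key (n * (n * n)) σ d (by omega) hn)) (hU (upper_conj_uni hb hu'))

/-- Triangular matrices normalise every subgroup containing the upper unitriangular group. -/
theorem upper_conj_mem (K : Subgroup GLn) (hU : unitriangularGL n F ≤ K) {k b : GLn} (hk : k ∈ K)
    (hb : b ∈ upperTriangularGL n F) : b * k * b⁻¹ ∈ K := by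
  obtain ⟨d, u, hu, rfl⟩ := exists_diag_mul b hb
  have : diagGL d * u * k * (diagGL d * u)⁻¹ = diagGL d * (u * k * u⁻¹) * (diagGL d)⁻¹ := by group
  rw [this]
  exact diag_conj_mem K hU (mul_mem (mul_mem (hU hu) hk) (inv_mem (hU hu))) d

/-- The normaliser of the unitriangular group consists of triangular matrices. -/
theorem mem_upper_of_normalizes {g : GLn}
    (hg : ∀ u ∈ unitriangularGL n F, g⁻¹ * u * g ∈ unitriangularGL n F) : g ∈ upperTriangularGL n F := by
  obtain ⟨u, hu, σ, b, hb, rfl⟩ := exists_bruhat g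
  by_cases hσ : σ = 1
  · subst hσ
    rw [map_one, mul_one]
    exact mul_mem hu.1 hb
  exfalso
  have hn : ∀ v ∈ unitriangularGL n F,
      (permGL n F σ * diagGL 1)⁻¹ * v * (permGL n F σ * diagGL 1) ∈ unitriangularGL n F := by
    intro v hv
    have h1 := upper_conj_uni hb (hg (u * v * u⁻¹) (mul_mem (mul_mem hu hv) (inv_mem hu)))
    rw [map_one, mul_one]
    convert h1 using 1
    group
  obtain ⟨k, hk, hdesc⟩ := exists_descent hσ
  have hij : (⟨k, by omega⟩ : Fin n) < ⟨k + 1, hk⟩ := Fin.lt_def.2 (by simp)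
  have h := (lower_mem _ le_rfl hn hij hdesc 1).1 (show id (⟨k, by omega⟩ : Fin n) < id ⟨k + 1, hk⟩ from hij)
  rw [tvG_apply] at h
  simp at h

end Cfsg.Agent.OddIndex
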