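import Mathlib
import Cfsg.Agent.Classical.LinearBasic

/-!
Iterated wreath products as Sylow 2-subgroups of `GL`, and their normalisers.
-/

set_option autoImplicit false

namespace Cfsg.Agent.OddIndex

open Matrix
open scoped commutatorElement

section General

variable {G : Type*} [Group G]

/-- Every prime-power part in a subgroup implies membership. -/
theorem mem_of_primeParts (Z : Subgroup G) (m : ℕ) : ∀ g : G, g ^ m = 1 →
    (∀ (r k j : ℕ), r.Prime → r ∣ m → (g ^ j) ^ r ^ k = 1 → g ^ j ∈ Z) → m ≠ 0 → g ∈ Z := by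
  induction m using Nat.recOnPosPrimePosCoprime with
  | prime_pow r k hr hk =>
    intro g hg h _
    simpa using h r k 1 hr (dvd_pow_self r (by omega)) (by simpa using hg)
  | zero => intro g _ _ h; exact absurd rfl h
  | one => intro g hg _ _; rw [pow_one] at hg; rw [hg]; exact one_mem _
  | coprime a b ha hb hab iha ihb =>
    intro g hg h _
    have h1 : g ^ b ∈ Z := iha (g ^ b) (by rw [← pow_mul, mul_comm, hg]) (fun r k j hr hd e => by
      rw [← pow_mul g b j] at e ⊢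
      exact h r k (b * j) hr (dvd_mul_of_dvd_left hd b) e) (by omega)
    have h2 : g ^ a ∈ Z := ihb (g ^ a) (by rw [← pow_mul, hg]) (fun r k j hr hd e => by
      rw [← pow_mul g a j] at e ⊢
      exact h r k (a * j) hr (dvd_mul_of_dvd_right hd a) e) (by omega)
    have e : g = (g ^ a) ^ (Nat.gcdA a b) * (g ^ b) ^ (Nat.gcdB a b) := by
      rw [← zpow_natCast g a, ← zpow_natCast g b, ← _root_.zpow_mul, ← _root_.zpow_mul, ← _root_.zpow_add,
        ← Nat.gcd_eq_gcd_ab, hab.gcd_eq_one, Nat.cast_one, zpow_one]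
    rw [e]
    exact mul_mem (zpow_mem h2 _) (zpow_mem h1 _)

theorem eq_one_of_odd_two {g : G} {m k : ℕ} (hm : Odd m) (h1 : g ^ m = 1) (h2 : g ^ 2 ^ k = 1) : g = 1 :=
  orderOf_eq_one_iff.1 <| Nat.eq_one_of_dvd_coprimes
    (((Nat.coprime_two_left.2 hm).pow_left k).symm) (orderOf_dvd_of_pow_eq_one h1) (orderOf_dvd_of_pow_eq_one h2)

variable [Finite G]

/-- An element normalising a Sylow 2-subgroup is a product of an element of it and a power of odd order. -/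
theorem exists_odd_part' (M T : Subgroup G) (hle : T ≤ M) (hT2 : IsPGroup 2 T)
    (hmax : ∀ S : Subgroup G, T ≤ S → S ≤ M → IsPGroup 2 S → S = T) {g : G} (hgM : g ∈ M)
    (hg : ∀ t ∈ T, g * t * g⁻¹ ∈ T) :
    ∃ t ∈ T, ∃ z ∈ Subgroup.zpowers g, Odd (orderOf z) ∧ (∀ t ∈ T, z * t * z⁻¹ ∈ T) ∧ g = t * z := by
  have hgN : g ∈ Subgroup.normalizer ((T : Subgroup G) : Set G) := by
    rw [Subgroup.mem_normalizer_iff]
    refine fun x => ⟨fun hx => hg x hx, fun hx => ?_⟩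
    have hmap : ∀ k : ℕ, ∀ t ∈ T, g ^ k * t * (g ^ k)⁻¹ ∈ T := by
      intro k
      induction k with
      | zero => intro t ht; simpa using ht
      | succ k ih =>
        intro t ht
        have := hg _ (ih t ht)
        convert this using 1
        rw [pow_succ']; group
    have h := hmap (orderOf g - 1) _ hx
    have he : g ^ (orderOf g - 1) = g⁻¹ := by
      rw [eq_inv_iff_mul_eq_one, ← pow_succ, Nat.sub_add_cancel (orderOf_pos g), pow_orderOf_eq_one]
    rw [he] at h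
    exact (by simpa [mul_assoc] using h : x ∈ T)
  have hpow : ∀ k : ℕ, ∀ t ∈ T, g ^ k * t * (g ^ k)⁻¹ ∈ T := fun k t ht =>
    ((Subgroup.mem_normalizer_iff.1 (pow_mem hgN k)) t).1 ht
  obtain ⟨k, r, hr, hkr⟩ := Nat.exists_eq_pow_mul_and_not_dvd (orderOf_pos g).ne' 2 (by norm_num)
  have hrodd : Odd r := by rw [← Nat.not_even_iff_odd, even_iff_two_dvd]; exact hr
  have hzodd : Odd (orderOf (g ^ 2 ^ k)) := hrodd.of_dvd_nat (orderOf_dvd_of_pow_eq_one
    (by rw [← pow_mul, ← hkr, pow_orderOf_eq_one]))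
  have ht : g ^ r ∈ T := by
    have h2 : (g ^ r) ^ 2 ^ k = 1 := by rw [← pow_mul, mul_comm, ← hkr, pow_orderOf_eq_one]
    have hpz : IsPGroup 2 (Subgroup.zpowers (g ^ r)) := by
      intro a
      refine ⟨k, Subtype.ext ?_⟩
      obtain ⟨j, hj⟩ := a.2
      change (g ^ r) ^ j = a.1 at hj
      rw [Subgroup.coe_pow, Subgroup.coe_one, ← hj, ← zpow_natCast, ← _root_.zpow_mul, mul_comm,
        _root_.zpow_mul, zpow_natCast, h2, _root_.one_zpow]
    have hP : IsPGroup 2 ↥(Subgroup.zpowers (g ^ r) ⊔ T) :=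
      IsPGroup.to_sup_of_normal_right' hpz hT2
        (Subgroup.zpowers_le.2 (pow_mem hgN r))
    rw [← hmax _ le_sup_right (sup_le (Subgroup.zpowers_le.2 (pow_mem hgM r)) hle) hP]
    exact Subgroup.mem_sup_left (Subgroup.mem_zpowers _)
  have hcop : Nat.gcd r (2 ^ k) = 1 := ((Nat.coprime_two_right.2 hrodd).pow_right k).gcd_eq_one
  have e : g = (g ^ r) ^ (Nat.gcdA r (2 ^ k)) * (g ^ 2 ^ k) ^ (Nat.gcdB r (2 ^ k)) := by
    rw [← zpow_natCast g r, ← zpow_natCast g (2 ^ k), ← _root_.zpow_mul, ← _root_.zpow_mul, ← _root_.zpow_add,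
      ← Nat.gcd_eq_gcd_ab, hcop, Nat.cast_one, zpow_one]
  refine ⟨_, zpow_mem ht _, _, zpow_mem (pow_mem (Subgroup.mem_zpowers g) _) _, ?_, fun t htm => ?_, e⟩
  · obtain ⟨c, hc⟩ : orderOf ((g ^ 2 ^ k) ^ (Nat.gcdB r (2 ^ k))) ∣ orderOf (g ^ 2 ^ k) :=
      orderOf_dvd_of_mem_zpowers (zpow_mem (Subgroup.mem_zpowers _) _)
    exact (Nat.odd_mul.1 (hc ▸ hzodd)).1
  · exact (Subgroup.mem_normalizer_iff.1 (zpow_mem (pow_mem hgN _) _) t).1 htm

theorem exists_odd_part (T : Sylow 2 G) {g : G} (hg : ∀ t ∈ T, g * t * g⁻¹ ∈ T) :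
    ∃ t ∈ T, ∃ z ∈ Subgroup.zpowers g, Odd (orderOf z) ∧ (∀ t ∈ T, z * t * z⁻¹ ∈ T) ∧ g = t * z :=
  exists_odd_part' ⊤ (T : Subgroup G) le_top T.2 (fun _ h _ h' => T.3 h' h) (Subgroup.mem_top g) hg

/-- `g` normalises the Sylow subgroup: `g` is a product of an element of it and an element of `Z`. -/
theorem exists_mul_of_normalizes (T : Sylow 2 G) (Z : Subgroup G)
    (hodd : ∀ g : G, Odd (orderOf g) → (∀ t ∈ T, g * t * g⁻¹ ∈ T) → g ∈ Z) {g : G}
    (hg : ∀ t ∈ T, g * t * g⁻¹ ∈ T) :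
    ∃ t ∈ T, ∃ z ∈ Z, g = t * z := by
  obtain ⟨t, ht, z, -, hz1, hz2, e⟩ := exists_odd_part T hg
  exact ⟨t, ht, z, hodd z hz1 hz2, e⟩

end General

variable {F : Type*} [Field F] [Finite F] {ι : Type*} [Fintype ι] [DecidableEq ι]

variable (F ι) in
/-- Scalars. -/
def scal : Fˣ →* GL ι F := Units.map (Matrix.scalar ι).toMonoidHom

omit [Finite F] in
theorem coe_scal (c : Fˣ) : (scal F ι c : Matrix ι ι F) = (c : F) • 1 := by
  simp [scal, Matrix.scalar_apply, Matrix.smul_one_eq_diagonal]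

omit [Finite F] in
theorem scal_comm (c : Fˣ) (g : GL ι F) : scal F ι c * g = g * scal F ι c := by
  ext1
  simp [coe_scal]

omit [Finite F] in
theorem scal_injective [Nonempty ι] : Function.Injective (scal F ι) := fun a b h => by
  obtain ⟨i⟩ := ‹Nonempty ι›
  have := congrFun (congrFun (congrArg (fun g : GL ι F => (g : Matrix ι ι F)) h) i) i
  simpa [coe_scal, Units.ext_iff] using this

/-- The properties carried through the induction. -/
structure Good (M T : Subgroup (GL ι F)) : Prop where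
  le : T ≤ M
  two : IsPGroup 2 T
  max : ∀ S : Subgroup (GL ι F), T ≤ S → S ≤ M → IsPGroup 2 S → S = T
  neg : scal F ι (-1) ∈ M
  odd : ∀ g ∈ M, Odd (orderOf g) → (∀ t ∈ T, g * t * g⁻¹ ∈ T) → g ∈ (scal F ι).range
  span : Submodule.span F
    {M : Matrix ι ι F | ∃ t ∈ T, Matrix.GeneralLinearGroup.det t = 1 ∧ (t : Matrix ι ι F) = M} = ⊤
  nc : ∃ t ∈ T, ∃ u ∈ T, Matrix.GeneralLinearGroup.det t = 1 ∧ Matrix.GeneralLinearGroup.det u = 1 ∧
    t * u ≠ u * t

theorem scal_mem_sylow {M T : Subgroup (GL ι F)} (hG : Good M T) {c : Fˣ} {k : ℕ} (hc : c ^ 2 ^ k = 1)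
    (hcM : scal F ι c ∈ M) : scal F ι c ∈ T := by
  have h2 : (scal F ι c) ^ 2 ^ k = 1 := by rw [← map_pow, hc, map_one]
  have hpz : IsPGroup 2 (Subgroup.zpowers (scal F ι c)) := by
    intro a
    refine ⟨k, Subtype.ext ?_⟩
    obtain ⟨j, hj⟩ := a.2
    change (scal F ι c) ^ j = a.1 at hj
    rw [Subgroup.coe_pow, Subgroup.coe_one, ← hj, ← zpow_natCast, ← _root_.zpow_mul, mul_comm,
      _root_.zpow_mul, zpow_natCast, h2, _root_.one_zpow]
  have hn : Subgroup.zpowers (scal F ι c) ≤ Subgroup.normalizer (T : Set (GL ι F)) := by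
    refine Subgroup.zpowers_le.2 (Subgroup.mem_normalizer_iff.2 fun x => ?_)
    rw [scal_comm, mul_inv_cancel_right]
  rw [← hG.max _ le_sup_right (sup_le (Subgroup.zpowers_le.2 hcM) hG.le)
    (IsPGroup.to_sup_of_normal_right' hpz hG.two hn)]
  exact Subgroup.mem_sup_left (Subgroup.mem_zpowers _)

/-! ### Blocks -/

/-- Block diagonal. -/
def dg : GL ι F × GL ι F →* GL (ι ⊕ ι) F :=
  MonoidHom.toHomUnits
    { toFun := fun p => Matrix.fromBlocks (p.1 : Matrix ι ι F) 0 0 (p.2 : Matrix ι ι F)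
      map_one' := by simp [Matrix.fromBlocks_one]
      map_mul' := fun p q => by simp [Matrix.fromBlocks_multiply] }

omit [Finite F] in
theorem coe_dg (a b : GL ι F) :
    (dg (a, b) : Matrix (ι ⊕ ι) (ι ⊕ ι) F) = Matrix.fromBlocks (a : Matrix ι ι F) 0 0 (b : Matrix ι ι F) := rfl

omit [Finite F] in
theorem dg_injective : Function.Injective (dg (F := F) (ι := ι)) := by
  rintro ⟨a, b⟩ ⟨c, d⟩ h
  have h' := congrArg (fun g : GL (ι ⊕ ι) F => (g : Matrix (ι ⊕ ι) (ι ⊕ ι) F)) h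
  simp only [coe_dg, Matrix.fromBlocks_inj] at h'
  simp [Units.ext_iff, h'.1, h'.2.2.2]

/-- The block swap of determinant one. -/
def wsw : GL (ι ⊕ ι) F :=
  ⟨Matrix.fromBlocks (0 : Matrix ι ι F) (1 : Matrix ι ι F) (-1 : Matrix ι ι F) (0 : Matrix ι ι F),
    Matrix.fromBlocks (0 : Matrix ι ι F) (-1 : Matrix ι ι F) (1 : Matrix ι ι F) (0 : Matrix ι ι F),
    by simp [Matrix.fromBlocks_multiply, Matrix.fromBlocks_one],
    by simp [Matrix.fromBlocks_multiply, Matrix.fromBlocks_one]⟩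

omit [Finite F] in
theorem coe_wsw : ((wsw : GL (ι ⊕ ι) F) : Matrix (ι ⊕ ι) (ι ⊕ ι) F) = Matrix.fromBlocks 0 1 (-1) 0 := rfl

omit [Finite F] in
theorem wsw_dg (a b : GL ι F) : wsw * dg (a, b) = dg (b, a) * wsw := by
  ext1
  simp [coe_wsw, coe_dg, Matrix.fromBlocks_multiply]

omit [Finite F] in
theorem wsw_mul_wsw : (wsw * wsw : GL (ι ⊕ ι) F) = dg (scal F ι (-1), scal F ι (-1)) := by
  ext1
  simp [coe_wsw, coe_dg, coe_scal, Matrix.fromBlocks_multiply]

omit [Finite F] in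
theorem det_dg (a b : GL ι F) :
    Matrix.GeneralLinearGroup.det (dg (a, b)) =
      Matrix.GeneralLinearGroup.det a * Matrix.GeneralLinearGroup.det b := by
  ext1
  simp [coe_dg, Matrix.det_fromBlocks_zero₂₁]

omit [Finite F] in
theorem det_wsw : Matrix.GeneralLinearGroup.det (wsw : GL (ι ⊕ ι) F) = 1 := by
  ext1
  have e : Matrix.fromBlocks (0 : Matrix ι ι F) 1 (-1) 0 =
      Matrix.fromBlocks (1 : Matrix ι ι F) (1 : Matrix ι ι F) (0 : Matrix ι ι F) (1 : Matrix ι ι F) *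
        Matrix.fromBlocks (1 : Matrix ι ι F) (0 : Matrix ι ι F) (-1 : Matrix ι ι F) (1 : Matrix ι ι F) *
        Matrix.fromBlocks (1 : Matrix ι ι F) (1 : Matrix ι ι F) (0 : Matrix ι ι F) (1 : Matrix ι ι F) := by
    simp [Matrix.fromBlocks_multiply]
  rw [Matrix.GeneralLinearGroup.val_det_apply, coe_wsw, e, Matrix.det_mul, Matrix.det_mul]
  simp [Matrix.det_fromBlocks_zero₂₁, Matrix.det_fromBlocks_zero₁₂]

omit [Finite F] in
theorem not_dg_eq_dg_wsw [Nonempty ι] (a b c d : GL ι F) : dg (a, b) ≠ dg (c, d) * wsw := by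
  intro h
  have h' := congrArg (fun g : GL (ι ⊕ ι) F => (g : Matrix (ι ⊕ ι) (ι ⊕ ι) F)) h
  simp only [Units.val_mul, coe_dg, coe_wsw, Matrix.fromBlocks_multiply, Matrix.fromBlocks_inj] at h'
  have := a.ne_zero
  exact this (by simpa using h'.1)

omit [Finite F] in
theorem scal_sum (c : Fˣ) : scal F (ι ⊕ ι) c = dg (scal F ι c, scal F ι c) := by
  ext1
  simp [coe_scal, coe_dg, ← Matrix.fromBlocks_one, Matrix.fromBlocks_smul]

variable {M T : Subgroup (GL ι F)} (hG : Good M T)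
include hG

/-- The wreath product with a cyclic group of order two. -/
def wreath : Subgroup (GL (ι ⊕ ι) F) where
  carrier := {g | ∃ a ∈ T, ∃ b ∈ T, g = dg (a, b) ∨ g = dg (a, b) * wsw}
  one_mem' := ⟨1, one_mem _, 1, one_mem _, Or.inl (map_one dg).symm⟩
  mul_mem' := by
    have hm : scal F ι (-1) ∈ T := scal_mem_sylow hG (k := 1) (by simp) hG.neg
    rintro _ _ ⟨a, ha, b, hb, rfl | rfl⟩ ⟨c, hc, d, hd, rfl | rfl⟩
    · exact ⟨_, mul_mem ha hc, _, mul_mem hb hd, Or.inl (by rw [← map_mul]; rfl)⟩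
    · exact ⟨_, mul_mem ha hc, _, mul_mem hb hd, Or.inr (by rw [← mul_assoc, ← map_mul]; rfl)⟩
    · exact ⟨_, mul_mem ha hd, _, mul_mem hb hc, Or.inr (by rw [mul_assoc, wsw_dg, ← mul_assoc, ← map_mul]; rfl)⟩
    · refine ⟨_, mul_mem (mul_mem ha hd) hm, _, mul_mem (mul_mem hb hc) hm, Or.inl ?_⟩
      rw [mul_assoc, ← mul_assoc wsw, wsw_dg, mul_assoc, wsw_mul_wsw, ← mul_assoc, ← map_mul, ← map_mul]
      rfl
  inv_mem' := by
    have hm : scal F ι (-1) ∈ T := scal_mem_sylow hG (k := 1) (by simp) hG.neg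
    rintro _ ⟨a, ha, b, hb, rfl | rfl⟩
    · exact ⟨_, inv_mem ha, _, inv_mem hb, Or.inl (map_inv dg (a, b)).symm⟩
    · refine ⟨_, mul_mem (inv_mem hb) (inv_mem hm), _, mul_mem (inv_mem ha) (inv_mem hm), Or.inr ?_⟩
      apply inv_eq_of_mul_eq_one_right
      rw [mul_assoc, ← mul_assoc wsw, wsw_dg, mul_assoc, wsw_mul_wsw, ← map_mul, ← map_mul]
      simp
      exact map_one dg

theorem dg_mem {a b : GL ι F} (ha : a ∈ T) (hb : b ∈ T) : dg (a, b) ∈ wreath hG :=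
  ⟨a, ha, b, hb, Or.inl rfl⟩

theorem wsw_mem : wsw ∈ wreath hG := ⟨1, one_mem _, 1, one_mem _, Or.inr (by rw [show dg ((1 : GL ι F), (1 : GL ι F)) = 1 from map_one dg, one_mul])⟩

theorem isPGroup_wreath [Nonempty ι] : IsPGroup 2 (wreath hG) := by
  intro g
  obtain ⟨a, ha, b, hb, he⟩ := (g ^ 2).2
  rcases he with he | he
  · obtain ⟨i, hi⟩ := hG.two ⟨a, ha⟩
    obtain ⟨j, hj⟩ := hG.two ⟨b, hb⟩
    refine ⟨i + j + 1, Subtype.ext ?_⟩
    have hi' : a ^ 2 ^ i = 1 := congrArg Subtype.val hi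
    have hj' : b ^ 2 ^ j = 1 := congrArg Subtype.val hj
    rw [Subgroup.coe_pow] at he
    rw [Subgroup.coe_pow, Subgroup.coe_one, pow_succ', pow_mul, he, ← map_pow, Prod.pow_mk, pow_add, pow_mul,
      hi', one_pow, mul_comm, pow_mul, hj', one_pow]
    exact map_one dg
  · exfalso
    obtain ⟨c, hc, d, hd, e⟩ := g.2
    rw [Subgroup.coe_pow, pow_two] at he
    rcases e with e | e
    · rw [e, ← map_mul] at he
      exact not_dg_eq_dg_wsw _ _ _ _ he
    · rw [e, mul_assoc, ← mul_assoc wsw, wsw_dg, mul_assoc, wsw_mul_wsw, ← map_mul, ← map_mul] at he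
      exact not_dg_eq_dg_wsw _ _ _ _ he

omit hG [Finite F] in
theorem mul_mem_span (S : Set (Matrix ι ι F)) (hS : ∀ x ∈ S, ∀ y ∈ S, x * y ∈ S) {x y : Matrix ι ι F}
    (hx : x ∈ Submodule.span F S) (hy : y ∈ Submodule.span F S) : x * y ∈ Submodule.span F S := by
  induction hx using Submodule.span_induction with
  | mem a ha =>
    induction hy using Submodule.span_induction with
    | mem b hb => exact Submodule.subset_span (hS a ha b hb)
    | zero => simp
    | add b c _ _ hb hc => rw [mul_add]; exact add_mem hb hc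
    | smul r b _ hb => rw [mul_smul_comm]; exact Submodule.smul_mem _ r hb
  | zero => simp
  | add a b _ _ ha hb => rw [add_mul]; exact add_mem ha hb
  | smul r a _ ha => rw [smul_mul_assoc]; exact Submodule.smul_mem _ r ha

omit hG [Finite F] in
theorem top_of_two_sided (S : Submodule F (Matrix ι ι F)) (N : Matrix ι ι F) (hN : N ≠ 0)
    (h : ∀ A B : Matrix ι ι F, A * N * B ∈ S) : S = ⊤ := by
  obtain ⟨a, b, hab⟩ : ∃ a b, N a b ≠ 0 := by
    by_contra hc
    push Not at hc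
    exact hN (Matrix.ext hc)
  rw [eq_top_iff]
  intro M _
  rw [Matrix.matrix_eq_sum_single M]
  refine sum_mem fun i _ => sum_mem fun j _ => ?_
  have := h (Matrix.single i a (M i j / N a b)) (Matrix.single b j 1)
  rwa [Matrix.single_mul_mul_single, mul_one, div_mul_cancel₀ _ hab] at this

omit hG [Finite F] in
theorem isUnit_of_intertwine {a : Matrix ι ι F} (ha : a ≠ 0) (h : ∀ A, ∃ X, a * A = X * a) : IsUnit a := by
  refine Matrix.mulVec_injective_iff_isUnit.1 ((injective_iff_map_eq_zero a.mulVecLin).2 fun x hx => ?_)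
  rw [Matrix.mulVecLin_apply] at hx
  by_contra hx0
  obtain ⟨i, hi⟩ := Function.ne_iff.1 hx0
  apply ha
  ext r j
  obtain ⟨X, hX⟩ := h (Matrix.single j i 1)
  have h1 : a *ᵥ (Matrix.single j i (1 : F) *ᵥ x) = 0 := by
    rw [Matrix.mulVec_mulVec, hX, ← Matrix.mulVec_mulVec, hx, Matrix.mulVec_zero]
  have h3 : Matrix.single j i (1 : F) *ᵥ x = Pi.single j (x i) := by
    funext b
    rcases eq_or_ne b j with rfl | hb <;> simp [Matrix.single_mulVec, *]
  rw [h3] at h1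
  have hi' : x i ≠ 0 := hi
  simpa [hi'] using congrFun h1 r

omit hG [Finite F] in
theorem blocks_of_conj [Nonempty ι] (g : GL (ι ⊕ ι) F)
    (h : ∀ A B : Matrix ι ι F, ∃ X Y : Matrix ι ι F,
      (g : Matrix (ι ⊕ ι) (ι ⊕ ι) F) * Matrix.fromBlocks A 0 0 B =
        Matrix.fromBlocks X 0 0 Y * (g : Matrix (ι ⊕ ι) (ι ⊕ ι) F)) :
    ∃ a b : GL ι F, g = dg (a, b) ∨ g = dg (a, b) * wsw := by
  set M : Matrix (ι ⊕ ι) (ι ⊕ ι) F := (g : Matrix (ι ⊕ ι) (ι ⊕ ι) F) with hM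
  have h' : ∀ A B : Matrix ι ι F, ∃ X Y : Matrix ι ι F, M.toBlocks₁₁ * A = X * M.toBlocks₁₁ ∧
      M.toBlocks₁₂ * B = X * M.toBlocks₁₂ ∧ M.toBlocks₂₁ * A = Y * M.toBlocks₂₁ ∧
      M.toBlocks₂₂ * B = Y * M.toBlocks₂₂ := by
    intro A B
    obtain ⟨X, Y, e⟩ := h A B
    rw [← Matrix.fromBlocks_toBlocks M, Matrix.fromBlocks_multiply, Matrix.fromBlocks_multiply,
      Matrix.fromBlocks_inj] at e
    simp only [Matrix.mul_zero, Matrix.zero_mul, add_zero, zero_add] at e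
    exact ⟨X, Y, e⟩
  have hrow : ∀ (p q : Matrix ι ι F), (∀ A B, ∃ X, p * A = X * p ∧ q * B = X * q) → p = 0 ∨ q = 0 := by
    intro p q hpq
    by_contra hc
    push Not at hc
    obtain ⟨U, hU⟩ := isUnit_of_intertwine hc.1 fun A => by
      obtain ⟨X, e, -⟩ := hpq A 0; exact ⟨X, e⟩
    obtain ⟨X, e1, e2⟩ := hpq 1 0
    have hX : X = 1 := by
      rw [mul_one, ← hU] at e1
      exact (U.isUnit.mul_eq_right).1 e1.symm
    rw [hX, one_mul, mul_zero] at e2
    exact hc.2 e2.symm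
  have hr1 := hrow M.toBlocks₁₁ M.toBlocks₁₂ fun A B => by
    obtain ⟨X, Y, e1, e2, -, -⟩ := h' A B; exact ⟨X, e1, e2⟩
  have hr2 := hrow M.toBlocks₂₁ M.toBlocks₂₂ fun A B => by
    obtain ⟨X, Y, -, -, e1, e2⟩ := h' A B; exact ⟨Y, e1, e2⟩
  have hunit : IsUnit M.det := (Matrix.isUnit_iff_isUnit_det _).1 g.isUnit
  obtain ⟨i⟩ := ‹Nonempty ι›
  rcases hr1 with e1 | e1 <;> rcases hr2 with e2 | e2
  · exfalso
    refine hunit.ne_zero (Matrix.det_eq_zero_of_column_eq_zero (Sum.inl i) fun j => ?_)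
    rcases j with j | j
    · exact congrFun (congrFun e1 j) i
    · exact congrFun (congrFun e2 j) i
  · have hM' : M = Matrix.fromBlocks 0 M.toBlocks₁₂ M.toBlocks₂₁ 0 := by
      conv_lhs => rw [← Matrix.fromBlocks_toBlocks M, e1, e2]
    have hb : IsUnit M.toBlocks₁₂ := isUnit_of_intertwine (fun hz => hunit.ne_zero
      (Matrix.det_eq_zero_of_row_eq_zero (Sum.inl i) fun j => by
        rcases j with j | j
        · exact congrFun (congrFun e1 i) j
        · exact congrFun (congrFun hz i) j)) fun B => by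
      obtain ⟨X, Y, -, e, -, -⟩ := h' 0 B; exact ⟨X, e⟩
    have hc : IsUnit (-M.toBlocks₂₁) := (isUnit_of_intertwine (fun hz => hunit.ne_zero
      (Matrix.det_eq_zero_of_row_eq_zero (Sum.inr i) fun j => by
        rcases j with j | j
        · exact congrFun (congrFun hz i) j
        · exact congrFun (congrFun e2 i) j)) fun A => by
      obtain ⟨X, Y, -, -, e, -⟩ := h' A 0; exact ⟨Y, e⟩).neg
    refine ⟨hb.unit, hc.unit, Or.inr (Units.ext ?_)⟩
    rw [Units.val_mul, coe_dg, coe_wsw, Matrix.fromBlocks_multiply]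
    simp [← hM, ← hM']
  · have hM' : M = Matrix.fromBlocks M.toBlocks₁₁ 0 0 M.toBlocks₂₂ := by
      conv_lhs => rw [← Matrix.fromBlocks_toBlocks M, e1, e2]
    have hb : IsUnit M.toBlocks₁₁ := isUnit_of_intertwine (fun hz => hunit.ne_zero
      (Matrix.det_eq_zero_of_row_eq_zero (Sum.inl i) fun j => by
        rcases j with j | j
        · exact congrFun (congrFun hz i) j
        · exact congrFun (congrFun e1 i) j)) fun A => by
      obtain ⟨X, Y, e, -, -, -⟩ := h' A 0; exact ⟨X, e⟩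
    have hc : IsUnit M.toBlocks₂₂ := isUnit_of_intertwine (fun hz => hunit.ne_zero
      (Matrix.det_eq_zero_of_row_eq_zero (Sum.inr i) fun j => by
        rcases j with j | j
        · exact congrFun (congrFun e2 i) j
        · exact congrFun (congrFun hz i) j)) fun B => by
      obtain ⟨X, Y, -, -, -, e⟩ := h' 0 B; exact ⟨Y, e⟩
    refine ⟨hb.unit, hc.unit, Or.inl (Units.ext ?_)⟩
    simp [← hM, coe_dg, ← hM']
  · exfalso
    refine hunit.ne_zero (Matrix.det_eq_zero_of_column_eq_zero (Sum.inr i) fun j => ?_)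
    rcases j with j | j
    · exact congrFun (congrFun e1 j) i
    · exact congrFun (congrFun e2 j) i


/-- The determinant-one part of the wreath product. -/
def wreath0 : Subgroup (GL (ι ⊕ ι) F) :=
  wreath hG ⊓ (Matrix.GeneralLinearGroup.det : GL (ι ⊕ ι) F →* Fˣ).ker

theorem dg_mem0 {a b : GL ι F} (ha : a ∈ T) (hb : b ∈ T)
    (h : Matrix.GeneralLinearGroup.det a * Matrix.GeneralLinearGroup.det b = 1) : dg (a, b) ∈ wreath0 hG :=
  ⟨dg_mem hG ha hb, MonoidHom.mem_ker.2 (by rw [det_dg, h])⟩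

theorem wsw_mem0 : wsw ∈ wreath0 hG := ⟨wsw_mem hG, det_wsw⟩

theorem commutator_mem_dg [Nonempty ι] {x y : GL (ι ⊕ ι) F} (hx : x ∈ wreath hG) (hy : y ∈ wreath hG) :
    ∃ a ∈ T, ∃ b ∈ T, ⁅x, y⁆ = dg (a, b) := by
  have h := mul_mem (mul_mem (mul_mem hx hy) (inv_mem hx)) (inv_mem hy)
  obtain ⟨a, ha, b, hb, e | e⟩ := h
  · exact ⟨a, ha, b, hb, e⟩
  exfalso
  let D : Subgroup (GL (ι ⊕ ι) F) := (dg (F := F) (ι := ι)).range
  have hn : ∀ z, wsw * z * wsw⁻¹ ∈ D ↔ z ∈ D := by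
    intro z
    constructor
    · rintro ⟨⟨c, d⟩, hcd⟩
      refine ⟨(d, c), ?_⟩
      have : z = wsw⁻¹ * dg (c, d) * wsw := by rw [hcd]; group
      rw [this, mul_assoc, ← wsw_dg, inv_mul_cancel_left]
    · rintro ⟨⟨c, d⟩, rfl⟩
      exact ⟨(d, c), by rw [wsw_dg, mul_inv_cancel_right]⟩
  have hw2 : wsw * wsw ∈ D := ⟨_, wsw_mul_wsw.symm⟩
  -- parity: every element is in `D` or in `D * wsw`
  have par : ∀ z ∈ wreath hG, z ∈ D ∨ z * wsw⁻¹ ∈ D := by
    rintro _ ⟨c, -, d, -, rfl | rfl⟩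
    · exact Or.inl ⟨_, rfl⟩
    · exact Or.inr ⟨(c, d), by rw [mul_inv_cancel_right]⟩
  have key : ⁅x, y⁆ ∈ D := by
    rw [commutatorElement_def]
    have hconj : ∀ z ∈ D, wsw⁻¹ * z * wsw ∈ D := fun z hz => (hn _).1 (by convert hz using 1; group)
    rcases par x hx with h1 | h1 <;> rcases par y hy with h2 | h2
    · exact mul_mem (mul_mem (mul_mem h1 h2) (inv_mem h1)) (inv_mem h2)
    · have := mul_mem (mul_mem h1 ((hn _).2 (inv_mem h1))) (one_mem D)
      have e3 : x * y * x⁻¹ * y⁻¹ = (x * (y * wsw⁻¹)) * (wsw * x⁻¹ * wsw⁻¹) * (y * wsw⁻¹)⁻¹ := by group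
      rw [e3]
      exact mul_mem (mul_mem (mul_mem h1 h2) ((hn _).2 (inv_mem h1))) (inv_mem h2)
    · have e3 : x * y * x⁻¹ * y⁻¹ = (x * wsw⁻¹) * (wsw * y * wsw⁻¹) * (x * wsw⁻¹)⁻¹ * y⁻¹ := by group
      rw [e3]
      exact mul_mem (mul_mem (mul_mem h1 ((hn _).2 h2)) (inv_mem h1)) (inv_mem h2)
    · have e3 : x * y * x⁻¹ * y⁻¹ = (x * wsw⁻¹) * (wsw * (y * wsw⁻¹) * wsw⁻¹) * (wsw * wsw) *
          (wsw⁻¹ * (x * wsw⁻¹)⁻¹ * wsw) * (wsw * wsw)⁻¹ * (y * wsw⁻¹)⁻¹ := by group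
      rw [e3]
      exact mul_mem (mul_mem (mul_mem (mul_mem (mul_mem h1 ((hn _).2 h2)) hw2) (hconj _ (inv_mem h1)))
        (inv_mem hw2)) (inv_mem h2)
  obtain ⟨⟨c, d⟩, hcd⟩ := key
  exact not_dg_eq_dg_wsw c d a b (hcd.trans e)

theorem spans {E : Submodule F (Matrix (ι ⊕ ι) (ι ⊕ ι) F)}
    (hE : ∀ t ∈ T, ∀ u ∈ T, ∀ s ∈ T, ∀ v ∈ T, Matrix.GeneralLinearGroup.det t = 1 →
      Matrix.GeneralLinearGroup.det u = 1 → Matrix.GeneralLinearGroup.det s = 1 →
      Matrix.GeneralLinearGroup.det v = 1 →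
      Matrix.fromBlocks ((s : Matrix ι ι F) * ((⁅t, u⁆ : GL ι F) - 1 : Matrix ι ι F) * (v : Matrix ι ι F)) 0 0 0 ∈ E ∧
      Matrix.fromBlocks 0 0 0 ((s : Matrix ι ι F) * ((⁅t, u⁆ : GL ι F) - 1 : Matrix ι ι F) * (v : Matrix ι ι F)) ∈ E)
    (A B : Matrix ι ι F) : Matrix.fromBlocks A 0 0 B ∈ E := by
  obtain ⟨t, ht, u, hu, dt, du, htu⟩ := hG.nc
  set N : Matrix ι ι F := ((⁅t, u⁆ : GL ι F) : Matrix ι ι F) - 1 with hN
  have hN0 : N ≠ 0 := fun h => htu (by
    rw [hN, sub_eq_zero] at h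
    exact commutatorElement_eq_one_iff_mul_comm.1 (Units.ext h))
  have key : ∀ (φ : Matrix ι ι F →ₗ[F] Matrix (ι ⊕ ι) (ι ⊕ ι) F),
      (∀ s ∈ T, ∀ v ∈ T, Matrix.GeneralLinearGroup.det s = 1 → Matrix.GeneralLinearGroup.det v = 1 →
        φ ((s : Matrix ι ι F) * N * (v : Matrix ι ι F)) ∈ E) → ∀ A, φ A ∈ E := by
    intro φ hφ A
    have h : E.comap φ = ⊤ := top_of_two_sided _ N hN0 fun A B => by
      have hA : A ∈ Submodule.span F _ := (hG.span ▸ Submodule.mem_top :)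
      have hB : B ∈ Submodule.span F _ := (hG.span ▸ Submodule.mem_top :)
      induction hA using Submodule.span_induction with
      | mem a ha =>
        obtain ⟨s, hs, ds, rfl⟩ := ha
        induction hB using Submodule.span_induction with
        | mem b hb =>
          obtain ⟨v, hv, dv, rfl⟩ := hb
          exact hφ s hs v hv ds dv
        | zero => simp
        | add b c _ _ h1 h2 => rw [mul_add]; exact add_mem h1 h2
        | smul r b _ h1 => rw [mul_smul_comm]; exact Submodule.smul_mem _ r h1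
      | zero => simp
      | add a b _ _ h1 h2 => rw [add_mul, add_mul]; exact add_mem h1 h2
      | smul r a _ h1 => rw [smul_mul_assoc, smul_mul_assoc]; exact Submodule.smul_mem _ r h1
    exact (Submodule.eq_top_iff'.1 h A :)
  have h1 := key
    { toFun := fun A => Matrix.fromBlocks A 0 0 0
      map_add' := fun A B => by simp [Matrix.fromBlocks_add]
      map_smul' := fun r A => by simp [Matrix.fromBlocks_smul] }
    (fun s hs v hv ds dv => (hE t ht u hu s hs v hv dt du ds dv).1) A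
  have h2 := key
    { toFun := fun A => Matrix.fromBlocks 0 0 0 A
      map_add' := fun A B => by simp [Matrix.fromBlocks_add]
      map_smul' := fun r A => by simp [Matrix.fromBlocks_smul] }
    (fun s hs v hv ds dv => (hE t ht u hu s hs v hv dt du ds dv).2) B
  simpa [Matrix.fromBlocks_add] using add_mem h1 h2

/-- The span of the commutator group of the determinant-one part contains every block diagonal matrix. -/
theorem blocks_mem_span (A B : Matrix ι ι F) :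
    Matrix.fromBlocks A 0 0 B ∈ Submodule.span F
      ((fun g : GL (ι ⊕ ι) F => (g : Matrix (ι ⊕ ι) (ι ⊕ ι) F)) '' ((⁅wreath0 hG, wreath0 hG⁆ : Subgroup (GL (ι ⊕ ι) F)) : Set (GL (ι ⊕ ι) F))) := by
  set Mg : Subgroup (GL (ι ⊕ ι) F) := ⁅wreath0 hG, wreath0 hG⁆ with hMg
  set S := (fun g : GL (ι ⊕ ι) F => (g : Matrix (ι ⊕ ι) (ι ⊕ ι) F)) '' (Mg : Set _) with hS
  have hmul : ∀ x ∈ S, ∀ y ∈ S, x * y ∈ S := by
    rintro _ ⟨x, hx, rfl⟩ _ ⟨y, hy, rfl⟩
    exact ⟨x * y, mul_mem hx hy, rfl⟩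
  have hpair : ∀ s ∈ T, Matrix.GeneralLinearGroup.det s = 1 → dg (s, s⁻¹) ∈ Mg := by
    intro s hs ds
    have := Subgroup.commutator_mem_commutator (dg_mem0 hG hs (one_mem T) (by rw [ds, map_one, one_mul]))
      (wsw_mem0 hG)
    convert this using 1
    rw [commutatorElement_def, mul_assoc _ wsw, ← map_inv, wsw_dg, ← mul_assoc, mul_inv_cancel_right, ← map_mul]
    simp
  have hcomm : ∀ t ∈ T, ∀ u ∈ T, Matrix.GeneralLinearGroup.det t = 1 → Matrix.GeneralLinearGroup.det u = 1 →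
      dg (⁅t, u⁆, 1) ∈ Mg ∧ dg (1, ⁅t, u⁆) ∈ Mg := by
    intro t ht u hu dt du
    constructor
    · have := Subgroup.commutator_mem_commutator (dg_mem0 hG ht (one_mem T) (by rw [dt, map_one, one_mul]))
        (dg_mem0 hG hu (one_mem T) (by rw [du, map_one, one_mul]))
      rwa [← map_commutatorElement, show ⁅((t, 1) : GL ι F × GL ι F), ((u, 1) : GL ι F × GL ι F)⁆ = (⁅t, u⁆, 1) by
        simp [commutatorElement_def]] at this
    · have := Subgroup.commutator_mem_commutator (dg_mem0 hG (one_mem T) ht (by rw [dt, map_one, one_mul]))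
        (dg_mem0 hG (one_mem T) hu (by rw [du, map_one, one_mul]))
      rwa [← map_commutatorElement, show ⁅((1, t) : GL ι F × GL ι F), ((1, u) : GL ι F × GL ι F)⁆ = (1, ⁅t, u⁆) by
        simp [commutatorElement_def]] at this
  have hsub : ∀ g ∈ Mg, (g : Matrix (ι ⊕ ι) (ι ⊕ ι) F) ∈ Submodule.span F S := fun g hg =>
    Submodule.subset_span ⟨g, hg, rfl⟩
  refine spans hG (E := Submodule.span F S) (fun t ht u hu s hs v hv dt du ds dv => ?_) A B
  obtain ⟨c1, c2⟩ := hcomm t ht u hu dt du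
  have hd1 : ((dg (⁅t, u⁆, 1) : GL (ι ⊕ ι) F) : Matrix (ι ⊕ ι) (ι ⊕ ι) F) - 1 ∈ Submodule.span F S :=
    sub_mem (hsub _ c1) (by simpa using hsub 1 (one_mem _))
  have hd2 : ((dg (1, ⁅t, u⁆) : GL (ι ⊕ ι) F) : Matrix (ι ⊕ ι) (ι ⊕ ι) F) - 1 ∈ Submodule.span F S :=
    sub_mem (hsub _ c2) (by simpa using hsub 1 (one_mem _))
  constructor
  · have h := mul_mem_span S hmul (mul_mem_span S hmul (hsub _ (hpair s hs ds)) hd1) (hsub _ (hpair v hv dv))
    convert h using 1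
    simp [coe_dg, ← Matrix.fromBlocks_one, Matrix.fromBlocks_neg, sub_eq_add_neg, Matrix.fromBlocks_add, Matrix.fromBlocks_multiply]
  · have h := mul_mem_span S hmul (mul_mem_span S hmul (hsub _ (inv_mem (hpair s hs ds))) hd2)
      (hsub _ (inv_mem (hpair v hv dv)))
    convert h using 1
    simp [← map_inv, coe_dg, ← Matrix.fromBlocks_one, Matrix.fromBlocks_neg, sub_eq_add_neg, Matrix.fromBlocks_add, Matrix.fromBlocks_multiply]

/-- An element normalising a group between the two wreath products is monomial over the normaliser of `T`. -/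
theorem normalizes_blocks [Nonempty ι] {W' : Subgroup (GL (ι ⊕ ι) F)} (h0 : wreath0 hG ≤ W')
    (h1 : W' ≤ wreath hG) {g : GL (ι ⊕ ι) F} (hg : ∀ x ∈ W', g * x * g⁻¹ ∈ W') :
    ∃ a b : GL ι F, (g = dg (a, b) ∨ g = dg (a, b) * wsw) ∧
      (∀ t ∈ T, a * t * a⁻¹ ∈ T) ∧ (∀ t ∈ T, b * t * b⁻¹ ∈ T) := by
  set S := (fun g : GL (ι ⊕ ι) F => (g : Matrix (ι ⊕ ι) (ι ⊕ ι) F)) ''
      ((⁅wreath0 hG, wreath0 hG⁆ : Subgroup (GL (ι ⊕ ι) F)) : Set (GL (ι ⊕ ι) F)) with hS
  have hconjM : ∀ x ∈ ⁅wreath0 hG, wreath0 hG⁆, ∃ a ∈ T, ∃ b ∈ T, g * x * g⁻¹ = dg (a, b) := by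
    intro x hx
    have hmap : ⁅wreath0 hG, wreath0 hG⁆.map (MulAut.conj g).toMonoidHom ≤
        (dg (F := F) (ι := ι)).range ⊓ wreath hG := by
      rw [Subgroup.map_commutator, Subgroup.commutator_le]
      rintro _ ⟨p, hp, rfl⟩ _ ⟨r, hr, rfl⟩
      obtain ⟨a, ha, b, hb, e⟩ := commutator_mem_dg hG (h1 (hg p (h0 hp))) (h1 (hg r (h0 hr)))
      simp only [MulEquiv.coe_toMonoidHom, MulAut.conj_apply]
      exact ⟨⟨(a, b), e.symm⟩, e ▸ dg_mem hG ha hb⟩
    have := hmap (Subgroup.mem_map_of_mem _ hx)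
    simp only [MulEquiv.coe_toMonoidHom, MulAut.conj_apply, Subgroup.mem_inf, MonoidHom.mem_range] at this
    obtain ⟨⟨⟨a, b⟩, e⟩, c, hc, d, hd, e' | e'⟩ := this
    · exact ⟨c, hc, d, hd, e'⟩
    · exact absurd (e.trans e') (not_dg_eq_dg_wsw _ _ _ _)
  have hspan : ∀ M ∈ Submodule.span F S, ∃ X Y : Matrix ι ι F,
      (g : Matrix (ι ⊕ ι) (ι ⊕ ι) F) * M = Matrix.fromBlocks X 0 0 Y * (g : Matrix (ι ⊕ ι) (ι ⊕ ι) F) := by
    intro M hM
    induction hM using Submodule.span_induction with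
    | mem x hx =>
      obtain ⟨x, hx, rfl⟩ := hx
      obtain ⟨a, -, b, -, e⟩ := hconjM x hx
      refine ⟨a, b, ?_⟩
      rw [mul_inv_eq_iff_eq_mul] at e
      have := congrArg (fun z : GL (ι ⊕ ι) F => (z : Matrix (ι ⊕ ι) (ι ⊕ ι) F)) e
      simpa [coe_dg] using this
    | zero => exact ⟨0, 0, by simp⟩
    | add x y _ _ hx hy =>
      obtain ⟨X, Y, e⟩ := hx; obtain ⟨X', Y', e'⟩ := hy
      exact ⟨X + X', Y + Y', by rw [mul_add, e, e', ← add_mul, Matrix.fromBlocks_add]; simp⟩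
    | smul r x _ hx =>
      obtain ⟨X, Y, e⟩ := hx
      exact ⟨r • X, r • Y, by rw [mul_smul_comm, e, ← smul_mul_assoc, Matrix.fromBlocks_smul]; simp⟩
  obtain ⟨a, b, hab⟩ := blocks_of_conj g fun A B => hspan _ (blocks_mem_span hG A B)
  have hpair : ∀ t ∈ T, dg (t, t⁻¹) ∈ W' := fun t ht => h0 (dg_mem0 hG ht (inv_mem ht) (by simp))
  have hd : ∀ c d : GL ι F, dg (c, d) ∈ W' → c ∈ T ∧ d ∈ T := by
    intro c d hcd
    obtain ⟨x, hx, y, hy, e | e⟩ := h1 hcd
    · have := dg_injective e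
      simp only [Prod.mk.injEq] at this
      exact ⟨this.1 ▸ hx, this.2 ▸ hy⟩
    · exact absurd e (not_dg_eq_dg_wsw _ _ _ _)
  have hT : (∀ t ∈ T, a * t * a⁻¹ ∈ T) ∧ (∀ t ∈ T, b * t * b⁻¹ ∈ T) := by
    rcases hab with rfl | rfl
    · refine ⟨fun t ht => ?_, fun t ht => ?_⟩
      · have h := hg _ (hpair t ht)
        rw [← map_inv, ← map_mul, ← map_mul] at h
        exact (hd _ _ h).1
      · have h := hg _ (hpair t⁻¹ (inv_mem ht))
        rw [← map_inv, ← map_mul, ← map_mul, inv_inv] at h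
        exact (hd _ _ h).2
    · refine ⟨fun t ht => ?_, fun t ht => ?_⟩
      · have h := hg _ (hpair t⁻¹ (inv_mem ht))
        rw [_root_.mul_inv_rev, mul_assoc (dg (a, b)) wsw, wsw_dg, ← mul_assoc, ← mul_assoc, mul_inv_cancel_right,
          ← map_inv, ← map_mul, ← map_mul, inv_inv] at h
        exact (hd _ _ h).1
      · have h := hg _ (hpair t ht)
        rw [_root_.mul_inv_rev, mul_assoc (dg (a, b)) wsw, wsw_dg, ← mul_assoc, ← mul_assoc, mul_inv_cancel_right,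
          ← map_inv, ← map_mul, ← map_mul] at h
        exact (hd _ _ h).2
  exact ⟨a, b, hab, hT⟩

theorem odd_scalar [Nonempty ι] {M' W' : Subgroup (GL (ι ⊕ ι) F)}
    (hd : ∀ a b : GL ι F, dg (a, b) ∈ M' ↔ a ∈ M ∧ b ∈ M) (h0 : wreath0 hG ≤ W')
    (h1 : W' ≤ wreath hG) {g : GL (ι ⊕ ι) F} (hgM : g ∈ M') (hodd : Odd (orderOf g))
    (hg : ∀ x ∈ W', g * x * g⁻¹ ∈ W') :
    g ∈ (scal F (ι ⊕ ι)).range := by
  obtain ⟨a, b, hab, ha, hb⟩ := normalizes_blocks hG h0 h1 hg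
  have hge : g = dg (a, b) := by
    refine hab.resolve_right fun e => ?_
    have h2 : g * g = dg (a * b * scal F ι (-1), b * a * scal F ι (-1)) := by
      rw [e, mul_assoc, ← mul_assoc wsw, wsw_dg, mul_assoc, wsw_mul_wsw, ← map_mul, ← map_mul]
      simp [Prod.mk_mul_mk, mul_assoc]
    obtain ⟨k, hk⟩ := hodd
    have h3 := pow_orderOf_eq_one g
    rw [hk, pow_succ, pow_mul, pow_two, h2, ← map_pow, e, ← mul_assoc, ← map_mul] at h3
    exact not_dg_eq_dg_wsw 1 1 _ _ ((map_one (dg (F := F) (ι := ι))).trans h3.symm)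
  have hm := pow_orderOf_eq_one g
  set m := orderOf g with hmdef
  rw [hge, ← map_pow, ← map_one (dg (F := F) (ι := ι))] at hm
  have hm' := dg_injective hm
  simp only [Prod.pow_mk, Prod.mk_eq_one] at hm'
  obtain ⟨haM, hbM⟩ := (hd a b).1 (hge ▸ hgM)
  obtain ⟨x, hx⟩ := hG.odd a haM (hodd.of_dvd_nat (orderOf_dvd_of_pow_eq_one hm'.1)) ha
  obtain ⟨y, hy⟩ := hG.odd b hbM (hodd.of_dvd_nat (orderOf_dvd_of_pow_eq_one hm'.2)) hb
  have hxy : x = y := by
    have h := h1 (hg wsw (h0 (wsw_mem0 hG)))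
    rw [hge, mul_assoc, ← map_inv, wsw_dg, ← mul_assoc, ← map_mul] at h
    obtain ⟨c, hc, d, hd, e | e⟩ := h
    · exact absurd e.symm (not_dg_eq_dg_wsw _ _ _ _)
    · have e' := dg_injective (mul_right_cancel e)
      simp only [Prod.inv_mk, Prod.mk_mul_mk, Prod.mk.injEq] at e'
      rw [← hx, ← hy, ← map_inv, ← map_mul] at e'
      obtain ⟨k, hk⟩ := hG.two ⟨c, hc⟩
      have hk' : (x * y⁻¹) ^ 2 ^ k = 1 := scal_injective (F := F) (ι := ι) (by
        rw [map_pow, e'.1, map_one]; exact congrArg Subtype.val hk)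
      have hkm : (x * y⁻¹) ^ m = 1 := by
        have h1' : x ^ m = 1 := scal_injective (F := F) (ι := ι) (by rw [map_pow, hx, hm'.1, map_one])
        have h2' : y ^ m = 1 := scal_injective (F := F) (ι := ι) (by rw [map_pow, hy, hm'.2, map_one])
        rw [mul_pow, h1', _root_.inv_pow, h2', inv_one, mul_one]
      exact mul_inv_eq_one.1 (eq_one_of_odd_two hodd hkm hk')
  exact ⟨x, by rw [hge, scal_sum, ← hx, ← hy, hxy]⟩

/-- One induction step. -/
theorem step [Nonempty ι] {M' : Subgroup (GL (ι ⊕ ι) F)}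
    (hd : ∀ a b : GL ι F, dg (a, b) ∈ M' ↔ a ∈ M ∧ b ∈ M) (hw : wsw ∈ M') :
    ∃ T' : Subgroup (GL (ι ⊕ ι) F), Good M' T' ∧
      ∀ g ∈ M', Odd (orderOf g) →
        (∀ t ∈ T', Matrix.GeneralLinearGroup.det t = 1 → g * t * g⁻¹ ∈ T') → g ∈ (scal F (ι ⊕ ι)).range := by
  have hWM : wreath hG ≤ M' := by
    rintro _ ⟨a, ha, b, hb, rfl | rfl⟩
    · exact (hd a b).2 ⟨hG.le ha, hG.le hb⟩
    · exact mul_mem ((hd a b).2 ⟨hG.le ha, hG.le hb⟩) hw
  have hmax : ∀ P : Subgroup (GL (ι ⊕ ι) F), wreath hG ≤ P → P ≤ M' → IsPGroup 2 P → P = wreath hG := by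
    intro P hP hPM hP2
    by_contra hne
    have hlt : wreath hG < P := lt_of_le_of_ne hP (Ne.symm hne)
    have := hP2.isNilpotent
    have hsub : (wreath hG).subgroupOf P < ⊤ := lt_top_iff_ne_top.2 fun h =>
      hlt.not_ge (Subgroup.subgroupOf_eq_top.1 h)
    obtain ⟨g, hgN, hgW⟩ := SetLike.exists_of_lt (Group.normalizerCondition_of_isNilpotent _ hsub)
    apply hgW
    rw [Subgroup.mem_subgroupOf]
    have hconj : ∀ x ∈ wreath hG, (g : GL (ι ⊕ ι) F) * x * (g : GL (ι ⊕ ι) F)⁻¹ ∈ wreath hG := fun x hx => by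
      have := ((Subgroup.mem_normalizer_iff.1 hgN) ⟨x, hP hx⟩).1 (Subgroup.mem_subgroupOf.2 hx)
      simpa [Subgroup.mem_subgroupOf] using this
    obtain ⟨a, b, hab, ha, hb⟩ := normalizes_blocks hG (fun x hx => hx.1) le_rfl hconj
    have habM : a ∈ M ∧ b ∈ M := by
      rw [← hd]
      rcases hab with e | e
      · exact e ▸ hPM g.2
      · have := mul_mem (hPM g.2) (inv_mem hw)
        rwa [e, mul_inv_cancel_right] at this
    obtain ⟨t, ht, z, hzm, hzo, hzn, rfl⟩ := exists_odd_part' M T hG.le hG.two hG.max habM.1 ha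
    obtain ⟨u, hu, z', hzm', hzo', hzn', rfl⟩ := exists_odd_part' M T hG.le hG.two hG.max habM.2 hb
    have hzM : z ∈ M := (Subgroup.zpowers_le.2 habM.1) hzm
    have hzM' : z' ∈ M := (Subgroup.zpowers_le.2 habM.2) hzm'
    obtain ⟨x, hx⟩ := hG.odd z hzM hzo hzn
    obtain ⟨y, hy⟩ := hG.odd z' hzM' hzo' hzn'
    have hkey : dg (z, z') ∈ P → dg (z, z') ∈ wreath hG := by
      intro h
      obtain ⟨k, hk⟩ := hP2 ⟨_, h⟩
      have hk' : dg ((z, z') ^ 2 ^ k) = 1 := by rw [map_pow]; exact congrArg Subtype.val hk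
      rw [← map_one (dg (F := F) (ι := ι))] at hk'
      have hk'' := dg_injective hk'
      simp only [Prod.pow_mk, Prod.mk_eq_one, ← hx, ← hy, ← map_pow] at hk''
      rw [← hx, ← hy]
      exact dg_mem hG (scal_mem_sylow hG (k := k) (scal_injective (by rw [hk''.1, map_one])) (hx ▸ hzM))
        (scal_mem_sylow hG (k := k) (scal_injective (by rw [hk''.2, map_one])) (hy ▸ hzM'))
    have e : dg (t * z, u * z') = dg (t, u) * dg (z, z') := by rw [← map_mul]; rfl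
    have htu := dg_mem hG ht hu
    rcases hab with e' | e'
    · rw [e', e]
      refine mul_mem htu (hkey ?_)
      have := mul_mem (inv_mem (hP htu)) g.2
      rwa [e', e, inv_mul_cancel_left] at this
    · rw [e', e]
      refine mul_mem (mul_mem htu (hkey ?_)) (wsw_mem hG)
      have := mul_mem (mul_mem (inv_mem (hP htu)) g.2) (inv_mem (hP (wsw_mem hG)))
      rwa [e', e, mul_assoc, mul_inv_cancel_right, inv_mul_cancel_left] at this
  refine ⟨wreath hG, ⟨hWM, isPGroup_wreath hG, hmax, ?_, fun g hgM hodd hg =>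
    odd_scalar hG hd (fun x hx => hx.1) le_rfl hgM hodd hg, ?_, ?_⟩, fun g hgM hodd hg => ?_⟩
  · rw [scal_sum]
    exact (hd _ _).2 ⟨hG.neg, hG.neg⟩
  · rw [eq_top_iff]
    intro M _
    set S := {N : Matrix (ι ⊕ ι) (ι ⊕ ι) F |
      ∃ t ∈ wreath hG, Matrix.GeneralLinearGroup.det t = 1 ∧ (t : Matrix (ι ⊕ ι) (ι ⊕ ι) F) = N} with hS
    have hdiag : ∀ A B : Matrix ι ι F, Matrix.fromBlocks A 0 0 B ∈ Submodule.span F S := fun A B => by
      refine Submodule.span_mono ?_ (blocks_mem_span hG A B)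
      rintro _ ⟨x, hx, rfl⟩
      have hx' : x ∈ wreath0 hG := Subgroup.commutator_le_self _ hx
      exact ⟨x, hx'.1, hx'.2, rfl⟩
    have hmul : ∀ x ∈ S, ∀ y ∈ S, x * y ∈ S := by
      rintro _ ⟨x, hx, dx, rfl⟩ _ ⟨y, hy, dy, rfl⟩
      exact ⟨x * y, mul_mem hx hy, by rw [map_mul, dx, dy, one_mul], rfl⟩
    have hw : ((wsw : GL (ι ⊕ ι) F) : Matrix (ι ⊕ ι) (ι ⊕ ι) F) ∈ Submodule.span F S :=
      Submodule.subset_span ⟨wsw, wsw_mem hG, det_wsw, rfl⟩
    have := add_mem (hdiag M.toBlocks₁₁ M.toBlocks₂₂)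
      (mul_mem_span S hmul (hdiag M.toBlocks₁₂ (-M.toBlocks₂₁)) hw)
    simpa [coe_wsw, Matrix.fromBlocks_multiply, Matrix.fromBlocks_add, Matrix.fromBlocks_toBlocks] using this
  · obtain ⟨t, ht, u, hu, dt, du, htu⟩ := hG.nc
    refine ⟨dg (t, 1), ?_, dg (u, 1), ?_, by simp [det_dg, dt], by simp [det_dg, du], fun h => htu ?_⟩
    · exact dg_mem hG ht (one_mem _)
    · exact dg_mem hG hu (one_mem _)
    · rw [← map_mul, ← map_mul] at h
      exact congrArg Prod.fst (dg_injective h)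
  · refine odd_scalar hG hd le_rfl (fun x hx => hx.1) hgM hodd fun x hx => ?_
    have hdet : Matrix.GeneralLinearGroup.det x = 1 := hx.2
    exact ⟨hg x hx.1 hdet, MonoidHom.mem_ker.2 (by
      rw [map_mul, map_mul, map_inv, hdet, mul_one, mul_inv_cancel])⟩

end Cfsg.Agent.OddIndex
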